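import Cfsg.Agent.Quat.SL23

set_option autoImplicit false

/-!
Recognition of `Q₈` and `SL(2,3)` as subgroups from elements `s, t, x`.
-/

namespace Cfsg.Agent.H62

open Cfsg.Agent.Quat Subgroup

variable {G : Type*} [Group G]

/-- `Q₈ →* G` -/
def qf (s t : G) (h4 : s ^ (2 * 2) = 1) (ht : t * t = s ^ 2) (hst : t * s * t⁻¹ = s⁻¹) :
    QuaternionGroup 2 →* G := lift 2 s t h4 ht hst

theorem qf_mem {s t : G} (h4 : s ^ (2 * 2) = 1) (ht : t * t = s ^ 2) (hst : t * s * t⁻¹ = s⁻¹)
    {R : Subgroup G} (hs : s ∈ R) (ht' : t ∈ R) (y : QuaternionGroup 2) : qf s t h4 ht hst y ∈ R := by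
  rcases y with i | i
  · exact R.pow_mem hs _
  · exact R.mul_mem ht' (R.pow_mem hs _)

theorem qf_a_one {s t : G} (h4 : s ^ (2 * 2) = 1) (ht : t * t = s ^ 2) (hst : t * s * t⁻¹ = s⁻¹) :
    qf s t h4 ht hst (.a 1) = s := pow_one _

theorem qf_xa_zero {s t : G} (h4 : s ^ (2 * 2) = 1) (ht : t * t = s ^ 2) (hst : t * s * t⁻¹ = s⁻¹) :
    qf s t h4 ht hst (.xa 0) = t := by
  change t * zp s 0 = t
  rw [zp_zero, mul_one]

theorem qf_range {s t : G} (h4 : s ^ (2 * 2) = 1) (ht : t * t = s ^ 2) (hst : t * s * t⁻¹ = s⁻¹) :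
    (qf s t h4 ht hst).range = closure {s, t} := by
  apply le_antisymm
  · rintro _ ⟨y, rfl⟩
    exact qf_mem h4 ht hst (subset_closure (by simp)) (subset_closure (by simp)) y
  · rw [closure_le]
    rintro z (rfl | rfl)
    · exact ⟨.a 1, qf_a_one h4 ht hst⟩
    · exact ⟨.xa 0, qf_xa_zero h4 ht hst⟩

theorem closure_equiv_quat {s t : G} (h4 : s ^ (2 * 2) = 1) (hs : s ^ 2 ≠ 1) (ht : t * t = s ^ 2)
    (hst : t * s * t⁻¹ = s⁻¹) : Nonempty (↥(closure {s, t}) ≃* QuaternionGroup 2) := by
  rw [← qf_range h4 ht hst]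
  exact ⟨(MonoidHom.ofInjective (f := qf s t h4 ht hst) (lift_injective h4 hs ht hst)).symm⟩

theorem sup_equiv_sl23 {s t x : G} (h4 : s ^ (2 * 2) = 1) (hs : s ^ 2 ≠ 1) (ht : t * t = s ^ 2)
    (hst : t * s * t⁻¹ = s⁻¹) (hxs : x * s * x⁻¹ = t) (hxt : x * t * x⁻¹ = s * t) (hx3 : x ^ 3 = 1)
    (hx1 : x ≠ 1) : Nonempty (↥(closure {s, t} ⊔ zpowers x) ≃* SL23) := by
  let F1 : QuaternionGroup 2 →* G := qf s t h4 ht hst
  let F2 : Multiplicative (ZMod 3) →* G :=
    { toFun := fun c => zp x (Multiplicative.toAdd c)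
      map_one' := zp_zero _
      map_mul' := fun c d => zp_add hx3 _ _ }
  have hF1inj : Function.Injective F1 := lift_injective h4 hs ht hst
  have hF1beta : F1.comp beta.toMonoidHom = (MulAut.conj x).toMonoidHom.comp F1 := by
    apply quat_hom_ext
    · change F1 (betaFun (.a 1)) = x * F1 (.a 1) * x⁻¹
      change t * zp s 0 = x * zp s 1 * x⁻¹
      rw [zp_zero, mul_one, show zp s (1 : ZMod (2 * 2)) = s from pow_one _, hxs]
    · change F1 (betaFun (.xa 0)) = x * F1 (.xa 0) * x⁻¹
      change t * zp s 3 = x * (t * zp s 0) * x⁻¹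
      rw [zp_zero, mul_one, hxt, show zp s (3 : ZMod (2 * 2)) = s ^ 3 from rfl]
      have h3 : t * s⁻¹ = s * t := by
        have : t * s⁻¹ * t⁻¹ = s := by
          have := congrArg (·⁻¹) hst
          simp only [mul_inv_rev, inv_inv] at this
          rw [mul_assoc]; exact this
        exact mul_inv_eq_iff_eq_mul.1 this
      have h4' : s ^ 3 = s⁻¹ := by
        rw [eq_inv_iff_mul_eq_one, ← pow_succ]
        exact h4
      rw [h4', h3]
  have hbeta : ∀ (k : ℕ) (y : QuaternionGroup 2), F1 ((beta ^ k) y) = x ^ k * F1 y * (x ^ k)⁻¹ := by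
    intro k
    induction k with
    | zero => intro y; simp
    | succ k ih =>
      intro y
      have h1 : F1 (beta y) = x * F1 y * x⁻¹ := DFunLike.congr_fun hF1beta y
      rw [pow_succ, MulAut.mul_apply, ih, h1, pow_succ]
      group
  have hcompat : ∀ g : Multiplicative (ZMod 3), F1.comp (phi g).toMonoidHom = (MulAut.conj (F2 g)).toMonoidHom.comp F1 := by
    intro g
    ext1 y
    exact hbeta _ y
  let Psi : QuaternionGroup 2 ⋊[phi] Multiplicative (ZMod 3) →* G := SemidirectProduct.lift F1 F2 hcompat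
  have hinj : Function.Injective Psi := by
    rw [injective_iff_map_eq_one]
    rintro ⟨y, c⟩ h
    have h1 : F1 y * F2 c = 1 := h
    have h2 : F1 y = (F2 c)⁻¹ := eq_inv_of_mul_eq_one_left h1
    have h3 : F1 y ^ 3 = 1 := by
      rw [h2, inv_pow, inv_eq_one]
      change (x ^ (Multiplicative.toAdd c).val) ^ 3 = 1
      rw [← pow_mul, mul_comm, pow_mul, hx3, one_pow]
    have h5 : F1 y ^ 4 = 1 := by
      have : ∀ y : QuaternionGroup 2, y ^ 4 = 1 := by decide
      rw [← map_pow, this, map_one]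
    have h6 : F1 y = 1 := by
      calc F1 y = F1 y ^ 4 * (F1 y ^ 3)⁻¹ := by group
        _ = 1 := by rw [h5, h3]; simp
    have h7 : y = 1 := hF1inj (by rw [h6, map_one])
    subst h7
    have h8 : F2 c = 1 := by rw [map_one, one_mul] at h1; exact h1
    have h9 : c = 1 := by
      have h10 : ∀ c : Multiplicative (ZMod 3), c = 1 ∨ (Multiplicative.toAdd c).val = 1 ∨ (Multiplicative.toAdd c).val = 2 := by
        decide
      rcases h10 c with h | h | h
      · exact h
      · exfalso
        apply hx1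
        have : x ^ (Multiplicative.toAdd c).val = 1 := h8
        rwa [h, pow_one] at this
      · exfalso
        apply hx1
        have h11 : x ^ (Multiplicative.toAdd c).val = 1 := h8
        rw [h] at h11
        calc x = x ^ 3 * (x ^ 2)⁻¹ := by group
          _ = 1 := by rw [hx3, h11]; simp
    subst h9
    rfl
  have hrange : Psi.range = closure {s, t} ⊔ zpowers x := by
    apply le_antisymm
    · rintro _ ⟨⟨y, c⟩, rfl⟩
      change F1 y * F2 c ∈ _
      apply mul_mem
      · apply mem_sup_left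
        rw [← qf_range h4 ht hst]
        exact ⟨y, rfl⟩
      · exact mem_sup_right ((zpowers x).pow_mem (mem_zpowers x) _)
    · apply sup_le
      · rw [← qf_range h4 ht hst]
        rintro _ ⟨y, rfl⟩
        refine ⟨SemidirectProduct.inl y, ?_⟩
        change SemidirectProduct.lift F1 F2 hcompat (SemidirectProduct.inl y) = F1 y
        rw [SemidirectProduct.lift_inl]
      · rw [zpowers_le]
        refine ⟨SemidirectProduct.inr (Multiplicative.ofAdd 1), ?_⟩
        change SemidirectProduct.lift F1 F2 hcompat (SemidirectProduct.inr _) = x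
        rw [SemidirectProduct.lift_inr]
        exact pow_one x
  rw [← hrange]
  exact ⟨(MonoidHom.ofInjective hinj).symm.trans equivSL⟩

end Cfsg.Agent.H62
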