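import Mathlib

set_option autoImplicit false

namespace Cfsg.Agent.H62.Pyr

/-- `G` acts (by conjugation) 2-transitively on the non-identity elements of `E`. -/
def TwoTr {G : Type*} [Group G] (E : Subgroup G) : Prop :=
  ∀ a ∈ E, ∀ b ∈ E, ∀ c ∈ E, ∀ d ∈ E, a ≠ 1 → b ≠ 1 → a ≠ b → c ≠ 1 → d ≠ 1 → c ≠ d →
    ∃ g : G, g * a * g⁻¹ = c ∧ g * b * g⁻¹ = d

end Cfsg.Agent.H62.Pyr
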