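import Cfsg.Agent.Cop.Basic
import Cfsg.Agent.H91.CoprimeAb
import Cfsg.Agent.Frob.Basic
import Cfsg.Agent.Solv.Frattini
import Cfsg.Agent.Solv.Core

set_option autoImplicit false
set_option linter.style.haveILetI false
set_option linter.unusedSectionVars false

/-!
Mazurov's lemma: Frobenius groups acting on a normal subgroup.
-/

namespace Cfsg.Agent.H62

open Subgroup
open scoped Pointwise commutatorElement

/-- If all norms of a Frobenius complement are trivial, the kernel acts trivially. -/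
theorem act_trivially_of_norm {L V : Type*} [Group L] [CommGroup V] [Finite V] [MulDistribMulAction L V]
    (F : Subgroup L) [Finite F] (x : L) (n : ℕ) (hn : 0 < n) (hxF : ∀ f ∈ F, x * f * x⁻¹ ∈ F)
    (hfree : ∀ i, 0 < i → i < n → ∀ f ∈ F, x ^ i * f = f * x ^ i → f = 1)
    (hnorm : ∀ v : V, ∏ i ∈ Finset.range n, x ^ i • v = 1)
    (hcop : (Nat.card F).Coprime (Nat.card V)) : ∀ f ∈ F, ∀ v : V, f • v = v := by
  classical
  cases nonempty_fintype F
  have hxiF : ∀ i : ℕ, ∀ f ∈ F, x ^ i * f * (x ^ i)⁻¹ ∈ F := by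
    intro i
    induction i with
    | zero => intro f hf; simpa using hf
    | succ i ih =>
      intro f hf
      have : x ^ (i + 1) * f * (x ^ (i + 1))⁻¹ = x * (x ^ i * f * (x ^ i)⁻¹) * x⁻¹ := by
        rw [pow_succ']; group
      rw [this]
      exact hxF _ (ih f hf)
  -- conjugation by x^i is a bijection of F
  have hnx : ∀ (i : ℕ) (v : V), H91.nrm F V (x ^ i • v) = x ^ i • H91.nrm F V v := by
    intro i v
    rw [H91.nrm_apply, H91.nrm_apply, Finset.smul_prod']
    symm
    refine Fintype.prod_bijective (fun f : F => (⟨x ^ i * f * (x ^ i)⁻¹, hxiF i f f.2⟩ : F)) ?_ _ _ ?_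
    · rw [Fintype.bijective_iff_injective_and_card]
      refine ⟨?_, rfl⟩
      intro f g hfg
      have h1 : x ^ i * f * (x ^ i)⁻¹ = x ^ i * g * (x ^ i)⁻¹ := congrArg Subtype.val hfg
      exact Subtype.ext (mul_left_cancel (mul_right_cancel h1))
    · intro f
      change x ^ i • ((f : L) • v) = (x ^ i * f * (x ^ i)⁻¹ : L) • (x ^ i • v)
      rw [← mul_smul, ← mul_smul, inv_mul_cancel_right]
  have hker : ∀ v : V, H91.nrm F V v = 1 → v = 1 := by
    intro v hv
    have h1 : ∀ f : F, ∏ i ∈ Finset.range n, ((f : L) * x ^ i * (f : L)⁻¹) • v = 1 := by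
      intro f
      have h2 := hnorm ((f : L)⁻¹ • v)
      have h3 : ∏ i ∈ Finset.range n, ((f : L) * x ^ i * (f : L)⁻¹) • v =
          (f : L) • ∏ i ∈ Finset.range n, x ^ i • ((f : L)⁻¹ • v) := by
        rw [Finset.smul_prod']
        apply Finset.prod_congr rfl
        intro i _
        rw [← mul_smul, ← mul_smul]
      rw [h3, h2, smul_one]
    have h4 : ∏ f : F, ∏ i ∈ Finset.range n, ((f : L) * x ^ i * (f : L)⁻¹) • v = 1 := by
      rw [Finset.prod_congr rfl (fun f _ => h1 f)]
      simp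
    rw [Finset.prod_comm] at h4
    have h5 : ∀ i ∈ Finset.range n, i ≠ 0 → ∏ f : F, ((f : L) * x ^ i * (f : L)⁻¹) • v = 1 := by
      intro i hi hi0
      have h6 : ∏ f : F, ((f : L) * x ^ i * (f : L)⁻¹) • v = H91.nrm F V (x ^ i • v) := by
        rw [H91.nrm_apply]
        refine Fintype.prod_bijective (fun f : F =>
          (⟨(f : L) * (x ^ i * (f : L)⁻¹ * (x ^ i)⁻¹), F.mul_mem f.2 (hxiF i _ (F.inv_mem f.2))⟩ : F)) ?_ _ _ ?_
        · rw [Fintype.bijective_iff_injective_and_card]
          refine ⟨?_, rfl⟩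
          intro f g hfg
          have h7 : (f : L) * (x ^ i * (f : L)⁻¹ * (x ^ i)⁻¹) = g * (x ^ i * (g : L)⁻¹ * (x ^ i)⁻¹) :=
            congrArg Subtype.val hfg
          have h8 : x ^ i * ((g : L)⁻¹ * f) = ((g : L)⁻¹ * f) * x ^ i := by
            have h9 : (f : L) * x ^ i * (f : L)⁻¹ = g * x ^ i * (g : L)⁻¹ := by
              have := congrArg (· * x ^ i) h7
              simp only [mul_assoc, inv_mul_cancel, mul_one] at this
              simpa only [mul_assoc] using this
            calc x ^ i * ((g : L)⁻¹ * f) = (g : L)⁻¹ * (g * x ^ i * (g : L)⁻¹) * f := by group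
              _ = (g : L)⁻¹ * (f * x ^ i * (f : L)⁻¹) * f := by rw [h9]
              _ = ((g : L)⁻¹ * f) * x ^ i := by group
          have h10 := hfree i (Nat.pos_of_ne_zero hi0) (Finset.mem_range.1 hi) _
            (F.mul_mem (F.inv_mem g.2) f.2) h8
          exact Subtype.ext (inv_mul_eq_one.1 h10).symm
        · intro f
          change _ = ((f : L) * (x ^ i * (f : L)⁻¹ * (x ^ i)⁻¹)) • (x ^ i • v)
          rw [← mul_smul]
          congr 1
          group
      rw [h6, hnx, hv, smul_one]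
    rw [Finset.prod_eq_single_of_mem 0 (Finset.mem_range.2 hn) h5] at h4
    have h6 : v ^ Nat.card F = 1 := by
      simpa using h4
    have h7 := (powCoprime (G := V) hcop.symm).injective (a₁ := v) (a₂ := 1)
      (by change v ^ Nat.card F = 1 ^ Nat.card F; rw [h6, one_pow])
    exact h7
  intro f hf v
  have h1 : H91.nrm F V (v⁻¹ * f • v) = 1 := by
    rw [map_mul, map_inv]
    have := H91.nrm_smul (A := F) (V := V) ⟨f, hf⟩ v
    change H91.nrm F V (f • v) = _ at this
    rw [this, inv_mul_cancel]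
  exact (inv_mul_eq_one.1 (hker _ h1)).symm

/-- orders of elements: if `y^n ∈ N`, the image of `y` has order `n` and `y^n ≠ 1` then there is an element
of order `p n`, `p ∣ |N|`. -/
theorem exists_order_mul {G : Type*} [Group G] [Finite G] (N : Subgroup G) [N.Normal] {y : G} {n : ℕ}
    (hy : orderOf (QuotientGroup.mk' N y) = n) (hyn : y ^ n ≠ 1) :
    ∃ p : ℕ, p.Prime ∧ p ∣ Nat.card N ∧ ∃ g : G, orderOf g = p * n := by
  have hmem : y ^ n ∈ N := by
    rw [← QuotientGroup.eq_one_iff]
    have h1 : (QuotientGroup.mk' N y) ^ n = 1 := by rw [← hy]; exact pow_orderOf_eq_one _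
    rw [← map_pow] at h1
    exact h1
  have hn0 : n ≠ 0 := by rw [← hy]; exact (orderOf_pos _).ne'
  have hdvd : n ∣ orderOf y := by rw [← hy]; exact orderOf_map_dvd _ y
  have hk : orderOf (y ^ n) = orderOf y / n := by
    rw [orderOf_pow_of_dvd hn0 hdvd]
  set k := orderOf (y ^ n) with hkdef
  have hk1 : k ≠ 1 := fun h => hyn (orderOf_eq_one_iff.1 h)
  have hyk : orderOf y = n * k := by rw [hk, Nat.mul_div_cancel' hdvd]
  obtain ⟨p, hp, hpk⟩ := Nat.exists_prime_and_dvd hk1
  have hkN : k ∣ Nat.card N := by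
    rw [hkdef, ← Subgroup.orderOf_mk _ hmem]
    exact orderOf_dvd_natCard _
  refine ⟨p, hp, hpk.trans hkN, y ^ (k / p), ?_⟩
  have hk0 : 0 < k := orderOf_pos _
  obtain ⟨m, hm⟩ := hpk
  have hm0 : m ≠ 0 := by rintro rfl; omega
  have hkp : k / p = m := by rw [hm, Nat.mul_div_cancel_left _ hp.pos]
  rw [hkp, orderOf_pow_of_dvd hm0 (by rw [hyk, hm]; exact ⟨n * p, by ring⟩), hyk, hm]
  have : n * (p * m) = (p * n) * m := by ring
  rw [this, Nat.mul_div_cancel _ (Nat.pos_of_ne_zero hm0)]

/-- an invariant Sylow subgroup not contained in a given subgroup -/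
theorem exists_invariant_sylow_not_le {X : Type*} [Group X] [Finite X] {A K C : Subgroup X}
    (hAK : A ≤ normalizer (K : Set X)) (hcop : (Nat.card A).Coprime (Nat.card K))
    (hs : Group.IsSolvable A ∨ Group.IsSolvable K) (hKC : ¬ K ≤ C) :
    ∃ (p : ℕ) (_ : p.Prime) (P : Sylow p K), A ≤ normalizer ((P : Subgroup K).map K.subtype : Set X) ∧
      ¬ (P : Subgroup K).map K.subtype ≤ C := by
  by_contra hcon
  push Not at hcon
  apply hKC
  have hex : ∀ p : Nat.Primes, ∃ P : Sylow (p : ℕ) K, A ≤ normalizer ((P : Subgroup K).map K.subtype : Set X) := by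
    intro p
    haveI : Fact (p : ℕ).Prime := ⟨p.2⟩
    exact Cop.exists_invariant_sylow hAK hcop hs p
  choose P hP using hex
  have h1 := Solv.iSup_sylow_eq_top P
  have h2 : (⊤ : Subgroup K).map K.subtype ≤ C := by
    rw [← h1, Subgroup.map_iSup]
    exact iSup_le fun p => hcon p p.2 (P p) (hP p)
  intro x hx
  exact h2 ⟨⟨x, hx⟩, mem_top _, rfl⟩

end Cfsg.Agent.H62
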