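import Mathlib
import Cfsg.Agent.H72.Kazarin
import Cfsg.Agent.H67.Kazarin
import Cfsg.Agent.Solv.Core

set_option autoImplicit false
set_option linter.unusedSectionVars false
set_option linter.style.haveILetI false

universe u

open Subgroup

namespace Cfsg.Agent.H62.Pyr

theorem sq_iff_orderOf {G : Type*} [Group G] {x : G} (hx : x ≠ 1) : x * x = 1 ↔ orderOf x = 2 := by
  constructor
  · intro h
    exact orderOf_eq_prime (by rw [pow_two]; exact h) hx
  · intro h
    rw [← pow_two, ← h]; exact pow_orderOf_eq_one x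

theorem ne_one_of_orderOf_two {G : Type*} [Group G] {x : G} (hx : orderOf x = 2) : x ≠ 1 := by
  rintro rfl
  rw [orderOf_one] at hx; omega

theorem odd_card_pCore {G : Type u} [Group G] [Finite G] {p : ℕ} (hp : p.Prime) (hp2 : p ≠ 2) :
    Odd (Nat.card (pCore p G)) := by
  haveI : Fact p.Prime := ⟨hp⟩
  obtain ⟨n, hn⟩ := (IsPGroup.iff_card (p := p)).1 (Solv.pCore_isPGroup (G := G) p)
  rw [hn]
  exact (hp.odd_of_ne_two hp2).pow

/-- an element of `G/N`, `|N|` odd, with square one lifts to an element with square one -/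
theorem lift_sq {G : Type u} [Group G] [Finite G] (N : Subgroup G) [N.Normal] (hN : Odd (Nat.card N))
    (y : G ⧸ N) (hy : y * y = 1) : ∃ x : G, QuotientGroup.mk' N x = y ∧ x * x = 1 := by
  obtain ⟨x, rfl⟩ := QuotientGroup.mk'_surjective N y
  have h1 : x * x ∈ N := by
    rw [← QuotientGroup.ker_mk' N, MonoidHom.mem_ker, map_mul]; exact hy
  set n := Nat.card N with hn
  refine ⟨x ^ n, ?_, ?_⟩
  · rw [map_pow]
    obtain ⟨c, hc⟩ := hN
    rw [hc, pow_succ, pow_mul, pow_two, hy, one_pow, one_mul]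
  · rw [← pow_add, ← two_mul, pow_mul, pow_two]
    have h2 : ((⟨x * x, h1⟩ : N) ^ Nat.card N : N) = 1 := pow_card_eq_one'
    exact congrArg Subtype.val h2

theorem exists_invol {G : Type u} [Group G] [Finite G] {p k : ℕ} (hp : p.Prime)
    (hcard : Nat.card {x : G // orderOf x = 2} = p ^ k) : ∃ z : G, orderOf z = 2 := by
  have h1 : 0 < Nat.card {x : G // orderOf x = 2} := by rw [hcard]; exact pow_pos hp.pos k
  haveI : Nonempty {x : G // orderOf x = 2} := (Nat.card_pos_iff.1 h1).1
  obtain ⟨⟨z, hz⟩⟩ := (inferInstance : Nonempty {x : G // orderOf x = 2})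
  exact ⟨z, hz⟩

theorem index_cent {G : Type u} [Group G] [Finite G] {n : ℕ}
    (hcard : Nat.card {x : G // orderOf x = 2} = n)
    (hconj : ∀ x y : G, orderOf x = 2 → orderOf y = 2 → ∃ g : G, g * x * g⁻¹ = y)
    (z : G) (hz : orderOf z = 2) : (centralizer ({z} : Set G)).index = n := by
  rw [← Cfsg.Agent.H67.natCard_isConj_eq_index, ← hcard]
  refine Nat.card_congr (Equiv.subtypeEquivRight fun x => ?_)
  constructor
  · rintro h
    rw [isConj_iff] at h
    obtain ⟨g, rfl⟩ := h
    rw [← hz]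
    exact MulEquiv.orderOf_eq (MulAut.conj g) z
  · intro hx
    rw [isConj_iff]
    exact hconj z x hz hx

theorem red {G : Type u} [Group G] [Finite G] {p k : ℕ} (hp : p.Prime) (hp2 : p ≠ 2)
    (hcard : Nat.card {x : G // orderOf x = 2} = p ^ k)
    (hconj : ∀ x y : G, orderOf x = 2 → orderOf y = 2 → ∃ g : G, g * x * g⁻¹ = y) :
    ∃ E : Subgroup (G ⧸ pCore p G), (∀ x, x ∈ E ↔ x * x = 1) ∧
      (∀ x ∈ E, ∀ y ∈ E, x ≠ 1 → y ≠ 1 → ∃ g, g * x * g⁻¹ = y) ∧ ∃ j, Nat.card E = p ^ j + 1 := by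
  haveI : Fact p.Prime := ⟨hp⟩
  set N := pCore p G with hNdef
  have hNo : Odd (Nat.card N) := odd_card_pCore hp hp2
  obtain ⟨z, hz⟩ := exists_invol hp hcard
  have hzi := index_cent hcard hconj z hz
  -- class size of the image
  have hidx : ∃ j, (centralizer ({QuotientGroup.mk' N z} : Set (G ⧸ N))).index = p ^ j := by
    have h1 : (centralizer ({z} : Set G)).map (QuotientGroup.mk' N) ≤
        centralizer ({QuotientGroup.mk' N z} : Set (G ⧸ N)) := by
      rintro _ ⟨g, hg, rfl⟩
      rw [mem_centralizer_singleton_iff, ← map_mul, ← map_mul]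
      congr 1
      exact mem_centralizer_singleton_iff.1 hg
    have h2 : (centralizer ({QuotientGroup.mk' N z} : Set (G ⧸ N))).index ∣ p ^ k := by
      refine (index_dvd_of_le h1).trans ?_
      rw [← hzi]
      exact index_map_dvd _ (QuotientGroup.mk'_surjective N)
    obtain ⟨j, -, hj⟩ := (Nat.dvd_prime_pow hp).1 h2
    exact ⟨j, hj⟩
  have hcore : pCore p (G ⧸ N) = ⊥ := Solv.pCore_quotient_pCore p
  have hcomm := fun g h => Cfsg.Agent.H72.commute_of_pCore_eq_bot hcore (QuotientGroup.mk' N z) hidx g h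
  have hz1 : QuotientGroup.mk' N z ≠ 1 := by
    intro h
    have h1 : z ∈ N := by rw [← QuotientGroup.ker_mk' N, MonoidHom.mem_ker]; exact h
    have h2 : orderOf (⟨z, h1⟩ : N) ∣ Nat.card N := orderOf_dvd_natCard _
    rw [Subgroup.orderOf_mk, hz] at h2
    exact (Nat.not_even_iff_odd.2 hNo) (even_iff_two_dvd.2 h2)
  have hall : ∀ y : G ⧸ N, y * y = 1 → y ≠ 1 → ∃ g, g * (QuotientGroup.mk' N z) * g⁻¹ = y := by
    intro y hy hy1
    obtain ⟨x, rfl, hx⟩ := lift_sq N hNo y hy
    have hx1 : x ≠ 1 := by rintro rfl; exact hy1 (map_one _)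
    obtain ⟨g, hg⟩ := hconj z x hz ((sq_iff_orderOf hx1).1 hx)
    exact ⟨QuotientGroup.mk' N g, by rw [← hg, map_mul, map_mul, map_inv]⟩
  have hzz : (QuotientGroup.mk' N z) * (QuotientGroup.mk' N z) = 1 := by
    rw [← map_mul, (sq_iff_orderOf (ne_one_of_orderOf_two hz)).2 hz, map_one]
  let E : Subgroup (G ⧸ N) :=
    { carrier := {x | x * x = 1}
      one_mem' := by simp
      inv_mem' := by
        intro x hx
        simp only [Set.mem_ofPred_eq] at hx ⊢
        rw [← mul_inv_rev, hx, inv_one]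
      mul_mem' := by
        intro x y hx hy
        simp only [Set.mem_ofPred_eq] at hx hy ⊢
        by_cases hx1 : x = 1
        · rw [hx1, one_mul]; exact hy
        by_cases hy1 : y = 1
        · rw [hy1, mul_one]; exact hx
        obtain ⟨g, rfl⟩ := hall x hx hx1
        obtain ⟨h, rfl⟩ := hall y hy hy1
        set a := g * (QuotientGroup.mk' N z) * g⁻¹
        set b := h * (QuotientGroup.mk' N z) * h⁻¹
        have h1 : a * b = b * a := hcomm g h
        calc a * b * (a * b) = a * b * (b * a) := by rw [h1]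
          _ = a * (b * b) * a := by group
          _ = 1 := by rw [hy, mul_one, hx] }
  have hE : ∀ x, x ∈ E ↔ x * x = 1 := fun x => Iff.rfl
  refine ⟨E, hE, ?_, ?_⟩
  · intro x hx y hy hx1 hy1
    obtain ⟨g, rfl⟩ := hall x hx hx1
    obtain ⟨h, rfl⟩ := hall y hy hy1
    exact ⟨h * g⁻¹, by group⟩
  · obtain ⟨j, hj⟩ := hidx
    refine ⟨j, ?_⟩
    have h1 : (E : Set (G ⧸ N)) = insert 1 {h | IsConj (QuotientGroup.mk' N z) h} := by
      ext y
      rw [Set.mem_insert_iff, Set.mem_ofPred_eq, SetLike.mem_coe, hE, isConj_iff]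
      constructor
      · intro hy
        by_cases hy1 : y = 1
        · exact Or.inl hy1
        · exact Or.inr (hall y hy hy1)
      · rintro (rfl | ⟨g, rfl⟩)
        · exact one_mul 1
        · calc g * (QuotientGroup.mk' N z) * g⁻¹ * (g * (QuotientGroup.mk' N z) * g⁻¹)
              = g * ((QuotientGroup.mk' N z) * (QuotientGroup.mk' N z)) * g⁻¹ := by group
            _ = 1 := by rw [hzz]; group
    have h2 : Nat.card E = (E : Set (G ⧸ N)).ncard := rfl
    rw [h2, h1, Set.ncard_insert_of_notMem ?_ (Set.toFinite _), Cfsg.Agent.H67.ncard_isConj_eq_index, hj]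
    rw [Set.mem_ofPred_eq, isConj_iff]
    rintro ⟨g, hg⟩
    apply hz1
    have : QuotientGroup.mk' N z = g⁻¹ * 1 * g := by rw [← hg]; group
    rw [this]; group

end Cfsg.Agent.H62.Pyr
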