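import Mathlib
import Cfsg.Agent.H62.PyrDef
import Cfsg.Agent.S0675

set_option autoImplicit false
set_option linter.unusedSectionVars false
set_option linter.style.haveILetI false

universe u

open Subgroup

namespace Cfsg.Agent.H62.Pyr

theorem nt {p j m : ℕ} (hp : p.Prime) (hp2 : p ≠ 2) (h : 2 ^ m = p ^ j + 1) :
    m = 1 ∨ (2 ≤ m ∧ p + 1 = 2 ^ m) := by
  have hp3 : 3 ≤ p := by have := hp.two_le; omega
  have hpo : p % 2 = 1 := (hp.eq_two_or_odd).resolve_left hp2
  rcases Nat.eq_zero_or_pos j with rfl | hj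
  · left
    rw [pow_zero] at h
    have : 2 ^ m = 2 ^ 1 := by rw [h]; norm_num
    exact Nat.pow_right_injective le_rfl this
  · right
    have hpj : 3 ≤ p ^ j := le_trans hp3 (Nat.le_self_pow hj.ne' p)
    have hm2 : 2 ≤ m := by
      by_contra hlt
      have : m ≤ 1 := by omega
      have := Nat.pow_le_pow_right (n := 2) (by norm_num) this
      omega
    refine ⟨hm2, ?_⟩
    have h4 : 4 ∣ p ^ j + 1 := by
      rw [← h]
      exact (pow_dvd_pow 2 hm2)
    -- j odd
    have hjo : j % 2 = 1 := by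
      by_contra hne
      obtain ⟨c, hc⟩ : 2 ∣ j := by omega
      have h1 : p ^ j % 4 = 1 := by
        rw [hc, pow_mul, Nat.pow_mod]
        have : p ^ 2 % 4 = 1 := by
          have : p % 4 = 1 ∨ p % 4 = 3 := by omega
          rcases this with h | h <;> rw [Nat.pow_mod, h]
        rw [this, one_pow]; norm_num
      omega
    -- p + 1 = 2 ^ i
    obtain ⟨i, -, hi⟩ : ∃ i ≤ m, p + 1 = 2 ^ i := by
      refine (Nat.dvd_prime_pow Nat.prime_two).1 ?_
      rw [h]
      have := Odd.nat_add_dvd_pow_add_pow p 1 (n := j) (Nat.odd_iff.2 hjo)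
      rwa [one_pow] at this
    have hi1 : 1 ≤ i := by
      rcases Nat.eq_zero_or_pos i with rfl | h1
      · rw [pow_zero] at hi; omega
      · exact h1
    have hsq : p ^ 2 ≡ 1 [MOD 2 ^ (i + 1)] := by
      have e1 : (p + 1) * (p + 1) = 2 ^ (i + 1) * 2 ^ (i - 1) := by
        rw [hi, ← pow_add, ← pow_add]; congr 1; omega
      have e2 : (p ^ 2 - 1) = 2 ^ (i + 1) * 2 ^ (i - 1) - 2 ^ (i + 1) := by
        have : 2 ^ (i + 1) = 2 * (p + 1) := by rw [hi, pow_succ]; ring
        rw [← e1, this]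
        have h3 : p ^ 2 = p * p := by ring
        have h4 : (p + 1) * (p + 1) = p * p + 2 * (p + 1) - 1 := by
          have : (p + 1) * (p + 1) = p * p + 2 * p + 1 := by ring
          omega
        rw [h3, h4]; omega
      refine ((Nat.modEq_iff_dvd' (by nlinarith)).2 ?_).symm
      rw [e2, show 2 ^ (i + 1) * 2 ^ (i - 1) - 2 ^ (i + 1) = 2 ^ (i + 1) * (2 ^ (i - 1) - 1) by
        rw [Nat.mul_sub, mul_one]]
      exact Dvd.intro _ rfl
    have hpj' : p ^ j ≡ p [MOD 2 ^ (i + 1)] := by
      obtain ⟨c, hc⟩ : ∃ c, j = 2 * c + 1 := ⟨j / 2, by omega⟩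
      rw [hc, pow_succ p, pow_mul]
      calc (p ^ 2) ^ c * p ≡ 1 ^ c * p [MOD 2 ^ (i + 1)] := (hsq.pow c).mul_right p
        _ = p := by rw [one_pow, one_mul]
    have hmi : m ≤ i := by
      by_contra hlt
      have h1 : 2 ^ (i + 1) ∣ p ^ j + 1 := by rw [← h]; exact pow_dvd_pow 2 (by omega)
      have h2 : 2 ^ (i + 1) ∣ p + 1 := (Nat.ModEq.dvd_iff (hpj'.add_right 1) (dvd_refl _)).1 h1
      rw [hi] at h2
      have := (Nat.pow_dvd_pow_iff_le_right (x := 2) (by norm_num)).1 h2
      omega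
    have h5 : 2 ^ m ≤ 2 ^ i := Nat.pow_le_pow_right (by norm_num) hmi
    have h6 : p ≤ p ^ j := Nat.le_self_pow hj.ne' p
    omega

/-- conjugation action on the non-identity elements of a normal subgroup -/
def conjPerm {G : Type*} [Group G] (E : Subgroup G) [E.Normal] : G →* Equiv.Perm {x : G // x ∈ E ∧ x ≠ 1} where
  toFun g :=
    { toFun := fun x => ⟨g * x * g⁻¹, (inferInstance : E.Normal).conj_mem _ x.2.1 g, fun h => x.2.2 (by
        have h2 : (x : G) = g⁻¹ * (g * x * g⁻¹) * g := by group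
        rw [h2, h]; group)⟩
      invFun := fun x => ⟨g⁻¹ * x * g, by
        have := (inferInstance : E.Normal).conj_mem _ x.2.1 g⁻¹
        rwa [inv_inv] at this, fun h => x.2.2 (by
        have h2 : (x : G) = g * (g⁻¹ * x * g) * g⁻¹ := by group
        rw [h2, h]; group)⟩
      left_inv := fun x => Subtype.ext (by simp only; group)
      right_inv := fun x => Subtype.ext (by simp only; group) }
  map_one' := by ext x; simp
  map_mul' g h := by ext x; simp [mul_assoc]

theorem conjPerm_coe {G : Type*} [Group G] (E : Subgroup G) [E.Normal] (g : G)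
    (x : {x : G // x ∈ E ∧ x ≠ 1}) : ((conjPerm E g x : {x : G // x ∈ E ∧ x ≠ 1}) : G) = g * x * g⁻¹ := rfl

theorem big_case {G : Type u} [Group G] [Finite G] (E : Subgroup G) [E.Normal]
    {p m : ℕ} (hp : p.Prime) (hcard : Nat.card E = 2 ^ m) (hpm : p + 1 = 2 ^ m)
    (htr : ∀ x ∈ E, ∀ y ∈ E, x ≠ 1 → y ≠ 1 → ∃ g : G, g * x * g⁻¹ = y)
    (hC : Group.IsSolvable (centralizer (E : Set G))) (hS : ¬ TwoTr E) : Group.IsSolvable G := by
  classical
  letI : Fintype {x : G // x ∈ E ∧ x ≠ 1} := Fintype.ofFinite _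
  set φ := conjPerm E with hφ
  have hcardα : Fintype.card {x : G // x ∈ E ∧ x ≠ 1} = p := by
    rw [← Nat.card_eq_fintype_card]
    have h1 : (E : Set G) = insert 1 {x : G | x ∈ E ∧ x ≠ 1} := by
      ext x
      simp only [SetLike.mem_coe, Set.mem_insert_iff, Set.mem_ofPred_eq]
      constructor
      · intro hx
        by_cases h : x = 1
        · exact Or.inl h
        · exact Or.inr ⟨hx, h⟩
      · rintro (rfl | h)
        · exact E.one_mem
        · exact h.1
    have h2 : Nat.card E = Nat.card {x : G // x ∈ E ∧ x ≠ 1} + 1 := by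
      have : Nat.card E = (E : Set G).ncard := rfl
      rw [this, h1, Set.ncard_insert_of_notMem (by simp) (Set.toFinite _)]
      rfl
    omega
  haveI : MulAction.IsPretransitive φ.range {x : G // x ∈ E ∧ x ≠ 1} := by
    constructor
    intro x y
    obtain ⟨g, hg⟩ := htr x x.2.1 y y.2.1 x.2.2 y.2.2
    exact ⟨⟨φ g, g, rfl⟩, Subtype.ext hg⟩
  rcases Cfsg.Agent.S0675.result (by rw [hcardα]; exact hp) φ.range with h | h
  · have hker : Group.IsSolvable φ.ker := by
      have hle : φ.ker ≤ centralizer (E : Set G) := by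
        intro g hg
        rw [mem_centralizer_iff]
        intro x hx
        by_cases hx1 : x = 1
        · rw [hx1, one_mul, mul_one]
        have h1 := congrArg (fun f => ((f ⟨x, hx, hx1⟩ : {x : G // x ∈ E ∧ x ≠ 1}) : G)) (MonoidHom.mem_ker.1 hg)
        have h2 : g * x * g⁻¹ = x := h1
        calc x * g = g * x * g⁻¹ * g := by rw [h2]
          _ = g * x := by group
      haveI := hC
      exact Group.isSolvable_of_isSolvable_injective (Subgroup.inclusion_injective hle)
    haveI := hker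
    haveI := h
    refine Group.isSolvable_of_ker_le_range φ.ker.subtype φ.rangeRestrict ?_
    rw [MonoidHom.ker_rangeRestrict, Subgroup.range_subtype]
  · exfalso
    apply hS
    intro a ha b hb c hc d hd ha1 hb1 hab hc1 hd1 hcd
    rw [MulAction.is_two_pretransitive_iff] at h
    obtain ⟨⟨_, g, rfl⟩, h1, h2⟩ := h (a := ⟨a, ha, ha1⟩) (b := ⟨b, hb, hb1⟩) (c := ⟨c, hc, hc1⟩) (d := ⟨d, hd, hd1⟩)
      (fun e => hab (congrArg Subtype.val e)) (fun e => hcd (congrArg Subtype.val e))
    exact ⟨g, congrArg Subtype.val h1, congrArg Subtype.val h2⟩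

end Cfsg.Agent.H62.Pyr
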