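import Mathlib
import Cfsg.Agent.H62.Pyr1
import Cfsg.Agent.MaxClass.UniqueOrderP
import Cfsg.Agent.FT.Base

set_option autoImplicit false
set_option linter.unusedSectionVars false
set_option linter.style.haveILetI false

universe u

open Subgroup

namespace Cfsg.Agent.H62.Pyr

/-- statement of the lemma on fixed points of quaternion groups -/
def Q8S : Prop := ∀ {N : Type u} [Group N] [Finite N] {p : ℕ} (_ : p.Prime) (_ : p ≠ 2) (_ : IsPGroup p N)
  (i j : MulAut N) (_ : i * i = j * j) (_ : (i * i) * (i * i) = 1) (_ : j * i * j⁻¹ = i⁻¹),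
  ∃ c, Nat.card N = Nat.card {x : N // (i * i) x = x} * (p ^ c) ^ 2

/-- statement of the lemma for nine involutions -/
def Nine : Prop := ∀ {G : Type u} [Group G] [Finite G] (N : Subgroup G) [N.Normal] (_ : Odd (Nat.card N))
  (z : G) (_ : orderOf z = 2) (_ : ∀ x : G, x * z = z * x → orderOf x = 2 → x = z)
  (_ : Nat.card {x : G // x ∈ N ∧ z * x * z⁻¹ = x⁻¹} = 9),
  Group.IsSolvable (Subgroup.centralizer ({z} : Set G))

theorem solvable_ext {G : Type u} [Group G] (N : Subgroup G) [N.Normal] (hN : Group.IsSolvable N)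
    (hQ : Group.IsSolvable (G ⧸ N)) : Group.IsSolvable G :=
  (Group.isSolvable_iff_subgroup_quotient N).2 ⟨hN, hQ⟩

/-- cyclic Sylow 2-subgroups -/
theorem solvable_of_cyclic {G : Type u} [Group G] [Finite G] (P : Sylow 2 G) (hP : IsCyclic P) :
    Group.IsSolvable G := by
  by_cases hodd : Odd (Nat.card G)
  · exact FT.solvable_of_odd hodd
  have heven : 2 ∣ Nat.card G := even_iff_two_dvd.1 (Nat.not_odd_iff_even.1 hodd)
  have hmin : (Nat.card G).minFac = 2 := (Nat.minFac_eq_two_iff _).2 heven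
  have hc := IsCyclic.isComplement' hmin hP
  set K := (MonoidHom.transferSylow P (hP.normalizer_le_centralizer hmin)).ker with hK
  have hKo : Odd (Nat.card K) := by
    rw [← Nat.not_even_iff_odd, even_iff_two_dvd]
    exact MonoidHom.not_dvd_card_ker_transferSylow P (hP.normalizer_le_centralizer hmin)
  refine solvable_ext K (FT.solvable_of_odd hKo) ?_
  haveI : Group.IsNilpotent P := P.2.isNilpotent
  haveI : Group.IsSolvable (P : Subgroup G) := inferInstance
  refine Group.isSolvable_of_surjective (f := (QuotientGroup.mk' K).comp (P : Subgroup G).subtype) ?_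
  intro y
  obtain ⟨g, rfl⟩ := QuotientGroup.mk'_surjective K y
  obtain ⟨⟨⟨k, hk⟩, ⟨q, hq⟩⟩, hkq⟩ := hc.2 g
  have hkq' : k * q = g := hkq
  rw [← hkq']
  refine ⟨⟨q, hq⟩, ?_⟩
  simp only [MonoidHom.comp_apply, map_mul]
  have : QuotientGroup.mk' K k = 1 := by rw [← MonoidHom.mem_ker, QuotientGroup.ker_mk']; exact hk
  rw [this, one_mul]; rfl

/-- inverting elements of odd order: explicit conjugation -/
theorem conj_of_mem {G : Type u} [Group G] [Finite G] (N : Subgroup G) (hN : Odd (Nat.card N)) {z r : G}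
    (hz : z * z = 1) (hr : r ∈ N) (hzr : z * r * z⁻¹ = r⁻¹) : ∃ s ∈ N, s⁻¹ * z * s = z * r := by
  have hzi : z⁻¹ = z := inv_eq_of_mul_eq_one_left hz
  have h1 : Odd (orderOf r) := by
    have : orderOf r ∣ Nat.card N := by
      rw [← Subgroup.orderOf_mk r hr]; exact orderOf_dvd_natCard _
    exact hN.of_dvd_nat this
  obtain ⟨c, hc⟩ := h1
  refine ⟨r ^ (c + 1), N.pow_mem hr _, ?_⟩
  have h2 : z⁻¹ * (r ^ (c + 1))⁻¹ * z = r ^ (c + 1) := by
    have h3 : z * r ^ (c + 1) * z⁻¹ = (r ^ (c + 1))⁻¹ := by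
      rw [← conj_pow, hzr, inv_pow]
    rw [← h3]; group
  have h4 : (r ^ (c + 1))⁻¹ * z = z * r ^ (c + 1) := by
    calc (r ^ (c + 1))⁻¹ * z = z * (z⁻¹ * (r ^ (c + 1))⁻¹ * z) := by group
      _ = _ := by rw [h2]
  rw [h4, mul_assoc, ← pow_add, show c + 1 + (c + 1) = 2 * c + 1 + 1 by ring, pow_succ, ← hc,
    pow_orderOf_eq_one, one_mul]

section
variable {G : Type u} [Group G] [Finite G] {p k : ℕ} (hp : p.Prime) (hp2 : p ≠ 2)
  (hcard : Nat.card {x : G // orderOf x = 2} = p ^ k)
  (hconj : ∀ x y : G, orderOf x = 2 → orderOf y = 2 → ∃ g : G, g * x * g⁻¹ = y)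
  (N : Subgroup G) [N.Normal] (hNo : Odd (Nat.card N))
  (hN1 : ∀ x y : G, orderOf x = 2 → orderOf y = 2 → x⁻¹ * y ∈ N)

include hNo hN1 in
theorem conj_N {x y : G} (hx : orderOf x = 2) (hy : orderOf y = 2) : ∃ s ∈ N, s⁻¹ * x * s = y := by
  have hxx := (sq_iff_orderOf (ne_one_of_orderOf_two hx)).2 hx
  have hyy := (sq_iff_orderOf (ne_one_of_orderOf_two hy)).2 hy
  have hr := hN1 x y hx hy
  have hxi : x⁻¹ = x := inv_eq_of_mul_eq_one_left hxx
  have hyi : y⁻¹ = y := inv_eq_of_mul_eq_one_left hyy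
  obtain ⟨s, hs, h⟩ := conj_of_mem N hNo hxx hr (by
    rw [mul_inv_rev, inv_inv, hxi, hyi]
    calc x * (x * y) * x = (x * x) * (y * x) := by group
      _ = y * x := by rw [hxx, one_mul])
  exact ⟨s, hs, by rw [h]; group⟩

include hNo hN1 in
theorem sup_eq_top' {z : G} (hz : orderOf z = 2) : N ⊔ centralizer ({z} : Set G) = ⊤ := by
  rw [eq_top_iff]
  intro g _
  have h1 : orderOf (g * z * g⁻¹) = 2 := by rw [← hz]; exact MulEquiv.orderOf_eq (MulAut.conj g) z
  obtain ⟨s, hs, h2⟩ := conj_N N hNo hN1 h1 hz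
  -- s⁻¹ g centralizes z
  have h3 : s⁻¹ * g ∈ centralizer ({z} : Set G) := by
    rw [mem_centralizer_singleton_iff]
    calc s⁻¹ * g * z = (s⁻¹ * (g * z * g⁻¹) * s) * (s⁻¹ * g) := by group
      _ = z * (s⁻¹ * g) := by rw [h2]
  have h4 : g = s * (s⁻¹ * g) := by group
  rw [h4]
  exact mul_mem_sup hs h3

include hcard hconj hNo hN1 in
theorem card_N {z : G} (hz : orderOf z = 2) :
    Nat.card N = Nat.card {x : N // z * (x : G) = (x : G) * z} * p ^ k := by
  have hi := index_cent hcard hconj z hz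
  have hsup := sup_eq_top' N hNo hN1 hz
  set C := centralizer ({z} : Set G) with hC
  have h1 : N.relIndex C = N.index := by
    have := relIndex_sup_left (K := N) (H := C)
    rw [hsup, relIndex_top_right] at this
    exact this.symm
  have h2 : N.relIndex C * Nat.card (N ⊓ C : Subgroup G) = Nat.card C := by
    rw [inf_comm]
    have := Subgroup.relIndex_mul_relIndex (⊥ : Subgroup G) (C ⊓ N) C bot_le inf_le_left
    rw [relIndex_bot_left, relIndex_bot_left] at this
    rw [← this, mul_comm]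
    congr 1
    rw [inf_comm, inf_relIndex_right]
  have h3 : N.index * Nat.card N = Nat.card G := N.index_mul_card
  have h4 : C.index * Nat.card C = Nat.card G := C.index_mul_card
  have h5 : Nat.card N = Nat.card (N ⊓ C : Subgroup G) * p ^ k := by
    rw [hi] at h4
    rw [← h2, h1] at h4
    have hpos : 0 < N.index := Nat.pos_of_ne_zero index_ne_zero_of_finite
    apply Nat.eq_of_mul_eq_mul_left hpos
    rw [h3, ← h4]; ring
  rw [h5]
  congr 1
  refine Nat.card_congr ⟨fun x => ⟨⟨x, x.2.1⟩, ?_⟩, fun x => ⟨x.1, x.1.2, ?_⟩, fun x => rfl, fun x => rfl⟩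
  · exact (mem_centralizer_singleton_iff.1 x.2.2).symm
  · exact mem_centralizer_singleton_iff.2 x.2.symm

include hp hp2 hcard hconj hNo hN1 in
/-- `k` odd: Sylow 2-subgroups are cyclic -/
theorem odd_case (hq8 : Q8S.{u}) (hNp : IsPGroup p N) (hk : Odd k) : Group.IsSolvable G := by
  obtain ⟨S⟩ : Nonempty (Sylow 2 G) := inferInstance
  have huniq : ∀ x ∈ S, ∀ y ∈ S, orderOf x = 2 → orderOf y = 2 → x = y := by
    intro x hx y hy h1 h2
    have h3 := hN1 x y h1 h2
    have h4 : x⁻¹ * y ∈ S := S.mul_mem (S.inv_mem hx) hy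
    have h5 : x⁻¹ * y = 1 := by
      obtain ⟨n, hn⟩ := S.2 ⟨_, h4⟩
      have hn' : (x⁻¹ * y) ^ 2 ^ n = 1 := congrArg Subtype.val hn
      have hd1 : orderOf (x⁻¹ * y) ∣ 2 ^ n := orderOf_dvd_of_pow_eq_one hn'
      have hd2 : orderOf (x⁻¹ * y) ∣ Nat.card N := by
        rw [← Subgroup.orderOf_mk _ h3]; exact orderOf_dvd_natCard _
      have hcop : Nat.Coprime (2 ^ n) (Nat.card N) :=
        Nat.Coprime.pow_left n ((Nat.coprime_two_left).2 hNo)
      rw [← orderOf_eq_one_iff]
      exact Nat.eq_one_of_dvd_coprimes hcop hd1 hd2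
    rw [inv_mul_eq_one] at h5
    exact h5
  by_cases hncyc : IsCyclic S
  · exact solvable_of_cyclic S hncyc
  rcases Cfsg.Agent.MaxClass.cyclic_or_quaternion (G := S) (p := 2) S.2 (by
    intro H K hH hK
    -- the unique subgroup of order two
    have key : ∀ H : Subgroup S, Nat.card H = 2 → ∃ x : S, orderOf (x : G) = 2 ∧ H = zpowers x := by
      intro H hH
      obtain ⟨x, hx⟩ := exists_prime_orderOf_dvd_card' (G := H) 2 (by rw [hH])
      refine ⟨x, ?_, ?_⟩
      · calc orderOf ((x : S) : G) = orderOf (x : S) := Subgroup.orderOf_coe (x : S)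
          _ = orderOf x := Subgroup.orderOf_coe x
          _ = 2 := hx
      · symm
        apply Subgroup.eq_of_le_of_card_ge (by rw [zpowers_le]; exact x.2)
        have h1 : Nat.card (zpowers (x : S)) = 2 := by
          rw [Nat.card_zpowers]; exact (Subgroup.orderOf_coe x).trans hx
        exact hH.le.trans h1.ge
    obtain ⟨x, hx, rfl⟩ := key H hH
    obtain ⟨y, hy, rfl⟩ := key K hK
    rw [Subtype.ext (huniq x x.2 y y.2 hx hy)]) with h | ⟨-, n, ⟨e⟩⟩
  · exact solvable_of_cyclic S h
  · exfalso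
    -- n = 0 would be cyclic of order 4; get i, j anyway
    rcases Nat.eq_zero_or_pos n with rfl | hn
    · haveI : IsCyclic (QuaternionGroup (2 ^ 0)) := QuaternionGroup.quaternionGroup_one_isCyclic
      exact hncyc (isCyclic_of_surjective e.symm e.symm.surjective)
    · set i : S := e.symm (QuaternionGroup.a ((2 ^ (n - 1) : ℕ) : ZMod (2 * 2 ^ n))) with hi
      set j : S := e.symm (QuaternionGroup.xa 0) with hj
      have h2n : 2 ^ (n - 1) + 2 ^ (n - 1) = 2 ^ n := by
        rw [← two_mul, ← pow_succ']; congr 1; omega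
      have hii : i * i = e.symm (QuaternionGroup.a ((2 ^ n : ℕ) : ZMod (2 * 2 ^ n))) := by
        rw [hi, ← map_mul, QuaternionGroup.a_mul_a, ← Nat.cast_add, h2n]
      have hjj : j * j = e.symm (QuaternionGroup.a ((2 ^ n : ℕ) : ZMod (2 * 2 ^ n))) := by
        rw [hj, ← map_mul, QuaternionGroup.xa_mul_xa, sub_zero, add_zero]
      have hz4 : (i * i) * (i * i) = 1 := by
        rw [hii, ← map_mul, QuaternionGroup.a_mul_a, ← Nat.cast_add, ← two_mul, ZMod.natCast_self,
          QuaternionGroup.a_zero, map_one]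
      have hji : j * i * j⁻¹ = i⁻¹ := by
        rw [mul_inv_eq_iff_eq_mul, hi, hj, ← map_inv, ← map_mul, ← map_mul]
        congr 1
        rw [QuaternionGroup.xa_mul_a]
        have : (QuaternionGroup.a ((2 ^ (n - 1) : ℕ) : ZMod (2 * 2 ^ n)))⁻¹ =
            QuaternionGroup.a (-((2 ^ (n - 1) : ℕ) : ZMod (2 * 2 ^ n))) := rfl
        rw [this, QuaternionGroup.a_mul_xa, zero_add, sub_neg_eq_add, zero_add]
      have hz1 : i * i ≠ 1 := by
        rw [hii]
        intro h
        have h1 := congrArg e h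
        rw [MulEquiv.apply_symm_apply, map_one, QuaternionGroup.one_def] at h1
        have h2 : ((2 ^ n : ℕ) : ZMod (2 * 2 ^ n)) = 0 := QuaternionGroup.a.inj h1
        rw [ZMod.natCast_eq_zero_iff] at h2
        have := Nat.le_of_dvd (by positivity) h2
        have : 0 < 2 ^ n := by positivity
        omega
      set z : G := ((i * i : S) : G) with hz
      have hz2 : orderOf z = 2 := by
        rw [← sq_iff_orderOf (fun h => hz1 (Subtype.ext h))]
        exact congrArg Subtype.val hz4
      set ai : MulAut N := MulAut.conjNormal (i : G) with hai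
      set aj : MulAut N := MulAut.conjNormal (j : G) with haj
      obtain ⟨c, hc⟩ := hq8 hp hp2 hNp ai aj
        (by rw [hai, haj, ← map_mul, ← map_mul]; congr 1; exact congrArg Subtype.val (hii.trans hjj.symm))
        (by
          rw [hai, ← map_mul, ← map_mul]
          have : ((i : G) * i) * ((i : G) * i) = 1 := congrArg Subtype.val hz4
          rw [this, map_one])
        (by
          rw [hai, haj, ← map_inv, ← map_inv, ← map_mul, ← map_mul]; congr 1
          exact congrArg Subtype.val hji)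
      have hcN := card_N hcard hconj N hNo hN1 hz2
      have heq : Nat.card {x : N // z * (x : G) = (x : G) * z} =
          Nat.card {x : N // (ai * ai) x = x} := by
        refine Nat.card_congr (Equiv.subtypeEquivRight fun x => ?_)
        rw [hai, ← map_mul, Subtype.ext_iff, MulAut.conjNormal_apply]
        have : ((i : G) * (i : G)) = z := rfl
        rw [this, mul_inv_eq_iff_eq_mul]
      rw [heq] at hcN
      have hpos : 0 < Nat.card {x : N // (ai * ai) x = x} := by
        haveI : Nonempty {x : N // (ai * ai) x = x} :=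
          ⟨⟨1, map_one _⟩⟩
        exact Nat.card_pos
      have h6 : (p ^ c) ^ 2 = p ^ k := Nat.eq_of_mul_eq_mul_left hpos (hc.symm.trans hcN)
      rw [← pow_mul] at h6
      have h7 := Nat.pow_right_injective hp.two_le h6
      obtain ⟨d, hd⟩ := hk
      omega

end

end Cfsg.Agent.H62.Pyr
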