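import Mathlib
import Cfsg.Agent.H62.Pyr1
import Cfsg.Agent.H62.Pyr2
import Cfsg.Agent.H62.Pyr3

set_option autoImplicit false
set_option linter.unusedSectionVars false
set_option linter.style.haveILetI false

universe u

open Subgroup

namespace Cfsg.Agent.H62.Pyr

/-- statement of CSOL -/
def CSol : Prop := ∀ {G : Type u} [Group G] [Finite G] (E : Subgroup G) [E.Normal]
  (_ : ∀ x : G, x ∈ E ↔ x * x = 1) {p m : ℕ} (_ : p.Prime) (_ : 2 ≤ m) (_ : Nat.card E = 2 ^ m)
  (_ : p + 1 = 2 ^ m) (_ : ∀ x ∈ E, ∀ y ∈ E, x ≠ 1 → y ≠ 1 → ∃ g : G, g * x * g⁻¹ = y),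
  Group.IsSolvable (Subgroup.centralizer (E : Set G))

/-- statement of STAR -/
def Star : Prop := ∀ {G : Type u} [Group G] [Finite G] (E : Subgroup G) [E.Normal]
  (_ : ∀ x : G, x ∈ E ↔ x * x = 1) (_ : 4 ≤ Nat.card E) (_ : TwoTr E), False

section
variable {G : Type u} [Group G] [Finite G] {p k : ℕ} (hp : p.Prime) (hp2 : p ≠ 2)
  (hcard : Nat.card {x : G // orderOf x = 2} = p ^ k)
  (hconj : ∀ x y : G, orderOf x = 2 → orderOf y = 2 → ∃ g : G, g * x * g⁻¹ = y)
  (N : Subgroup G) [N.Normal] (hNo : Odd (Nat.card N))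
  (hN1 : ∀ x y : G, orderOf x = 2 → orderOf y = 2 → x⁻¹ * y ∈ N)

include hNo in
theorem eq_one_of_sq {r : G} (hr : r ∈ N) (h : r * r = 1) : r = 1 := by
  by_contra hne
  have h1 := (sq_iff_orderOf hne).1 h
  have h2 : orderOf r ∣ Nat.card N := by
    rw [← Subgroup.orderOf_mk r hr]; exact orderOf_dvd_natCard _
  rw [h1] at h2
  exact (Nat.not_even_iff_odd.2 hNo) (even_iff_two_dvd.2 h2)

include hp hcard hNo hN1 in
theorem nine_case (hnine : Nine.{u}) (hNs : Group.IsSolvable N) (h9 : p ^ k = 9) : Group.IsSolvable G := by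
  obtain ⟨z, hz⟩ := exists_invol hp hcard
  have hzz := (sq_iff_orderOf (ne_one_of_orderOf_two hz)).2 hz
  have hzi : z⁻¹ = z := inv_eq_of_mul_eq_one_left hzz
  have hu : ∀ x : G, x * z = z * x → orderOf x = 2 → x = z := by
    intro x hx hx2
    have hxx := (sq_iff_orderOf (ne_one_of_orderOf_two hx2)).2 hx2
    have hxi : x⁻¹ = x := inv_eq_of_mul_eq_one_left hxx
    have h1 := hN1 x z hx2 hz
    have h2 : x⁻¹ * z = 1 := by
      apply eq_one_of_sq N hNo h1
      rw [hxi]
      calc x * z * (x * z) = x * z * (z * x) := by rw [hx]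
        _ = x * (z * z) * x := by group
        _ = 1 := by rw [hzz, mul_one, hxx]
    rw [inv_mul_eq_one] at h2
    exact h2
  have hzN : z ∉ N := fun h => ne_one_of_orderOf_two hz (eq_one_of_sq N hNo h hzz)
  have hc9 : Nat.card {x : G // x ∈ N ∧ z * x * z⁻¹ = x⁻¹} = 9 := by
    rw [← h9, ← hcard]
    refine Nat.card_congr ⟨fun x => ⟨z * x, ?_⟩, fun y => ⟨z⁻¹ * y, ?_, ?_⟩, fun x => ?_, fun y => ?_⟩
    · have h1 : z * (x : G) ≠ 1 := by
        intro h
        apply hzN
        have : z = (x : G)⁻¹ := eq_inv_of_mul_eq_one_left h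
        rw [this]; exact N.inv_mem x.2.1
      rw [← sq_iff_orderOf h1]
      calc z * (x : G) * (z * x) = (z * x * z⁻¹) * (z * z) * x := by group
        _ = 1 := by rw [x.2.2, hzz]; group
    · exact hN1 z y hz y.2
    · have hyy := (sq_iff_orderOf (ne_one_of_orderOf_two y.2)).2 y.2
      have hyi : (y : G)⁻¹ = y := inv_eq_of_mul_eq_one_left hyy
      rw [mul_inv_rev, inv_inv, hyi, hzi, ← mul_assoc, hzz, one_mul]
    · exact Subtype.ext (by simp only; group)
    · exact Subtype.ext (by simp only; group)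
  have hC := hnine N hNo z hz hu hc9
  refine solvable_ext N hNs ?_
  haveI := hC
  refine Group.isSolvable_of_surjective (f := (QuotientGroup.mk' N).comp (centralizer ({z} : Set G)).subtype) ?_
  intro y
  obtain ⟨g, rfl⟩ := QuotientGroup.mk'_surjective N y
  have h1 : orderOf (g * z * g⁻¹) = 2 := by rw [← hz]; exact MulEquiv.orderOf_eq (MulAut.conj g) z
  obtain ⟨s, hs, h2⟩ := conj_N N hNo hN1 h1 hz
  have h3 : s⁻¹ * g ∈ centralizer ({z} : Set G) := by
    rw [mem_centralizer_singleton_iff]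
    calc s⁻¹ * g * z = (s⁻¹ * (g * z * g⁻¹) * s) * (s⁻¹ * g) := by group
      _ = z * (s⁻¹ * g) := by rw [h2]
  refine ⟨⟨s⁻¹ * g, h3⟩, ?_⟩
  show QuotientGroup.mk' N (s⁻¹ * g) = QuotientGroup.mk' N g
  rw [map_mul, map_inv]
  have : QuotientGroup.mk' N s = 1 := by rw [← MonoidHom.mem_ker, QuotientGroup.ker_mk']; exact hs
  rw [this, inv_one, one_mul]

end

theorem fwd (hcsol : CSol.{u}) (hstar : Star.{u}) (hq8 : Q8S.{u}) (hnine : Nine.{u})
    {G : Type u} [Group G] [Finite G] {p k : ℕ} (hp : p.Prime) (hp2 : p ≠ 2)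
    (hk : Odd k ∨ p ^ k = 9)
    (hcard : Nat.card {x : G // orderOf x = 2} = p ^ k)
    (hconj : ∀ x y : G, orderOf x = 2 → orderOf y = 2 → ∃ g : G, g * x * g⁻¹ = y) :
    Group.IsSolvable G := by
  haveI : Fact p.Prime := ⟨hp⟩
  obtain ⟨E, hE, htr, j, hj⟩ := red hp hp2 hcard hconj
  have hNo : Odd (Nat.card (pCore p G)) := odd_card_pCore hp hp2
  have hNp : IsPGroup p (pCore p G) := Solv.pCore_isPGroup p
  have hNs : Group.IsSolvable (pCore p G) := by
    haveI := hNp.isNilpotent
    infer_instance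
  have hE2 : IsPGroup 2 E := by
    intro x
    refine ⟨1, ?_⟩
    rw [pow_one, pow_two]
    exact Subtype.ext ((hE x).1 x.2)
  obtain ⟨m, hm⟩ := (IsPGroup.iff_card (p := 2)).1 hE2
  have hnt := nt hp hp2 (hm.symm.trans hj)
  rcases hnt with rfl | ⟨hm2, hpm⟩
  · -- unique involution modulo the `p`-core
    have hN1 : ∀ x y : G, orderOf x = 2 → orderOf y = 2 → x⁻¹ * y ∈ pCore p G := by
      intro x y hx hy
      have hmem : ∀ x : G, orderOf x = 2 → QuotientGroup.mk' (pCore p G) x ∈ E ∧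
          QuotientGroup.mk' (pCore p G) x ≠ 1 := by
        intro x hx
        have hxx := (sq_iff_orderOf (ne_one_of_orderOf_two hx)).2 hx
        constructor
        · rw [hE, ← map_mul, hxx, map_one]
        · intro h
          rw [← MonoidHom.mem_ker, QuotientGroup.ker_mk'] at h
          exact ne_one_of_orderOf_two hx (eq_one_of_sq _ hNo h hxx)
      have h1 := hmem x hx
      have h2 := hmem y hy
      have h3 : QuotientGroup.mk' (pCore p G) x = QuotientGroup.mk' (pCore p G) y := by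
        by_contra hne
        haveI : Fintype E := Fintype.ofFinite _
        have h4 : 2 < Fintype.card E := by
          rw [Fintype.two_lt_card_iff]
          exact ⟨⟨_, h1.1⟩, ⟨_, h2.1⟩, 1, fun h => hne (congrArg Subtype.val h),
            fun h => h1.2 (congrArg Subtype.val h), fun h => h2.2 (congrArg Subtype.val h)⟩
        rw [← Nat.card_eq_fintype_card, hm] at h4
        norm_num at h4
      rw [← QuotientGroup.ker_mk' (pCore p G), MonoidHom.mem_ker, map_mul, map_inv, h3, inv_mul_cancel]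
    rcases hk with hk | hk
    · exact odd_case hp hp2 hcard hconj (pCore p G) hNo hN1 hq8 hNp hk
    · exact nine_case hp hcard (pCore p G) hNo hN1 hnine hNs hk
  · refine solvable_ext (pCore p G) hNs ?_
    haveI hEn : E.Normal := by
      constructor
      intro x hx g
      rw [hE] at hx ⊢
      calc g * x * g⁻¹ * (g * x * g⁻¹) = g * (x * x) * g⁻¹ := by group
        _ = 1 := by rw [hx]; group
    have h4 : 4 ≤ Nat.card E := by
      rw [hm]
      calc 4 = 2 ^ 2 := by norm_num
        _ ≤ 2 ^ m := Nat.pow_le_pow_right (by norm_num) hm2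
    exact big_case E hp hm hpm htr (hcsol E hE hp hm2 hm hpm htr) (hstar E hE h4)

end Cfsg.Agent.H62.Pyr
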