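import Mathlib
import Cfsg.Agent.H62.Pyr4
import Cfsg.Agent.H34.PyrM3R
import Cfsg.Agent.H39.PyrSta2
import Cfsg.Agent.H67.PyrD
import Cfsg.Agent.H79.PyrAB
import Cfsg.Agent.H72.PyrREV
import Cfsg.Agent.H23.PyrO1
import Cfsg.Agent.H35.PyrNine

set_option autoImplicit false
set_option linter.unusedSectionVars false
set_option linter.style.haveILetI false

universe u

open Subgroup

namespace Cfsg.Agent.H62.Pyr

/-- statement of NA -/
def NAb : Prop := ∀ {G : Type u} [Group G] [Finite G] (E : Subgroup G) [E.Normal]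
  (_ : ∀ x : G, x ∈ E ↔ x * x = 1) (_ : Nat.card E = 8)
  (_ : IsPGroup 2 (Subgroup.centralizer (E : Set G)))
  (_ : ∀ φ : E ≃* E, ∃ g : G, ∀ v : E, g * v * g⁻¹ = (φ v : G))
  (_ : ¬ ∀ x ∈ Subgroup.centralizer (E : Set G), ∀ y ∈ Subgroup.centralizer (E : Set G), x * y = y * x),
  False

theorem m3 (hna : NAb.{u}) {G : Type u} [Group G] [Finite G] (E : Subgroup G) [E.Normal]
    (hE : ∀ x : G, x ∈ E ↔ x * x = 1) (h8 : Nat.card E = 8) (h2 : TwoTr E) : False := by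
  obtain ⟨G', _, _, E', hn, hE', h8', hQ, hA⟩ := Cfsg.Agent.H34.Pyr.m3red E hE h8 h2
  by_cases hab : ∀ x ∈ Subgroup.centralizer (E' : Set G'), ∀ y ∈ Subgroup.centralizer (E' : Set G'),
      x * y = y * x
  · exact Cfsg.Agent.H79.PyrAB.ab E' hE' h8' hQ hA hab
  · exact hna E' hE' h8' hQ hA hab

theorem star (hna : NAb.{u}) : Star.{u} := by
  intro G _ _ E _ hE h4 h2
  exact Cfsg.Agent.H39.PyrSta.star_of
    (fun E _ h1 h2 h3 h4 => Cfsg.Agent.H67.Pyr.resid E h1 h2 h3 h4)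
    (fun E _ h1 h2 h3 => m3 hna E h1 h2 h3) E hE h4 h2

theorem q8s : Q8S.{u} := fun hp hp2 hN i j hij h4 hji =>
  Cfsg.Agent.H23.PyrO1.q8_square hp hp2 hN i j hij h4 hji

theorem nine : Nine.{u} := by
  intro G _ _ N _ hN z hz hu h9
  exact Cfsg.Agent.H35.PyrNine.nine N hN z hz hu h9

theorem final (hcsol : CSol.{0}) (hna : NAb.{0}) (p k : ℕ) (hp : p.Prime) (hp2 : p ≠ 2) (hk : 1 ≤ k) :
    (∀ (G : Type) [Group G] [Finite G], Nat.card {x : G // orderOf x = 2} = p ^ k →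
      (∀ x y : G, orderOf x = 2 → orderOf y = 2 → ∃ g : G, g * x * g⁻¹ = y) → Group.IsSolvable G) ↔
      (Odd k ∨ p ^ k = 9) := by
  constructor
  · intro h
    by_contra hcon
    rw [not_or, Nat.not_odd_iff_even] at hcon
    obtain ⟨G, _, _, h1, h2, h3⟩ := Cfsg.Agent.H72.PyrREV.rev p k hp hp2 hk hcon.1 hcon.2
    exact h3 (h G h1 h2)
  · intro hk' G _ _ hcard hconj
    exact fwd hcsol (star hna) q8s nine hp hp2 hk' hcard hconj

end Cfsg.Agent.H62.Pyr
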