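import Mathlib

/-! Field part for maximal Schmidt groups: `K` of order `p ^ a`, `a = ord_q p`, `ζ` of order `q`. -/

set_option autoImplicit false
set_option linter.unusedSectionVars false
set_option linter.style.haveILetI false

namespace Cfsg.Agent.H62.Sch

section field

variable {K : Type*} [Field K] [Finite K] {p q a : ℕ} [Fact p.Prime] [Fact q.Prime]

theorem dvd_of_subring (hcard : Nat.card K = p ^ a) (ha : a = orderOf (p : ZMod q)) {ζ : K} (hζ : orderOf ζ = q)
    (S : Subring K) (hS : ζ ∈ S) : S = ⊤ := by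
  classical
  have : Fintype K := Fintype.ofFinite K
  have : Fintype S := Fintype.ofFinite S
  letI : Field S := Fintype.fieldOfDomain S
  -- card S is a power of p
  have hdvd : Nat.card S ∣ p ^ a := by
    rw [← hcard]
    exact AddSubgroup.card_addSubgroup_dvd_card S.toAddSubgroup
  obtain ⟨m, hma, hm⟩ := (Nat.dvd_prime_pow (Fact.out : p.Prime)).mp hdvd
  have hz : (⟨ζ, hS⟩ : S) ≠ 0 := by
    intro h
    have : ζ = 0 := congrArg Subtype.val h
    rw [this, orderOf_zero] at hζ
    exact (Fact.out : q.Prime).ne_zero hζ.symm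
  have hpow : (⟨ζ, hS⟩ : S) ^ (Fintype.card S - 1) = 1 := FiniteField.pow_card_sub_one_eq_one _ hz
  have hpow' : ζ ^ (Nat.card S - 1) = 1 := by
    rw [Nat.card_eq_fintype_card]
    have := congrArg Subtype.val hpow
    simpa using this
  have hq : q ∣ Nat.card S - 1 := by rw [← hζ]; exact orderOf_dvd_of_pow_eq_one hpow'
  have hS1 : 1 < Nat.card S := by
    rw [Nat.card_eq_fintype_card]
    exact Fintype.one_lt_card
  have h1 : ((p : ZMod q)) ^ m = 1 := by
    have h2 : ((Nat.card S - 1 : ℕ) : ZMod q) = 0 := (ZMod.natCast_eq_zero_iff _ _).mpr hq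
    rw [Nat.cast_sub hS1.le, hm] at h2
    push_cast at h2
    exact sub_eq_zero.mp h2
  have h2 : a ∣ m := by rw [ha]; exact orderOf_dvd_of_pow_eq_one h1
  have hm0 : m ≠ 0 := by
    rintro rfl
    rw [hm] at hS1; simp at hS1
  have hma' : m = a := le_antisymm hma (Nat.le_of_dvd (Nat.pos_of_ne_zero hm0) h2)
  have h3 : Nat.card S = Nat.card K := by rw [hm, hcard, hma']
  have h4 : S.toAddSubgroup = ⊤ := AddSubgroup.eq_top_of_card_eq _ h3
  rw [eq_top_iff]
  intro x _
  have : x ∈ S.toAddSubgroup := by rw [h4]; trivial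
  exact this

theorem inv_trivial (hcard : Nat.card K = p ^ a) (ha : a = orderOf (p : ZMod q)) {ζ : K} (hζ : orderOf ζ = q)
    (U : AddSubgroup K) (hU : ∀ u ∈ U, ζ * u ∈ U) : U = ⊥ ∨ U = ⊤ := by
  let S : Subring K :=
    { carrier := {c | ∀ u ∈ U, c * u ∈ U}
      mul_mem' := by
        intro x y hx hy u hu
        rw [mul_assoc]; exact hx _ (hy u hu)
      one_mem' := by intro u hu; rwa [one_mul]
      add_mem' := by
        intro x y hx hy u hu
        rw [add_mul]; exact U.add_mem (hx u hu) (hy u hu)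
      zero_mem' := by intro u hu; rw [zero_mul]; exact U.zero_mem
      neg_mem' := by intro x hx u hu; rw [neg_mul]; exact U.neg_mem (hx u hu) }
  have hS : S = ⊤ := dvd_of_subring hcard ha hζ S (show ζ ∈ S from hU)
  by_cases h : U = ⊥
  · exact Or.inl h
  · right
    obtain ⟨u, hu, hu0⟩ : ∃ u : K, u ∈ U ∧ u ≠ 0 := by
      by_contra hcon
      push Not at hcon
      exact h ((AddSubgroup.eq_bot_iff_forall U).mpr hcon)
    rw [eq_top_iff]
    intro c _
    have hc : c * u⁻¹ ∈ S := by rw [hS]; trivial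
    have := hc u hu
    rwa [mul_assoc, inv_mul_cancel₀ hu0, mul_one] at this

/-- The span of the `ζ ^ k + ζ ^ (-k)`. -/
def Wsub (ζ : Kˣ) : AddSubgroup K :=
  AddSubgroup.closure (Set.range fun k : ℤ => ((ζ ^ k : Kˣ) : K) + ((ζ ^ (-k) : Kˣ) : K))

theorem Wsub_card (hpq : p ≠ q) (hcard : Nat.card K = p ^ a) (ha : a = orderOf (p : ZMod q)) {ζ : Kˣ} (hζ : orderOf ζ = q) :
    (a % 2 = 1 → Wsub ζ = ⊤) ∧ (a % 2 = 0 → p ^ (a / 2) ≤ Nat.card (Wsub ζ)) := by
  classical
  have hζ' : orderOf (ζ : K) = q := by rw [orderOf_units]; exact hζ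
  set W := Wsub ζ with hW
  set t : K := (ζ : K) + ((ζ⁻¹ : Kˣ) : K) with ht
  have hgen : ∀ k : ℤ, ((ζ ^ k : Kˣ) : K) + ((ζ ^ (-k) : Kˣ) : K) ∈ W := fun k =>
    AddSubgroup.subset_closure ⟨k, rfl⟩
  have htW : ∀ w ∈ W, t * w ∈ W := by
    intro w hw
    induction hw using AddSubgroup.closure_induction with
    | mem x hx =>
      obtain ⟨k, rfl⟩ := hx
      have h1 := hgen (k + 1)
      have h2 := hgen (k - 1)
      have h3 := W.add_mem h1 h2
      convert h3 using 1
      simp only [ht]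
      rw [show -(k + 1) = -k + -1 by ring, show k - 1 = k + -1 by ring, show -(k + -1) = -k + 1 by ring,
        zpow_add, zpow_add, zpow_add, zpow_add, zpow_one, zpow_neg_one]
      push_cast
      ring
    | zero => rw [mul_zero]; exact W.zero_mem
    | add x y _ _ hx hy => rw [mul_add]; exact W.add_mem hx hy
    | neg x _ hx => rw [mul_neg]; exact W.neg_mem hx
  have hzz : (ζ : K) * ζ = t * ζ - 1 := by
    rw [ht, add_mul]
    simp
  have hp0 : ∀ n : ℕ, (n : K) = 0 → p ∣ n := by
    intro n hn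
    have hpr : (p : ℕ).Prime := Fact.out
    obtain ⟨r, hr⟩ := CharP.exists K
    have hrp : r.Prime := by
      have : Fintype K := Fintype.ofFinite K
      exact CharP.char_is_prime K r
    have hrc : r ∣ Nat.card K := by
      have : Fintype K := Fintype.ofFinite K
      have hF : Fact r.Prime := ⟨hrp⟩
      obtain ⟨n, -, hn⟩ := FiniteField.card K r
      rw [Nat.card_eq_fintype_card, hn]
      exact dvd_pow_self r n.2.ne'
    rw [hcard] at hrc
    have : r = p := (Nat.prime_dvd_prime_iff_eq hrp hpr).mp (hrp.dvd_of_dvd_pow hrc)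
    rw [← this]
    exact (CharP.cast_eq_zero_iff K r n).mp hn
  have hW0 : W ≠ ⊥ := by
    intro h0
    have h1 := hgen 0
    have h2 := hgen 1
    rw [h0, AddSubgroup.mem_bot] at h1 h2
    simp only [zpow_zero, neg_zero, Units.val_one, zpow_one, zpow_neg_one] at h1 h2
    have h3 : ((2 : ℕ) : K) = 0 := by push_cast; rw [← h1]; ring
    have hp2 : p ∣ 2 := hp0 2 h3
    have hp2' : p = 2 := (Nat.prime_dvd_prime_iff_eq Fact.out Nat.prime_two).mp hp2
    have h4 : ζ = ζ⁻¹ := by
      apply Units.ext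
      have h5 : (ζ : K) = -((ζ⁻¹ : Kˣ) : K) := eq_neg_of_add_eq_zero_left h2
      have h6 : ((ζ⁻¹ : Kˣ) : K) + ((ζ⁻¹ : Kˣ) : K) = 0 := by
        have : (((2 : ℕ) : K)) * ((ζ⁻¹ : Kˣ) : K) = 0 := by rw [h3, zero_mul]
        rwa [Nat.cast_ofNat, two_mul] at this
      rw [h5]
      exact (eq_neg_of_add_eq_zero_left h6).symm
    have h5 : ζ ^ 2 = 1 := by
      rw [pow_two]
      nth_rw 2 [h4]
      exact mul_inv_cancel ζ
    have h6 : q ∣ 2 := by rw [← hζ]; exact orderOf_dvd_of_pow_eq_one h5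
    have h7 : q = 2 := (Nat.prime_dvd_prime_iff_eq Fact.out Nat.prime_two).mp h6
    exact hpq (hp2'.trans h7.symm)
  -- W₀
  let W₀ : AddSubgroup K :=
    { carrier := {w | w ∈ W ∧ (ζ : K) * w ∈ W}
      add_mem' := by
        rintro x y ⟨h1, h2⟩ ⟨h3, h4⟩
        exact ⟨W.add_mem h1 h3, by rw [mul_add]; exact W.add_mem h2 h4⟩
      zero_mem' := ⟨W.zero_mem, by rw [mul_zero]; exact W.zero_mem⟩
      neg_mem' := by
        rintro x ⟨h1, h2⟩
        exact ⟨W.neg_mem h1, by rw [mul_neg]; exact W.neg_mem h2⟩ }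
  have hW₀inv : ∀ u ∈ W₀, (ζ : K) * u ∈ W₀ := by
    rintro u ⟨h1, h2⟩
    refine ⟨h2, ?_⟩
    rw [← mul_assoc, hzz, sub_mul, one_mul, mul_assoc]
    exact W.sub_mem (htW _ h2) h1
  rcases inv_trivial hcard ha hζ' W₀ hW₀inv with h0 | h0
  · -- the sum map is bijective
    let f : W × W → K := fun x => (x.1 : K) + ζ * (x.2 : K)
    have hinj : Function.Injective f := by
      rintro ⟨x1, x2⟩ ⟨y1, y2⟩ h
      have h' : (x1 : K) + ζ * (x2 : K) = (y1 : K) + ζ * (y2 : K) := h
      have h1 : ζ * ((x2 : K) - y2) = (y1 : K) - x1 := by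
        rw [mul_sub]; linear_combination h'
      have h2 : (x2 : K) - y2 ∈ W₀ := by
        refine ⟨W.sub_mem x2.2 y2.2, ?_⟩
        rw [h1]; exact W.sub_mem y1.2 x1.2
      rw [h0, AddSubgroup.mem_bot] at h2
      have h3 : (y1 : K) - x1 = 0 := by rw [← h1, h2, mul_zero]
      exact Prod.ext (Subtype.ext (sub_eq_zero.mp h3).symm) (Subtype.ext (sub_eq_zero.mp h2))
    have hsurj : Function.Surjective f := by
      let T : AddSubgroup K :=
        { carrier := Set.range f
          add_mem' := by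
            rintro _ _ ⟨x, rfl⟩ ⟨y, rfl⟩
            refine ⟨x + y, ?_⟩
            simp only [f, Prod.fst_add, Prod.snd_add, AddSubgroup.coe_add]; ring
          zero_mem' := ⟨0, by simp [f]⟩
          neg_mem' := by
            rintro _ ⟨x, rfl⟩
            refine ⟨-x, ?_⟩
            simp only [f, Prod.fst_neg, Prod.snd_neg, AddSubgroup.coe_neg]; ring }
      have hT : ∀ u ∈ T, (ζ : K) * u ∈ T := by
        rintro _ ⟨x, rfl⟩
        refine ⟨(-x.2, x.1 + ⟨t * x.2, htW _ x.2.2⟩), ?_⟩
        simp only [f, AddSubgroup.coe_neg, AddSubgroup.coe_add]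
        linear_combination (-(x.2 : K)) * hzz
      rcases inv_trivial hcard ha hζ' T hT with h1 | h1
      · exfalso
        apply hW0
        rw [eq_bot_iff]
        intro w hw
        rw [← h1]
        exact ⟨(⟨w, hw⟩, 0), by simp [f]⟩
      · intro x
        have : x ∈ T := by rw [h1]; trivial
        exact this
    have hc : Nat.card W * Nat.card W = Nat.card K := by
      rw [← Nat.card_prod]
      exact Nat.card_congr (Equiv.ofBijective f ⟨hinj, hsurj⟩)
    have hdvd : Nat.card W ∣ p ^ a := by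
      rw [← hcard]; exact AddSubgroup.card_addSubgroup_dvd_card W
    obtain ⟨m, -, hm⟩ := (Nat.dvd_prime_pow (Fact.out : p.Prime)).mp hdvd
    rw [hm, hcard, ← pow_add] at hc
    have h2 : m + m = a := Nat.pow_right_injective (Fact.out : p.Prime).two_le hc
    constructor
    · intro h; omega
    · intro _
      rw [hm]
      have : a / 2 = m := by omega
      rw [this]
  · have hWt : W = ⊤ := by
      rw [eq_top_iff]
      intro x _
      have : x ∈ W₀ := by rw [h0]; trivial
      exact this.1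
    refine ⟨fun _ => hWt, fun _ => ?_⟩
    rw [hWt]
    have : Nat.card (⊤ : AddSubgroup K) = Nat.card K := Nat.card_congr (Equiv.Set.univ K)
    rw [this, hcard]
    exact Nat.pow_le_pow_right (Fact.out : p.Prime).pos (Nat.div_le_self a 2)

end field

end Cfsg.Agent.H62.Sch
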