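import Cfsg.Agent.H62.SchA

/-! Bound for the order of the Sylow subgroup of a Schmidt group. -/

set_option autoImplicit false
set_option linter.unusedSectionVars false
set_option linter.style.haveILetI false

namespace Cfsg.Agent.H62.Sch

open Multiplicative

variable {K : Type*} [Field K] [Finite K] {p q a : ℕ} [Fact p.Prime] [Fact q.Prime]

theorem card_mul_le (hcard : Nat.card K = p ^ a) (ha : a = orderOf (p : ZMod q)) {ζ : Kˣ} (hζ : orderOf ζ = q)
    {P : Type*} [Group P] [Finite P] (α : MulAut P) (κ : P →* Multiplicative K) (hκ : Function.Surjective κ)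
    (hα : ∀ x, toAdd (κ (α x)) = ζ * toAdd (κ x))
    (hc : ∀ x, κ x = 1 → x ∈ Subgroup.center P) (hfix : ∀ x, κ x = 1 → α x = x)
    (hF : ∀ R : Subgroup P, (∀ x ∈ R, α x ∈ R) → (∀ c, ∃ x ∈ R, κ x = c) → R = ⊤) :
    Nat.card P * Nat.card (Wsub ζ) ≤ Nat.card K * Nat.card K := by
  classical
  have hζ' : orderOf (ζ : K) = q := by rw [orderOf_units]; exact hζ
  have hζ1 : (ζ : K) - 1 ≠ 0 := by
    intro h
    have : (ζ : K) = 1 := sub_eq_zero.mp h
    rw [this, orderOf_one] at hζ'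
    exact (Fact.out : q.Prime).one_lt.ne hζ'
  obtain ⟨x₀, hx₀⟩ := hκ (ofAdd 1)
  have hcomm : ∀ x y : P, κ (x * y * x⁻¹ * y⁻¹) = 1 := by
    intro x y
    rw [map_mul, map_mul, map_mul, map_inv, map_inv, mul_comm (κ x) (κ y)]
    simp
  have hcz : ∀ x y g : P, g * (x * y * x⁻¹ * y⁻¹) = (x * y * x⁻¹ * y⁻¹) * g := fun x y g =>
    Subgroup.mem_center_iff.mp (hc _ (hcomm x y)) g
  let ψ : P →* P := MonoidHom.mk' (fun x => x₀ * x * x₀⁻¹ * x⁻¹) (by
    intro x y
    have h := hcz x₀ y x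
    calc x₀ * (x * y) * x₀⁻¹ * (x * y)⁻¹ = (x₀ * x * x₀⁻¹ * x⁻¹) * (x * (x₀ * y * x₀⁻¹ * y⁻¹)) * x⁻¹ := by group
      _ = (x₀ * x * x₀⁻¹ * x⁻¹) * ((x₀ * y * x₀⁻¹ * y⁻¹) * x) * x⁻¹ := by rw [h]
      _ = (x₀ * x * x₀⁻¹ * x⁻¹) * (x₀ * y * x₀⁻¹ * y⁻¹) := by group)
  have hψ : ∀ x, ψ x = x₀ * x * x₀⁻¹ * x⁻¹ := fun x => rfl
  set C : Subgroup P := ψ.range with hC
  have hCker : ∀ c ∈ C, κ c = 1 := by rintro _ ⟨x, rfl⟩; exact hcomm _ _
  have hCz : ∀ c ∈ C, ∀ g, g * c = c * g := fun c h g => Subgroup.mem_center_iff.mp (hc _ (hCker c h)) g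
  have hCfix : ∀ c ∈ C, α c = c := fun c h => hfix _ (hCker c h)
  -- all commutators lie in C
  let N : Subgroup P :=
    { carrier := {x | ∀ y, x * y * x⁻¹ * y⁻¹ ∈ C}
      mul_mem' := by
        intro x x' hx hx' y
        have h := hcz x' y x
        have : x * x' * y * (x * x')⁻¹ * y⁻¹ = (x' * y * x'⁻¹ * y⁻¹) * (x * y * x⁻¹ * y⁻¹) := by
          calc x * x' * y * (x * x')⁻¹ * y⁻¹ = (x * (x' * y * x'⁻¹ * y⁻¹)) * y * x⁻¹ * y⁻¹ := by group
            _ = ((x' * y * x'⁻¹ * y⁻¹) * x) * y * x⁻¹ * y⁻¹ := by rw [h]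
            _ = _ := by group
        rw [this]; exact C.mul_mem (hx' y) (hx y)
      one_mem' := by intro y; simp
      inv_mem' := by
        intro x hx y
        have h := hcz x y x⁻¹
        have : x⁻¹ * y * x⁻¹⁻¹ * y⁻¹ = (x * y * x⁻¹ * y⁻¹)⁻¹ := by
          have h2 : (x⁻¹ * y * x⁻¹⁻¹ * y⁻¹)⁻¹ = x⁻¹ * (x * y * x⁻¹ * y⁻¹) * x := by group
          rw [h] at h2
          rw [← inv_inj, h2, inv_inv]; group
        rw [this]; exact C.inv_mem (hx y) }
  have hN : N = ⊤ := by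
    have hNα : ∀ x ∈ N, α x ∈ N := by
      intro x hx y
      have h1 : α x * y * (α x)⁻¹ * y⁻¹ = α (x * (α.symm y) * x⁻¹ * (α.symm y)⁻¹) := by
        simp
      rw [h1, hCfix _ (hx _)]
      exact hx _
    have hx₀N : x₀ ∈ N := fun y => ⟨y, rfl⟩
    apply hF N hNα
    let U : AddSubgroup K :=
      { carrier := {c | ∃ x ∈ N, κ x = ofAdd c}
        add_mem' := by
          rintro x y ⟨u, hu, hu'⟩ ⟨v, hv, hv'⟩
          exact ⟨u * v, N.mul_mem hu hv, by rw [map_mul, hu', hv', ofAdd_add]⟩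
        zero_mem' := ⟨1, N.one_mem, by rw [map_one, ofAdd_zero]⟩
        neg_mem' := by
          rintro x ⟨u, hu, hu'⟩
          exact ⟨u⁻¹, N.inv_mem hu, by rw [map_inv, hu', ofAdd_neg]⟩ }
    have hU : ∀ u ∈ U, (ζ : K) * u ∈ U := by
      rintro u ⟨x, hx, hxu⟩
      refine ⟨α x, hNα x hx, ?_⟩
      apply toAdd.injective
      rw [hα, hxu, toAdd_ofAdd, toAdd_ofAdd]
    rcases inv_trivial hcard ha hζ' U hU with h | h
    · exfalso
      have : (1 : K) ∈ U := ⟨x₀, hx₀N, hx₀⟩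
      rw [h, AddSubgroup.mem_bot] at this
      exact one_ne_zero this
    · intro c
      have : toAdd c ∈ U := by rw [h]; trivial
      obtain ⟨x, hx, hxc⟩ := this
      exact ⟨x, hx, hxc⟩
  have hall : ∀ x y : P, x * y * x⁻¹ * y⁻¹ ∈ C := by
    intro x y
    have : x ∈ N := by rw [hN]; trivial
    exact this y
  -- Z ≤ C
  have hZC : κ.ker ≤ C := by
    haveI hCn : C.Normal := ⟨fun c hc' g => by
      have := hCz c hc' g
      rw [this]; simpa using hc'⟩
    have hαC : C ≤ C.comap α.toMonoidHom := by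
      intro c hc'
      change α c ∈ C
      rw [hCfix c hc']; exact hc'
    let ā : P ⧸ C →* P ⧸ C := QuotientGroup.map C C α.toMonoidHom hαC
    have hā : ∀ x : P, ā (x : P ⧸ C) = ((α x : P) : P ⧸ C) := fun x => rfl
    have hab : ∀ x y : P ⧸ C, x * y = y * x := by
      intro x y
      induction x using QuotientGroup.induction_on with | H x => ?_
      induction y using QuotientGroup.induction_on with | H y => ?_
      rw [← QuotientGroup.mk_mul, ← QuotientGroup.mk_mul, QuotientGroup.eq]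
      have := hall y⁻¹ x⁻¹
      convert this using 1
      group
    let f : P ⧸ C →* P ⧸ C := MonoidHom.mk' (fun x => x⁻¹ * ā x) (by
      intro x y
      rw [map_mul, mul_inv_rev, hab y⁻¹ x⁻¹]
      calc x⁻¹ * y⁻¹ * (ā x * ā y) = x⁻¹ * (y⁻¹ * ā x) * ā y := by group
        _ = x⁻¹ * (ā x * y⁻¹) * ā y := by rw [hab y⁻¹ (ā x)]
        _ = _ := by group)
    have hf : ∀ x, f x = x⁻¹ * ā x := fun x => rfl
    have hR : (f.range).comap (QuotientGroup.mk' C) = ⊤ := by
      apply hF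
      · rintro x ⟨w, hw⟩
        refine ⟨ā w, ?_⟩
        change f (ā w) = ((α x : P) : P ⧸ C)
        rw [← hā x]
        change f w = (x : P ⧸ C) at hw
        rw [← hw, hf, hf, map_mul, map_inv]
      · intro c
        obtain ⟨w, hw⟩ := hκ (ofAdd (((ζ : K) - 1)⁻¹ * toAdd c))
        refine ⟨w⁻¹ * α w, ⟨(w : P ⧸ C), ?_⟩, ?_⟩
        · change f (w : P ⧸ C) = ((w⁻¹ * α w : P) : P ⧸ C)
          rw [hf, hā]; rfl
        · apply toAdd.injective
          rw [map_mul, map_inv, toAdd_mul, toAdd_inv, hα, hw, toAdd_ofAdd]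
          field_simp
          ring
    have hfs : Function.Surjective f := by
      intro y
      induction y using QuotientGroup.induction_on with | H y => ?_
      have : y ∈ (f.range).comap (QuotientGroup.mk' C) := by rw [hR]; trivial
      exact this
    have hfi : Function.Injective f := Finite.injective_iff_surjective.mpr hfs
    intro z hz
    have h1 : f (z : P ⧸ C) = 1 := by
      rw [hf, hā, hfix z hz, inv_mul_cancel]
    have h2 : (z : P ⧸ C) = 1 := hfi (by rw [h1, map_one])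
    exact (QuotientGroup.eq_one_iff z).mp h2
  -- counting
  have hcP : Nat.card κ.ker * Nat.card K = Nat.card P := by
    have h1 := κ.ker.card_mul_index
    rw [Subgroup.index_ker, MonoidHom.range_eq_top.mpr hκ, Subgroup.card_top] at h1
    exact h1
  have hcψ : Nat.card ψ.ker * Nat.card C = Nat.card P := by
    have h1 := ψ.ker.card_mul_index
    rw [Subgroup.index_ker] at h1
    exact h1
  have hZC' : Nat.card κ.ker ≤ Nat.card C := Nat.card_le_card_of_injective (Subgroup.inclusion hZC) (Subgroup.inclusion_injective hZC)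
  -- κ(ker ψ) ⊇ W
  have hW : Nat.card (Wsub ζ) * Nat.card κ.ker ≤ Nat.card ψ.ker := by
    have hαk : ∀ (k : ℤ) (x : P), toAdd (κ ((α ^ k) x)) = ((ζ ^ k : Kˣ) : K) * toAdd (κ x) := by
      intro k x
      induction k using Int.induction_on generalizing x with
      | zero => simp
      | succ n ih =>
        rw [zpow_add_one, zpow_add_one, MulAut.mul_apply, ih, hα]; push_cast; ring
      | pred n ih =>
        have h1 := hα (α⁻¹ x)
        rw [MulAut.apply_inv_self] at h1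
        rw [zpow_sub_one, zpow_sub_one, MulAut.mul_apply, ih]
        rw [h1]; push_cast; rw [mul_assoc, ← mul_assoc (ζ : K)⁻¹, inv_mul_cancel₀ (Units.ne_zero ζ), one_mul]
    have hfixk : ∀ (k : ℤ) (x : P), κ x = 1 → (α ^ k) x = x := by
      intro k x hx
      have h1 : α ∈ MulAction.stabilizer (MulAut P) x := hfix x hx
      exact (MulAction.stabilizer (MulAut P) x).zpow_mem h1 k
    let U : AddSubgroup K :=
      { carrier := {c | ∃ x ∈ ψ.ker, κ x = ofAdd c}
        add_mem' := by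
          rintro x y ⟨u, hu, hu'⟩ ⟨v, hv, hv'⟩
          exact ⟨u * v, ψ.ker.mul_mem hu hv, by rw [map_mul, hu', hv', ofAdd_add]⟩
        zero_mem' := ⟨1, ψ.ker.one_mem, by rw [map_one, ofAdd_zero]⟩
        neg_mem' := by
          rintro x ⟨u, hu, hu'⟩
          exact ⟨u⁻¹, ψ.ker.inv_mem hu, by rw [map_inv, hu', ofAdd_neg]⟩ }
    have hWU : Wsub ζ ≤ U := by
      rw [Wsub, AddSubgroup.closure_le]
      rintro _ ⟨k, rfl⟩
      refine ⟨(α ^ k) x₀ * (α ^ (-k)) x₀, ?_, ?_⟩
      · rw [MonoidHom.mem_ker, map_mul, hψ, hψ]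
        have h1 : x₀ * (α ^ (-k)) x₀ * x₀⁻¹ * ((α ^ (-k)) x₀)⁻¹
            = (α ^ (-k)) ((α ^ k) x₀ * x₀ * ((α ^ k) x₀)⁻¹ * x₀⁻¹) := by
          rw [map_mul, map_mul, map_mul, map_inv, map_inv]
          have : (α ^ (-k)) ((α ^ k) x₀) = x₀ := by
            rw [← MulAut.mul_apply, ← zpow_add]; simp
          rw [this]
        rw [h1, hfixk _ _ (hcomm _ _)]
        group
      · apply toAdd.injective
        rw [map_mul, toAdd_mul, hαk, hαk, hx₀, toAdd_ofAdd, toAdd_ofAdd, mul_one, mul_one]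
    have h1 : Nat.card (Wsub ζ) ≤ Nat.card (κ.comp ψ.ker.subtype).range := by
      have h2 : Nat.card (Wsub ζ) ≤ Nat.card U :=
        Nat.card_le_card_of_injective (AddSubgroup.inclusion hWU) (AddSubgroup.inclusion_injective hWU)
      refine h2.trans (Nat.card_le_card_of_injective
        (fun u : U => (⟨ofAdd (u : K), by obtain ⟨x, hx, hxu⟩ := u.2; exact ⟨⟨x, hx⟩, hxu⟩⟩ : (κ.comp ψ.ker.subtype).range)) ?_)
      intro u v h
      have := congrArg Subtype.val h
      exact Subtype.ext (ofAdd.injective this)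
    have h3 : Nat.card κ.ker ≤ Nat.card (κ.comp ψ.ker.subtype).ker := by
      have hle : κ.ker ≤ ψ.ker := by
        intro z hz
        rw [MonoidHom.mem_ker, hψ]
        have := Subgroup.mem_center_iff.mp (hc z hz) x₀
        rw [this]; group
      refine Nat.card_le_card_of_injective
        (fun z : κ.ker => (⟨⟨z, hle z.2⟩, z.2⟩ : (κ.comp ψ.ker.subtype).ker)) ?_
      intro u v h
      have := congrArg (fun w : (κ.comp ψ.ker.subtype).ker => ((w : ψ.ker) : P)) h
      exact Subtype.ext this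
    have h4 := (κ.comp ψ.ker.subtype).ker.card_mul_index
    rw [Subgroup.index_ker] at h4
    rw [← h4, mul_comm]
    exact Nat.mul_le_mul h3 h1
  have hZpos : 0 < Nat.card κ.ker := Nat.card_pos
  -- |K| ≥ |Z| |W|
  have hfin : Nat.card κ.ker * Nat.card (Wsub ζ) ≤ Nat.card K := by
    have h1 : Nat.card κ.ker * (Nat.card κ.ker * Nat.card (Wsub ζ)) ≤ Nat.card κ.ker * Nat.card K := by
      calc Nat.card κ.ker * (Nat.card κ.ker * Nat.card (Wsub ζ))
          = (Nat.card (Wsub ζ) * Nat.card κ.ker) * Nat.card κ.ker := by ring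
        _ ≤ Nat.card ψ.ker * Nat.card C := Nat.mul_le_mul hW hZC'
        _ = Nat.card κ.ker * Nat.card K := by rw [hcψ, hcP]
    exact Nat.le_of_mul_le_mul_left h1 hZpos
  calc Nat.card P * Nat.card (Wsub ζ) = Nat.card K * (Nat.card κ.ker * Nat.card (Wsub ζ)) := by rw [← hcP]; ring
    _ ≤ Nat.card K * Nat.card K := Nat.mul_le_mul_left _ hfin

theorem card_le (hpq : p ≠ q) (hcard : Nat.card K = p ^ a) (ha : a = orderOf (p : ZMod q)) {ζ : Kˣ} (hζ : orderOf ζ = q)
    {P : Type*} [Group P] [Finite P] (α : MulAut P) (κ : P →* Multiplicative K) (hκ : Function.Surjective κ)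
    (hα : ∀ x, toAdd (κ (α x)) = ζ * toAdd (κ x))
    (hc : ∀ x, κ x = 1 → x ∈ Subgroup.center P) (hfix : ∀ x, κ x = 1 → α x = x)
    (hF : ∀ R : Subgroup P, (∀ x ∈ R, α x ∈ R) → (∀ c, ∃ x ∈ R, κ x = c) → R = ⊤) {a₀ : ℕ}
    (ha₀ : a₀ = if a % 2 = 1 then a else 3 * a / 2) :
    Nat.card P ≤ p ^ a₀ := by
  have h := card_mul_le hcard ha hζ α κ hκ hα hc hfix hF
  obtain ⟨h1, h2⟩ := Wsub_card hpq hcard ha hζ
  have hp : 0 < p := (Fact.out : p.Prime).pos
  rcases Nat.mod_two_eq_zero_or_one a with h0 | h0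
  · have h3 := h2 h0
    rw [if_neg (by omega)] at ha₀
    have h4 : Nat.card P * p ^ (a / 2) ≤ p ^ a₀ * p ^ (a / 2) := by
      calc Nat.card P * p ^ (a / 2) ≤ Nat.card P * Nat.card (Wsub ζ) := Nat.mul_le_mul_left _ h3
        _ ≤ Nat.card K * Nat.card K := h
        _ = p ^ a₀ * p ^ (a / 2) := by
          rw [hcard, ← pow_add, ← pow_add]
          congr 1
          omega
    exact Nat.le_of_mul_le_mul_right h4 (pow_pos hp _)
  · have h3 := h1 h0
    rw [if_pos h0] at ha₀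
    have h5 : Nat.card (⊤ : AddSubgroup K) = Nat.card K := Nat.card_congr (Equiv.Set.univ K)
    rw [h3, h5] at h
    rw [ha₀, ← hcard]
    exact Nat.le_of_mul_le_mul_right h Nat.card_pos

end Cfsg.Agent.H62.Sch
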