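import Cfsg.Agent.H62.SchB

/-! Comparison of two Schmidt systems. -/

set_option autoImplicit false
set_option linter.unusedSectionVars false
set_option linter.style.haveILetI false

namespace Cfsg.Agent.H62.Sch

open Multiplicative

variable {K : Type*} [Field K] [Finite K] {p q a r : ℕ} [Fact p.Prime] [Fact q.Prime]

/-- A Schmidt system: `P` a normal `p`-subgroup, `y` of order `q ^ r`, `κ : P → K` onto, `y` acting on `K` by `ζ`, kernel
central in the whole group, and no proper `y`-invariant subgroup of `P` mapping onto `K`. -/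
structure Sys (p q r : ℕ) (ζ : Kˣ) (G : Type*) [Group G] (P : Subgroup G) (y : G) (κ : P →* Multiplicative K) : Prop where
  normal : P.Normal
  pgroup : IsPGroup p P
  ord : orderOf y = q ^ r
  top : P ⊔ Subgroup.zpowers y = ⊤
  surj : Function.Surjective κ
  act : ∀ (x : P) (x' : P), (x' : G) = y * x * y⁻¹ → toAdd (κ x') = ζ * toAdd (κ x)
  cent : ∀ x : P, κ x = 1 → (x : G) ∈ Subgroup.center G
  frat : ∀ R : Subgroup G, R ≤ P → (∀ x ∈ R, y * x * y⁻¹ ∈ R) → (∀ c, ∃ x : P, (x : G) ∈ R ∧ κ x = c) → R = P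

theorem Sys.zpow_mem {ζ : Kˣ} {G : Type*} [Group G] {P : Subgroup G} {y : G} {κ : P →* Multiplicative K}
    (h : Sys p q r ζ G P y κ) (hpq : p ≠ q) (i : ℤ) (hi : y ^ i ∈ P) : y ^ i = 1 := by
  obtain ⟨k, hk⟩ := h.pgroup ⟨y ^ i, hi⟩
  have hk' : (y ^ i) ^ (p ^ k) = 1 := by
    have := congrArg Subtype.val hk
    simpa using this
  have h1 : (y ^ i) ^ (q ^ r) = 1 := by
    rw [← h.ord, ← zpow_natCast, ← zpow_mul, mul_comm, zpow_mul, zpow_natCast, pow_orderOf_eq_one, one_zpow]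
  have h2 := orderOf_dvd_of_pow_eq_one hk'
  have h3 := orderOf_dvd_of_pow_eq_one h1
  have hcop : Nat.Coprime (p ^ k) (q ^ r) := Nat.Coprime.pow _ _ ((Nat.coprime_primes Fact.out Fact.out).mpr hpq)
  exact orderOf_eq_one_iff.mp (Nat.eq_one_of_dvd_coprimes hcop h2 h3)

theorem Sys.exists_mul {ζ : Kˣ} {G : Type*} [Group G] {P : Subgroup G} {y : G} {κ : P →* Multiplicative K}
    (h : Sys p q r ζ G P y κ) (g : G) : ∃ x : P, ∃ i : ℤ, g = x * y ^ i := by
  haveI := h.normal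
  have hg : g ∈ P ⊔ Subgroup.zpowers y := by rw [h.top]; trivial
  rw [← SetLike.mem_coe, Subgroup.normal_mul] at hg
  obtain ⟨u, hu, v, ⟨i, hi⟩, rfl⟩ := hg
  exact ⟨⟨u, hu⟩, i, by rw [← hi]⟩

variable {ζ : Kˣ} {G X : Type*} [Group G] [Group X] [Finite G] [Finite X]
  {P : Subgroup G} {y : G} {κ : P →* Multiplicative K} {P' : Subgroup X} {y' : X} {κ' : P' →* Multiplicative K}

/-- The comparison theorem. -/
theorem exists_hom (hpq : p ≠ q) (hcard : Nat.card K = p ^ a) (ha : a = orderOf (p : ZMod q)) (hζ : orderOf ζ = q)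
    (h : Sys p q r ζ G P y κ) (h' : Sys p q r ζ X P' y' κ') {a₀ : ℕ}
    (ha₀ : a₀ = if a % 2 = 1 then a else 3 * a / 2) (hP : Nat.card P = p ^ a₀) :
    ∃ φ : G →* X, Function.Surjective φ ∧ φ.ker ≤ Subgroup.center G := by
  classical
  haveI := h.normal
  haveI := h'.normal
  -- family of invariant subgroups
  let good : Set (Subgroup (G × X)) := {R | (∀ s ∈ R, ∃ (u : P) (v : P'), (u : G) = s.1 ∧ (v : X) = s.2 ∧ κ u = κ' v) ∧
    (∀ s ∈ R, ((y, y') : G × X) * s * (y, y')⁻¹ ∈ R) ∧ ∀ c, ∃ s ∈ R, ∃ u : P, (u : G) = s.1 ∧ κ u = c}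
  have hact : ∀ x : P, ∃ x' : P, (x' : G) = y * x * y⁻¹ := fun x => ⟨⟨y * x * y⁻¹, h.normal.conj_mem _ x.2 y⟩, rfl⟩
  have hact' : ∀ x : P', ∃ x' : P', (x' : X) = y' * x * y'⁻¹ := fun x => ⟨⟨y' * x * y'⁻¹, h'.normal.conj_mem _ x.2 y'⟩, rfl⟩
  have hne : good.Nonempty := by
    let T : Subgroup (G × X) :=
      { carrier := {s | ∃ (u : P) (v : P'), (u : G) = s.1 ∧ (v : X) = s.2 ∧ κ u = κ' v}
        mul_mem' := by
          rintro s t ⟨u, v, h1, h2, h3⟩ ⟨u', v', h1', h2', h3'⟩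
          exact ⟨u * u', v * v', by simp [h1, h1'], by simp [h2, h2'], by rw [map_mul, map_mul, h3, h3']⟩
        one_mem' := ⟨1, 1, rfl, rfl, by simp⟩
        inv_mem' := by
          rintro s ⟨u, v, h1, h2, h3⟩
          exact ⟨u⁻¹, v⁻¹, by simp [h1], by simp [h2], by rw [map_inv, map_inv, h3]⟩ }
    refine ⟨T, fun s hs => hs, ?_, ?_⟩
    · rintro s ⟨u, v, h1, h2, h3⟩
      obtain ⟨u', hu'⟩ := hact u
      obtain ⟨v', hv'⟩ := hact' v
      refine ⟨u', v', by rw [hu', h1]; rfl, by rw [hv', h2]; rfl, ?_⟩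
      apply toAdd.injective
      rw [h.act u u' hu', h'.act v v' hv', h3]
    · intro c
      obtain ⟨u, hu⟩ := h.surj c
      obtain ⟨v, hv⟩ := h'.surj c
      exact ⟨((u : G), (v : X)), ⟨u, v, rfl, rfl, by rw [hu, hv]⟩, u, rfl, hu⟩
  obtain ⟨R, hRm⟩ := (Set.toFinite good).exists_minimal hne
  have hRg : R ∈ good := hRm.1
  have hRmin : ∀ {T : Subgroup (G × X)}, T ∈ good → T ≤ R → R ≤ T := fun {T} h1 h2 => hRm.2 h1 h2
  obtain ⟨hR1, hR2, hR3⟩ := hRg
  -- the map κ on R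
  have hmemP : ∀ s : R, (s : G × X).1 ∈ P := fun s => by
    obtain ⟨u, v, h1, -, -⟩ := hR1 s s.2
    rw [← h1]; exact u.2
  have hmemP' : ∀ s : R, (s : G × X).2 ∈ P' := fun s => by
    obtain ⟨u, v, -, h1, -⟩ := hR1 s s.2
    rw [← h1]; exact v.2
  let κR : R →* Multiplicative K := κ.comp (((MonoidHom.fst G X).comp R.subtype).codRestrict P hmemP)
  have hκR : ∀ s : R, κR s = κ ⟨(s : G × X).1, hmemP s⟩ := fun s => rfl
  have hκR' : ∀ s : R, κR s = κ' ⟨(s : G × X).2, hmemP' s⟩ := by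
    intro s
    obtain ⟨u, v, h1, h2, h3⟩ := hR1 s s.2
    rw [hκR]
    have e1 : (⟨(s : G × X).1, hmemP s⟩ : P) = u := Subtype.ext h1.symm
    have e2 : (⟨(s : G × X).2, hmemP' s⟩ : P') = v := Subtype.ext h2.symm
    rw [e1, e2, h3]
  -- projections of R are everything
  have hproj1 : R.map (MonoidHom.fst G X) = P := by
    apply h.frat
    · rintro _ ⟨s, hs, rfl⟩
      exact hmemP ⟨s, hs⟩
    · rintro _ ⟨s, hs, rfl⟩
      exact ⟨(y, y') * s * (y, y')⁻¹, hR2 s hs, rfl⟩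
    · intro c
      obtain ⟨s, hs, u, hu, huc⟩ := hR3 c
      exact ⟨u, ⟨s, hs, hu.symm⟩, huc⟩
  have hproj2 : R.map (MonoidHom.snd G X) = P' := by
    apply h'.frat
    · rintro _ ⟨s, hs, rfl⟩
      exact hmemP' ⟨s, hs⟩
    · rintro _ ⟨s, hs, rfl⟩
      exact ⟨(y, y') * s * (y, y')⁻¹, hR2 s hs, rfl⟩
    · intro c
      obtain ⟨s, hs, u, hu, huc⟩ := hR3 c
      obtain ⟨u', v', h1, h2, h3⟩ := hR1 s hs
      refine ⟨v', ⟨s, hs, h2.symm⟩, ?_⟩
      rw [← h3, ← huc]
      congr 1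
      exact Subtype.ext (h1.trans hu.symm)
  -- bound for R
  let Y : G × X := (y, y')
  have hYR : ∀ s, s ∈ R ↔ Y * s * Y⁻¹ ∈ R := by
    intro s
    refine ⟨hR2 s, fun hs => ?_⟩
    -- finite order
    have hn : ∀ n : ℕ, ∀ t, t ∈ R → Y ^ n * t * (Y ^ n)⁻¹ ∈ R := by
      intro n
      induction n with
      | zero => intro t ht; simpa using ht
      | succ n ih =>
        intro t ht
        have := hR2 _ (ih t ht)
        have e : (y, y') * (Y ^ n * t * (Y ^ n)⁻¹) * (y, y')⁻¹ = Y ^ (n + 1) * t * (Y ^ (n + 1))⁻¹ := by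
          change Y * _ * Y⁻¹ = _
          rw [pow_succ']; group
        rwa [e] at this
    have h1 := hn (orderOf Y - 1) _ hs
    have h2 : Y ^ (orderOf Y - 1) * (Y * s * Y⁻¹) * (Y ^ (orderOf Y - 1))⁻¹ = s := by
      have h3 : Y ^ (orderOf Y - 1) * Y = 1 := by
        rw [← pow_succ, Nat.sub_add_cancel (orderOf_pos Y), pow_orderOf_eq_one]
      have h4 : Y ^ (orderOf Y - 1) = Y⁻¹ := eq_inv_of_mul_eq_one_left h3
      rw [h4]; group
    rwa [h2] at h1
  let α : MulAut R :=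
    { toFun := fun s => ⟨Y * s * Y⁻¹, (hYR _).mp s.2⟩
      invFun := fun s => ⟨Y⁻¹ * s * Y, (hYR _).mpr (by
        have : Y * (Y⁻¹ * (s : G × X) * Y) * Y⁻¹ = s := by group
        rw [this]; exact s.2)⟩
      left_inv := fun s => Subtype.ext (by simp [mul_assoc])
      right_inv := fun s => Subtype.ext (by simp [mul_assoc])
      map_mul' := fun s t => Subtype.ext (by simp [mul_assoc]) }
  have hαv : ∀ s : R, ((α s : R) : G × X) = Y * s * Y⁻¹ := fun s => rfl
  have hker : ∀ s : R, κR s = 1 → (s : G × X) ∈ Subgroup.center (G × X) := by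
    intro s hs
    have h1 := h.cent _ ((hκR s).symm.trans hs)
    have h2 := h'.cent _ ((hκR' s).symm.trans hs)
    rw [Subgroup.mem_center_iff] at h1 h2 ⊢
    intro g
    exact Prod.ext (h1 g.1) (h2 g.2)
  have hbound : Nat.card R ≤ p ^ a₀ := by
    apply card_le hpq hcard ha hζ α κR _ _ _ _ _ ha₀
    · intro c
      obtain ⟨s, hs, u, hu, huc⟩ := hR3 c
      refine ⟨⟨s, hs⟩, ?_⟩
      rw [hκR, ← huc]
      congr 1
      exact Subtype.ext hu.symm
    · intro s
      rw [hκR, hκR]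
      exact h.act _ _ rfl
    · intro s hs
      have := Subgroup.mem_center_iff.mp (hker s hs)
      rw [Subgroup.mem_center_iff]
      intro g
      exact Subtype.ext (this g)
    · intro s hs
      have := Subgroup.mem_center_iff.mp (hker s hs) Y
      apply Subtype.ext
      rw [hαv, this]; group
    · intro R' hR'α hR'
      -- minimality
      have hle : R'.map R.subtype ≤ R := by
        rintro _ ⟨s, -, rfl⟩; exact s.2
      have hmem : R'.map R.subtype ∈ good := by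
        refine ⟨fun s hs => hR1 s (hle hs), ?_, ?_⟩
        · rintro _ ⟨s, hs, rfl⟩
          exact ⟨α s, hR'α s hs, rfl⟩
        · intro c
          obtain ⟨s, hs, hsc⟩ := hR' c
          exact ⟨s, ⟨s, hs, rfl⟩, ⟨(s : G × X).1, hmemP s⟩, rfl, hsc⟩
      have heq : R ≤ R'.map R.subtype := hRmin hmem hle
      rw [eq_top_iff]
      intro s _
      obtain ⟨t, ht, hts⟩ := heq s.2
      have : t = s := Subtype.ext hts
      rw [← this]; exact ht
  -- first projection is injective on R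
  have hinj : ∀ s ∈ R, s.1 = 1 → s.2 = 1 := by
    let f : R → P := fun s => ⟨(s : G × X).1, hmemP s⟩
    have hfs : Function.Surjective f := by
      intro u
      have : (u : G) ∈ R.map (MonoidHom.fst G X) := by rw [hproj1]; exact u.2
      obtain ⟨s, hs, hsu⟩ := this
      exact ⟨⟨s, hs⟩, Subtype.ext hsu⟩
    have hfi : Function.Injective f := by
      have hc : Nat.card R = Nat.card P := le_antisymm (by rw [hP]; exact hbound) (Nat.card_le_card_of_surjective f hfs)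
      exact ((Nat.bijective_iff_surjective_and_card f).mpr ⟨hfs, hc⟩).1
    intro s hs h1
    have h2 : f ⟨s, hs⟩ = f 1 := Subtype.ext h1
    have h3 := congrArg Subtype.val (hfi h2)
    rw [show s = 1 from h3]; rfl
  -- the graph
  let Γ : Subgroup (G × X) :=
    { carrier := {g | ∃ s ∈ R, ∃ i : ℤ, g = s * Y ^ i}
      mul_mem' := by
        rintro _ _ ⟨s, hs, i, rfl⟩ ⟨t, ht, j, rfl⟩
        refine ⟨s * (Y ^ i * t * (Y ^ i)⁻¹), R.mul_mem hs ?_, i + j, by rw [zpow_add]; group⟩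
        have hst : Y ∈ Subgroup.normalizer (R : Set (G × X)) := by
          rw [Subgroup.mem_normalizer_iff]; exact hYR
        have := Subgroup.zpow_mem _ hst i
        exact (Subgroup.mem_normalizer_iff.mp this t).mp ht
      one_mem' := ⟨1, R.one_mem, 0, by simp⟩
      inv_mem' := by
        rintro _ ⟨s, hs, i, rfl⟩
        refine ⟨(Y ^ (-i)) * s⁻¹ * (Y ^ (-i))⁻¹, ?_, -i, by group⟩
        have hst : Y ∈ Subgroup.normalizer (R : Set (G × X)) := by
          rw [Subgroup.mem_normalizer_iff]; exact hYR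
        have := Subgroup.zpow_mem _ hst (-i)
        exact (Subgroup.mem_normalizer_iff.mp this _).mp (R.inv_mem hs) }
  have hYi : ∀ i : ℤ, (Y ^ i).1 = y ^ i ∧ (Y ^ i).2 = y' ^ i := fun i => ⟨rfl, rfl⟩
  have hone : ∀ i : ℤ, y ^ i = 1 ↔ y' ^ i = 1 := by
    intro i
    rw [← orderOf_dvd_iff_zpow_eq_one, ← orderOf_dvd_iff_zpow_eq_one, h.ord, h'.ord]
  have hΓinj : ∀ g ∈ Γ, g.1 = 1 → g = 1 := by
    rintro _ ⟨s, hs, i, rfl⟩ h1
    have h1' : s.1 * y ^ i = 1 := h1
    have h2 : y ^ i ∈ P := by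
      rw [← inv_eq_of_mul_eq_one_right h1']
      exact P.inv_mem (hmemP ⟨s, hs⟩)
    have h3 := h.zpow_mem hpq i h2
    have h4 : s.1 = 1 := by rw [h3, mul_one] at h1'; exact h1'
    have h5 := hinj s hs h4
    have h6 := (hone i).mp h3
    apply Prod.ext
    · exact h1
    · change s.2 * y' ^ i = 1
      rw [h5, h6, mul_one]
  let π₁ : Γ →* G := (MonoidHom.fst G X).comp Γ.subtype
  let π₂ : Γ →* X := (MonoidHom.snd G X).comp Γ.subtype
  have hπ₁s : Function.Surjective π₁ := by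
    intro g
    obtain ⟨x, i, rfl⟩ := h.exists_mul g
    have : (x : G) ∈ R.map (MonoidHom.fst G X) := by rw [hproj1]; exact x.2
    obtain ⟨s, hs, hsx⟩ := this
    refine ⟨⟨s * Y ^ i, s, hs, i, rfl⟩, ?_⟩
    change s.1 * y ^ i = _
    rw [show s.1 = (x : G) from hsx]
  have hπ₂s : Function.Surjective π₂ := by
    intro g
    obtain ⟨x, i, rfl⟩ := h'.exists_mul g
    have : (x : X) ∈ R.map (MonoidHom.snd G X) := by rw [hproj2]; exact x.2
    obtain ⟨s, hs, hsx⟩ := this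
    refine ⟨⟨s * Y ^ i, s, hs, i, rfl⟩, ?_⟩
    change s.2 * y' ^ i = _
    rw [show s.2 = (x : X) from hsx]
  have hπ₁i : Function.Injective π₁ := by
    rw [injective_iff_map_eq_one]
    intro g hg
    exact Subtype.ext (hΓinj g g.2 hg)
  let e : Γ ≃* G := MulEquiv.ofBijective π₁ ⟨hπ₁i, hπ₁s⟩
  refine ⟨π₂.comp e.symm.toMonoidHom, hπ₂s.comp e.symm.surjective, ?_⟩
  intro g hg
  obtain ⟨t, rfl⟩ := e.surjective g
  have hg' : π₂ t = 1 := by
    have := hg
    rw [MonoidHom.mem_ker] at this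
    simpa using this
  obtain ⟨s, hs, i, hsi⟩ := t.2
  have h1' : s.2 * y' ^ i = 1 := by
    have : (t : G × X).2 = 1 := hg'
    rw [hsi] at this
    exact this
  have h2 : y' ^ i ∈ P' := by
    rw [← inv_eq_of_mul_eq_one_right h1']
    exact P'.inv_mem (hmemP' ⟨s, hs⟩)
  have h3 := h'.zpow_mem hpq i h2
  have h4 : s.2 = 1 := by rw [h3, mul_one] at h1'; exact h1'
  have h5 : y ^ i = 1 := (hone i).mpr h3
  have h6 : κR ⟨s, hs⟩ = 1 := by
    rw [hκR']
    have : (⟨((⟨s, hs⟩ : R) : G × X).2, hmemP' ⟨s, hs⟩⟩ : P') = 1 := Subtype.ext h4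
    rw [this, map_one]
  have h7 := h.cent _ ((hκR ⟨s, hs⟩).symm.trans h6)
  have h8 : e t = s.1 := by
    change (t : G × X).1 = s.1
    rw [hsi]
    change s.1 * y ^ i = s.1
    rw [h5, mul_one]
  rw [h8]
  exact h7

end Cfsg.Agent.H62.Sch
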