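import Mathlib

/-! An irreducible automorphism of prime order `q` is multiplication by an element of order `q` in the field of order `p ^ a`. -/

set_option autoImplicit false
set_option linter.unusedSectionVars false
set_option linter.style.haveILetI false

namespace Cfsg.Agent.H62.Sch

section fieldid

variable {A : Type*} [AddCommGroup A] [Finite A] [Nontrivial A]

theorem exists_field_equiv {K : Type*} [Field K] [Finite K] {p q a : ℕ} [Fact p.Prime] [Fact q.Prime]
    (hA : ∃ n, Nat.card A = p ^ n) (c : AddMonoid.End A) (hc : c ^ q = 1) (hc1 : c ≠ 1)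
    (hirr : ∀ U : AddSubgroup A, (∀ u ∈ U, c u ∈ U) → U = ⊥ ∨ U = ⊤)
    (hcard : Nat.card K = p ^ a) (ha : a = orderOf (p : ZMod q)) (ζ : Kˣ) (hζ : orderOf ζ = q) :
    ∃ (k : ℕ) (κ : A ≃+ K), k.Coprime q ∧ ∀ x, κ ((c ^ k) x) = ζ * κ x := by
  classical
  have hpp : p.Prime := Fact.out
  have hqp : q.Prime := Fact.out
  have : Fintype K := Fintype.ofFinite K
  have hcomm : ∀ x ∈ ({c} : Set (AddMonoid.End A)), ∀ y ∈ ({c} : Set (AddMonoid.End A)), x * y = y * x := by
    intro x hx y hy
    rw [Set.mem_singleton_iff] at hx hy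
    rw [hx, hy]
  letI : CommRing (Subring.closure ({c} : Set (AddMonoid.End A))) := Subring.closureCommRingOfComm hcomm
  let F := Subring.closure ({c} : Set (AddMonoid.End A))
  have hfinEnd : Finite (AddMonoid.End A) := Finite.of_injective (fun f : AddMonoid.End A => (f : A → A)) DFunLike.coe_injective
  have hcF : c ∈ F := Subring.subset_closure rfl
  have hfc : ∀ f ∈ F, ∀ x, f (c x) = c (f x) := by
    intro f hf
    have h1 : (⟨f, hf⟩ : F) * ⟨c, hcF⟩ = ⟨c, hcF⟩ * ⟨f, hf⟩ := mul_comm _ _
    have h2 : f * c = c * f := congrArg Subtype.val h1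
    intro x
    exact DFunLike.congr_fun h2 x
  have hinj : ∀ f ∈ F, f ≠ 0 → ∀ x, f x = 0 → x = 0 := by
    intro f hf hf0 x hx
    let U : AddSubgroup A :=
      { carrier := {x | f x = 0}
        add_mem' := by
          intro x y hx hy
          simp only [Set.mem_setOf_eq] at hx hy ⊢
          rw [map_add, hx, hy, add_zero]
        zero_mem' := map_zero f
        neg_mem' := by
          intro x hx
          simp only [Set.mem_setOf_eq] at hx ⊢
          rw [map_neg, hx, neg_zero] }
    rcases hirr U (fun u hu => by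
      change f (c u) = 0
      rw [hfc f hf, show f u = 0 from hu, map_zero]) with h | h
    · have : x ∈ U := hx
      rw [h, AddSubgroup.mem_bot] at this
      exact this
    · exfalso
      apply hf0
      apply DFunLike.ext
      intro z
      have : z ∈ U := by rw [h]; trivial
      exact this
  haveI hnt : Nontrivial F := by
    refine ⟨⟨0, 1, fun h => ?_⟩⟩
    obtain ⟨x, hx⟩ := exists_ne (0 : A)
    have h2 : (0 : AddMonoid.End A) = 1 := congrArg Subtype.val h
    apply hx
    have := DFunLike.congr_fun h2 x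
    exact this.symm
  haveI : NoZeroDivisors F := by
    refine ⟨?_⟩
    intro f g hfg
    by_contra hcon
    push Not at hcon
    obtain ⟨x, hx⟩ := exists_ne (0 : A)
    have h1 : (f : AddMonoid.End A) ≠ 0 := fun h => hcon.1 (Subtype.ext h)
    have h2 : (g : AddMonoid.End A) ≠ 0 := fun h => hcon.2 (Subtype.ext h)
    have h3 : (f : AddMonoid.End A) ((g : AddMonoid.End A) x) = 0 := by
      have : (f : AddMonoid.End A) * (g : AddMonoid.End A) = 0 := congrArg Subtype.val hfg
      exact DFunLike.congr_fun this x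
    exact hx (hinj g g.2 h2 x (hinj f f.2 h1 _ h3))
  haveI : IsDomain F := NoZeroDivisors.to_isDomain F
  haveI : Finite F := inferInstance
  haveI : Fintype F := Fintype.ofFinite F
  letI : Field F := Fintype.fieldOfDomain F
  obtain ⟨x₀, hx₀⟩ := exists_ne (0 : A)
  let ev : F →+ A :=
    { toFun := fun f => (f : AddMonoid.End A) x₀
      map_zero' := rfl
      map_add' := fun f g => rfl }
  have hevinj : Function.Injective ev := by
    rw [injective_iff_map_eq_zero]
    intro f hf
    by_contra h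
    exact hx₀ (hinj f f.2 (fun h' => h (Subtype.ext h')) x₀ hf)
  have hevsurj : Function.Surjective ev := by
    rcases hirr ev.range (by
      rintro _ ⟨f, rfl⟩
      exact ⟨⟨c, hcF⟩ * f, rfl⟩) with h | h
    · exfalso
      apply hx₀
      have : x₀ ∈ ev.range := ⟨1, rfl⟩
      rw [h, AddSubgroup.mem_bot] at this
      exact this
    · intro x
      have : x ∈ ev.range := by rw [h]; trivial
      exact this
  let e : F ≃+ A := AddEquiv.ofBijective ev ⟨hevinj, hevsurj⟩
  obtain ⟨n, hn⟩ := hA
  have hcF' : Nat.card F = p ^ n := by rw [← hn]; exact Nat.card_congr e.toEquiv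
  -- order of c in F
  let cF : F := ⟨c, hcF⟩
  have hcFq : cF ^ q = 1 := Subtype.ext hc
  have hcF1 : cF ≠ 1 := fun h => hc1 (congrArg Subtype.val h)
  have hord : orderOf cF = q := orderOf_eq_prime hcFq hcF1
  have hcF0 : cF ≠ 0 := by
    intro h
    rw [h, zero_pow hqp.ne_zero] at hcFq
    exact zero_ne_one hcFq
  have hF1 : 1 < Nat.card F := by
    rw [Nat.card_eq_fintype_card]; exact Fintype.one_lt_card
  have hn0 : n ≠ 0 := by
    rintro rfl
    rw [hcF'] at hF1; simp at hF1
  have hqn : q ∣ Nat.card F - 1 := by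
    rw [← hord, Nat.card_eq_fintype_card]
    exact orderOf_dvd_of_pow_eq_one (FiniteField.pow_card_sub_one_eq_one _ hcF0)
  have han : a ∣ n := by
    rw [ha]
    apply orderOf_dvd_of_pow_eq_one
    have h2 : ((Nat.card F - 1 : ℕ) : ZMod q) = 0 := (ZMod.natCast_eq_zero_iff _ _).mpr hqn
    rw [Nat.cast_sub hF1.le, hcF'] at h2
    push_cast at h2
    exact sub_eq_zero.mp h2
  -- p^a-power map
  have hchar : CharP F p := by
    obtain ⟨r, hr⟩ := CharP.exists F
    have hrp : r.Prime := CharP.char_is_prime F r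
    have hF : Fact r.Prime := ⟨hrp⟩
    obtain ⟨m, -, hm⟩ := FiniteField.card F r
    have : r ∣ p ^ n := by
      rw [← hcF', Nat.card_eq_fintype_card, hm]
      exact dvd_pow_self r m.2.ne'
    have : r = p := (Nat.prime_dvd_prime_iff_eq hrp hpp).mp (hrp.dvd_of_dvd_pow this)
    rw [← this]; exact hr
  have hK1 : 1 < Nat.card K := by
    rw [Nat.card_eq_fintype_card]; exact Fintype.one_lt_card
  have ha0 : a ≠ 0 := by
    rintro rfl
    rw [hcard] at hK1; simp at hK1
  have hqa : q ∣ p ^ a - 1 := by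
    rw [← hcard, ← hζ, Nat.card_eq_fintype_card]
    apply orderOf_dvd_of_pow_eq_one
    apply Units.ext
    rw [Units.val_pow_eq_pow_val, Units.val_one]
    exact FiniteField.pow_card_sub_one_eq_one _ ζ.ne_zero
  have hcpa : cF ^ (p ^ a) = cF := by
    have h1 : p ^ a = (p ^ a - 1) + 1 := (Nat.sub_add_cancel (Nat.one_le_pow _ _ hpp.pos)).symm
    rw [h1, pow_succ]
    obtain ⟨m, hm⟩ := hqa
    rw [hm, pow_mul, hcFq, one_pow, one_mul]
  have hall : ∀ f : F, f ^ (p ^ a) = f := by
    haveI : ExpChar F p := ExpChar.prime hpp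
    rintro ⟨f, hf⟩
    induction hf using Subring.closure_induction with
    | mem x hx =>
      rw [Set.mem_singleton_iff] at hx
      subst hx
      exact hcpa
    | zero => exact zero_pow (pow_ne_zero _ hpp.ne_zero)
    | one => exact one_pow _
    | add x y hx hy h1 h2 =>
      have h3 : (⟨x + y, add_mem hx hy⟩ : F) = ⟨x, hx⟩ + ⟨y, hy⟩ := rfl
      rw [h3, add_pow_expChar_pow, h1, h2]
    | neg x hx h1 =>
      have h3 : (⟨-x, neg_mem hx⟩ : F) = -⟨x, hx⟩ := rfl
      have h4 : (0 : F) ^ (p ^ a) = 0 := zero_pow (pow_ne_zero _ hpp.ne_zero)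
      have h5 := add_pow_expChar_pow (⟨x, hx⟩ : F) (-⟨x, hx⟩) p a
      rw [add_neg_cancel, h4, h1] at h5
      rw [h3]
      exact (neg_eq_of_add_eq_zero_right h5.symm).symm
    | mul x y hx hy h1 h2 =>
      have h3 : (⟨x * y, mul_mem hx hy⟩ : F) = ⟨x, hx⟩ * ⟨y, hy⟩ := rfl
      rw [h3, mul_pow, h1, h2]
  have hna : n ≤ a := by
    obtain ⟨g, hg⟩ := IsCyclic.exists_generator (α := Fˣ)
    have h1 : orderOf g = Nat.card Fˣ := orderOf_eq_card_of_forall_mem_zpowers hg
    have h2 : g ^ (p ^ a - 1) = 1 := by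
      have h3 := hall (g : F)
      have h4 : g ^ (p ^ a) = g := Units.ext (by rw [Units.val_pow_eq_pow_val]; exact h3)
      have h5 : g ^ (p ^ a - 1) * g = g := by
        rw [← pow_succ, Nat.sub_add_cancel (Nat.one_le_pow _ _ hpp.pos)]; exact h4
      exact mul_eq_right.mp h5
    have h3 := orderOf_dvd_of_pow_eq_one h2
    rw [h1, Nat.card_units, hcF'] at h3
    have h4 : 0 < p ^ a - 1 := by
      rw [hcard] at hK1; omega
    have h5 := Nat.le_of_dvd h4 h3
    have h6 : p ^ n ≤ p ^ a := by
      have := Nat.one_le_pow n p hpp.pos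
      omega
    exact (Nat.pow_le_pow_iff_right hpp.one_lt).mp h6
  have hna' : n = a := le_antisymm hna (Nat.le_of_dvd (Nat.pos_of_ne_zero hn0) han)
  have hFK : Fintype.card F = Fintype.card K := by
    rw [← Nat.card_eq_fintype_card, ← Nat.card_eq_fintype_card, hcF', hcard, hna']
  let θ : F ≃+* K := FiniteField.ringEquivOfCardEq hFK
  have hθord : orderOf (θ cF) = q := by
    rw [← hord]
    exact orderOf_injective (θ : F →* K) θ.injective cF
  have hprim : IsPrimitiveRoot (θ cF) q := by
    rw [← hθord]; exact IsPrimitiveRoot.orderOf _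
  haveI : NeZero q := ⟨hqp.ne_zero⟩
  have hζq : (ζ : K) ^ q = 1 := by
    rw [← Units.val_pow_eq_pow_val, ← hζ, pow_orderOf_eq_one, Units.val_one]
  obtain ⟨k, -, hk⟩ := hprim.eq_pow_of_pow_eq_one hζq
  refine ⟨k, e.symm.trans θ.toAddEquiv, ?_, ?_⟩
  · rw [Nat.coprime_comm, hqp.coprime_iff_not_dvd]
    rintro ⟨m, rfl⟩
    rw [pow_mul, hprim.pow_eq_one, one_pow] at hk
    have : ζ = 1 := Units.ext hk.symm
    rw [this, orderOf_one] at hζ
    exact hqp.one_lt.ne hζ
  · intro x
    obtain ⟨f, rfl⟩ := e.surjective x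
    have h1 : (c ^ k) (e f) = e (cF ^ k * f) := rfl
    rw [h1]
    simp only [AddEquiv.trans_apply, AddEquiv.symm_apply_apply]
    change θ (cF ^ k * f) = ζ * θ f
    rw [map_mul, map_pow, hk]

end fieldid

end Cfsg.Agent.H62.Sch
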