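import Cfsg.Agent.H62.SchC
import Cfsg.Agent.H62.SchD
import Cfsg.Agent.S0132

/-! A minimal non-`p`-nilpotent group carries a Schmidt system. -/

set_option autoImplicit false
set_option linter.unusedSectionVars false
set_option linter.style.haveILetI false

namespace Cfsg.Agent.H62.Sch

open Multiplicative

variable {X : Type*} [Group X] [Finite X] {p q r : ℕ} [Fact p.Prime] [Fact q.Prime]

/-- elements whose commutators with `y` commute with `y` -/
theorem comm_of_comm {P : Subgroup X} (hPp : IsPGroup p P) (hPn : P.Normal) {y : X} (hy : orderOf y = q ^ r) (hpq : p ≠ q)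
    (m : ℕ) {x : X} (hx : x ∈ P) (hc : (y ^ m) * (x⁻¹ * (y ^ m * x * (y ^ m)⁻¹)) = (x⁻¹ * (y ^ m * x * (y ^ m)⁻¹)) * y ^ m) :
    y ^ m * x = x * y ^ m := by
  set w := y ^ m with hw
  set c := x⁻¹ * (w * x * w⁻¹) with hcdef
  have hcP : c ∈ P := P.mul_mem (P.inv_mem hx) (hPn.conj_mem x hx w)
  have h1 : ∀ n : ℕ, w ^ n * x * (w ^ n)⁻¹ = x * c ^ n := by
    intro n
    induction n with
    | zero => simp
    | succ n ih =>
      have h2 : w ^ (n + 1) * x * (w ^ (n + 1))⁻¹ = w * (w ^ n * x * (w ^ n)⁻¹) * w⁻¹ := by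
        rw [pow_succ']; group
      rw [h2, ih]
      have h3 : Commute w (c ^ n) := (show Commute w c from hc).pow_right n
      have h4 : w * x * w⁻¹ = x * c := by rw [hcdef]; group
      calc w * (x * c ^ n) * w⁻¹ = (w * x * w⁻¹) * (w * c ^ n * w⁻¹) := by group
        _ = (x * c) * (w * c ^ n * w⁻¹) := by rw [h4]
        _ = (x * c) * c ^ n := by rw [h3.eq, mul_inv_cancel_right]
        _ = x * c ^ (n + 1) := by rw [pow_succ']; group
  have h2 : w ^ (q ^ r) = 1 := by
    rw [hw, ← pow_mul, mul_comm, pow_mul, ← hy, pow_orderOf_eq_one, one_pow]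
  have h3 := h1 (q ^ r)
  rw [h2] at h3
  have h4 : c ^ (q ^ r) = 1 := by
    have : x * 1 = x * c ^ (q ^ r) := by rw [← h3]; simp
    exact (mul_left_cancel this).symm
  obtain ⟨k, hk⟩ := hPp ⟨c, hcP⟩
  have hk' : c ^ (p ^ k) = 1 := by
    have := congrArg Subtype.val hk
    simpa using this
  have hcop : Nat.Coprime (p ^ k) (q ^ r) := Nat.Coprime.pow _ _ ((Nat.coprime_primes Fact.out Fact.out).mpr hpq)
  have h5 : c = 1 := orderOf_eq_one_iff.mp (Nat.eq_one_of_dvd_coprimes hcop
    (orderOf_dvd_of_pow_eq_one hk') (orderOf_dvd_of_pow_eq_one h4))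
  have h6 := h1 1
  rw [h5, pow_one, one_pow, mul_one] at h6
  exact mul_inv_eq_iff_eq_mul.mp h6

/-- `P` and `y`. -/
theorem exists_P_y (hpq : p ≠ q) (h1 : ¬ Cfsg.HasNormalPComplement p X)
    (h2 : ∀ H : Subgroup X, H ≠ ⊤ → Cfsg.HasNormalPComplement p H) (hX : ∃ t : ℕ, Nat.card X = p ^ t * q ^ r) :
    ∃ (P : Subgroup X) (y : X), P.Normal ∧ IsPGroup p P ∧ orderOf y = q ^ r ∧ P ⊔ Subgroup.zpowers y = ⊤ ∧
      ∃ x ∈ P, y * x ≠ x * y := by
  obtain ⟨hnil, hX1, hPn⟩ := Cfsg.Agent.S0132.result h1 h2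
  obtain ⟨t, ht⟩ := hX
  have hcop : Nat.Coprime (p ^ t) (q ^ r) := Nat.Coprime.pow _ _ ((Nat.coprime_primes Fact.out Fact.out).mpr hpq)
  let P : Sylow p X := default
  haveI := hPn P
  have hpp : p.Prime := Fact.out
  have hqp : q.Prime := Fact.out
  have hPc : Nat.card P = p ^ t := by
    rw [Sylow.card_eq_multiplicity, ht, Nat.factorization_mul (pow_ne_zero _ hpp.ne_zero) (pow_ne_zero _ hqp.ne_zero),
      hpp.factorization_pow, hqp.factorization_pow]
    simp [hpq.symm]
  let Q : Sylow q X := default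
  have hQc : Nat.card Q = q ^ r := by
    rw [Sylow.card_eq_multiplicity, ht, Nat.factorization_mul (pow_ne_zero _ hpp.ne_zero) (pow_ne_zero _ hqp.ne_zero),
      hpp.factorization_pow, hqp.factorization_pow]
    simp [hpq]
  have hPQ : (P : Subgroup X).IsComplement' (Q : Subgroup X) := by
    apply Subgroup.isComplement'_of_coprime
    · rw [hPc, hQc, ht]
    · rw [hPc, hQc]; exact hcop
  -- y ∈ Q not centralizing P
  obtain ⟨y, hyQ, x, hx, hyx⟩ : ∃ y ∈ (Q : Subgroup X), ∃ x ∈ (P : Subgroup X), y * x ≠ x * y := by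
    by_contra hcon
    push Not at hcon
    apply h1
    refine ⟨P, Q, ?_, hPQ.symm⟩
    rw [← Subgroup.normalizer_eq_top_iff, eq_top_iff, ← hPQ.sup_eq_top]
    refine sup_le ?_ Subgroup.le_normalizer
    intro x hx
    rw [Subgroup.mem_normalizer_iff]
    intro z
    constructor
    · intro hz
      have := hcon z hz x hx
      rw [← this, mul_inv_cancel_right]; exact hz
    · intro hz
      have := hcon _ hz x hx
      have h3 : z = x * z * x⁻¹ := by
        have h4 : x * z = x * (x * z * x⁻¹) := by rw [← this]; group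
        exact mul_left_cancel h4
      rw [h3]; exact hz
  have htop : (P : Subgroup X) ⊔ Subgroup.zpowers y = ⊤ := by
    by_contra hne
    haveI := hnil _ hne
    apply hyx
    obtain ⟨k, hk⟩ := (IsPGroup.iff_orderOf.mp P.isPGroup') ⟨x, hx⟩
    obtain ⟨l, hl⟩ := (IsPGroup.iff_orderOf.mp Q.isPGroup') ⟨y, hyQ⟩
    rw [Subgroup.orderOf_mk] at hk hl
    have hxm : x ∈ (P : Subgroup X) ⊔ Subgroup.zpowers y := Subgroup.mem_sup_left hx
    have hym : y ∈ (P : Subgroup X) ⊔ Subgroup.zpowers y := Subgroup.mem_sup_right (Subgroup.mem_zpowers y)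
    have hc : Nat.Coprime (orderOf (⟨y, hym⟩ : ((P : Subgroup X) ⊔ Subgroup.zpowers y : Subgroup X)))
        (orderOf (⟨x, hxm⟩ : ((P : Subgroup X) ⊔ Subgroup.zpowers y : Subgroup X))) := by
      rw [Subgroup.orderOf_mk, Subgroup.orderOf_mk, hk, hl]
      exact Nat.Coprime.pow _ _ ((Nat.coprime_primes Fact.out Fact.out).mpr hpq.symm)
    have := Cfsg.Agent.S0132.commute_of_coprime hc
    exact congrArg Subtype.val this.eq
  refine ⟨P, y, inferInstance, P.isPGroup', ?_, htop, x, hx, hyx⟩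
  -- order of y
  have hQy : (Q : Subgroup X) = Subgroup.zpowers y := by
    apply le_antisymm
    · intro g hg
      have hg' : g ∈ (P : Subgroup X) ⊔ Subgroup.zpowers y := by rw [htop]; trivial
      rw [← SetLike.mem_coe, Subgroup.normal_mul] at hg'
      obtain ⟨u, hu, v, hv, rfl⟩ := hg'
      have hvQ : v ∈ (Q : Subgroup X) := (Subgroup.zpowers_le.mpr hyQ) hv
      have huQ : u ∈ (Q : Subgroup X) := by
        have := (Q : Subgroup X).mul_mem hg ((Q : Subgroup X).inv_mem hvQ)
        simpa using this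
      have hu1 : u ∈ ((P : Subgroup X) ⊓ (Q : Subgroup X) : Subgroup X) := ⟨hu, huQ⟩
      rw [hPQ.disjoint.eq_bot, Subgroup.mem_bot] at hu1
      rw [hu1]; simpa using hv
    · exact Subgroup.zpowers_le.mpr hyQ
  rw [← Nat.card_zpowers, ← hQy, hQc]

theorem exists_sys {K : Type*} [Field K] [Finite K] {a : ℕ} (hpq : p ≠ q) (hr : 1 ≤ r) (h1 : ¬ Cfsg.HasNormalPComplement p X)
    (h2 : ∀ H : Subgroup X, H ≠ ⊤ → Cfsg.HasNormalPComplement p H) (hX : ∃ t : ℕ, Nat.card X = p ^ t * q ^ r)
    (hcard : Nat.card K = p ^ a) (ha : a = orderOf (p : ZMod q)) (ζ : Kˣ) (hζ : orderOf ζ = q) :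
    ∃ (P : Subgroup X) (y : X) (κ : P →* Multiplicative K), Sys p q r ζ X P y κ := by
  classical
  obtain ⟨hnil, -, -⟩ := Cfsg.Agent.S0132.result h1 h2
  obtain ⟨P, y, hPn, hPp, hy, htop, x₁, hx₁, hyx₁⟩ := exists_P_y hpq h1 h2 hX
  have hpp : p.Prime := Fact.out
  have hqp : q.Prime := Fact.out
  haveI := hPn
  -- proper invariant subgroups
  have hprop : ∀ R : Subgroup X, R ≤ P → ∀ m : ℕ, R ⊔ Subgroup.zpowers (y ^ m) ≠ ⊤ → ∀ x ∈ R, y ^ m * x = x * y ^ m := by
    intro R hR m hne x hx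
    haveI := hnil _ hne
    obtain ⟨k, hk⟩ := (IsPGroup.iff_orderOf.mp hPp) ⟨x, hR hx⟩
    rw [Subgroup.orderOf_mk] at hk
    have hl : ∃ l, orderOf (y ^ m) = q ^ l := by
      have h3 : orderOf (y ^ m) ∣ q ^ r := by rw [← hy]; exact orderOf_pow_dvd m
      obtain ⟨l, -, hl⟩ := (Nat.dvd_prime_pow hqp).mp h3
      exact ⟨l, hl⟩
    obtain ⟨l, hl⟩ := hl
    have hxm : x ∈ R ⊔ Subgroup.zpowers (y ^ m) := Subgroup.mem_sup_left hx
    have hym : y ^ m ∈ R ⊔ Subgroup.zpowers (y ^ m) := Subgroup.mem_sup_right (Subgroup.mem_zpowers _)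
    have hc : Nat.Coprime (orderOf (⟨y ^ m, hym⟩ : (R ⊔ Subgroup.zpowers (y ^ m) : Subgroup X)))
        (orderOf (⟨x, hxm⟩ : (R ⊔ Subgroup.zpowers (y ^ m) : Subgroup X))) := by
      rw [Subgroup.orderOf_mk, Subgroup.orderOf_mk, hk, hl]
      exact Nat.Coprime.pow _ _ ((Nat.coprime_primes Fact.out Fact.out).mpr hpq.symm)
    have := Cfsg.Agent.S0132.commute_of_coprime hc
    exact congrArg Subtype.val this.eq
  -- zpowers meet P trivially
  have hzP : ∀ i : ℤ, y ^ i ∈ P → y ^ i = 1 := by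
    intro i hi
    obtain ⟨k, hk⟩ := hPp ⟨y ^ i, hi⟩
    have hk' : (y ^ i) ^ (p ^ k) = 1 := by
      have := congrArg Subtype.val hk
      simpa using this
    have h1 : (y ^ i) ^ (q ^ r) = 1 := by
      rw [← hy, ← zpow_natCast, ← zpow_mul, mul_comm, zpow_mul, zpow_natCast, pow_orderOf_eq_one, one_zpow]
    have h2 := orderOf_dvd_of_pow_eq_one hk'
    have h3 := orderOf_dvd_of_pow_eq_one h1
    have hcop : Nat.Coprime (p ^ k) (q ^ r) := Nat.Coprime.pow _ _ ((Nat.coprime_primes Fact.out Fact.out).mpr hpq)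
    exact orderOf_eq_one_iff.mp (Nat.eq_one_of_dvd_coprimes hcop h2 h3)
  -- invariant subgroups: normalizer
  have hinvN : ∀ R : Subgroup X, (∀ x ∈ R, y * x * y⁻¹ ∈ R) → Subgroup.zpowers y ≤ Subgroup.normalizer (R : Set X) := by
    intro R hR
    rw [Subgroup.zpowers_le]
    have h3 : R.map (MulAut.conj y).toMonoidHom = R := by
      have hle : R.map (MulAut.conj y).toMonoidHom ≤ R := by
        rintro _ ⟨x, hx, rfl⟩
        exact hR x hx
      apply Subgroup.eq_of_le_of_card_ge hle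
      rw [Nat.card_congr (R.equivMapOfInjective (MulAut.conj y).toMonoidHom (MulAut.conj y).injective).toEquiv]
    rw [Subgroup.mem_normalizer_iff]
    intro x
    constructor
    · exact hR x
    · intro hx
      have hx' : y * x * y⁻¹ ∈ R.map (MulAut.conj y).toMonoidHom := by rw [h3]; exact hx
      obtain ⟨z, hz, hzx⟩ := hx'
      have : z = x := (MulAut.conj y).injective hzx
      rw [← this]; exact hz
  have hRtop : ∀ R : Subgroup X, R ≤ P → R ≠ P → (∀ x ∈ R, y * x * y⁻¹ ∈ R) → ∀ x ∈ R, y * x = x * y := by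
    intro R hR hRP hRy x hx
    have := hprop R hR 1 (by
      rw [pow_one]
      intro hcon
      apply hRP
      apply le_antisymm hR
      intro u hu
      have hu' : u ∈ R ⊔ Subgroup.zpowers y := by rw [hcon]; trivial
      rw [← SetLike.mem_coe, Subgroup.coe_mul_of_right_le_normalizer_left R (Subgroup.zpowers y) (hinvN R hRy)] at hu'
      obtain ⟨s, hs, v, ⟨i, hi⟩, rfl⟩ := hu'
      have hv : v ∈ P := by
        have := P.mul_mem (P.inv_mem (hR hs)) hu
        simpa using this
      simp only at hi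
      rw [← hi] at hv ⊢
      rw [hzP i hv]
      simpa using hs) x hx
    rwa [pow_one] at this
  -- y^q centralizes P
  have hyq : ∀ x ∈ P, y ^ q * x = x * y ^ q := by
    intro x hx
    apply hprop P le_rfl q _ x hx
    intro hcon
    have hy' : y ∈ P ⊔ Subgroup.zpowers (y ^ q) := by rw [hcon]; trivial
    rw [← SetLike.mem_coe, Subgroup.normal_mul] at hy'
    obtain ⟨u, hu, v, ⟨i, hi⟩, huv⟩ := hy'
    simp only at hi huv
    have h3 : y ^ (1 - (q : ℤ) * i) = u := by
      rw [zpow_sub, zpow_one, zpow_mul, zpow_natCast, hi, ← huv]; group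
    have h4 := hzP _ (by rw [h3]; exact hu)
    rw [← orderOf_dvd_iff_zpow_eq_one, hy] at h4
    have h5 : (q : ℤ) ∣ 1 - (q : ℤ) * i := by
      refine dvd_trans ?_ h4
      exact_mod_cast dvd_pow_self q (by omega)
    have h6 : (q : ℤ) ∣ 1 := by
      have := dvd_add h5 (dvd_mul_right (q : ℤ) i)
      simpa using this
    have h7 : q ∣ 1 := by exact_mod_cast h6
    exact hqp.one_lt.ne' (Nat.dvd_one.mp h7)
  -- [P, y] = P
  let D : Subgroup X := Subgroup.closure {c | ∃ x ∈ P, c = x⁻¹ * (y * x * y⁻¹)}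
  have hDP : D = P := by
    by_contra hne
    have hDle : D ≤ P := by
      rw [Subgroup.closure_le]
      rintro _ ⟨x, hx, rfl⟩
      exact P.mul_mem (P.inv_mem hx) (hPn.conj_mem x hx y)
    have hDy : ∀ x ∈ D, y * x * y⁻¹ ∈ D := by
      have : D ≤ D.comap (MulAut.conj y).toMonoidHom := by
        rw [Subgroup.closure_le]
        rintro _ ⟨x, hx, rfl⟩
        apply Subgroup.subset_closure
        refine ⟨y * x * y⁻¹, hPn.conj_mem x hx y, ?_⟩
        simp only [MulEquiv.toMonoidHom_eq_coe, MonoidHom.coe_coe, MulAut.conj_apply]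
        group
      exact this
    have h3 := hRtop D hDle hne hDy
    apply hyx₁
    have h4 := comm_of_comm (q := q) (r := r) hPp hPn hy hpq 1 hx₁ (by
      rw [pow_one]
      exact h3 _ (Subgroup.subset_closure ⟨x₁, hx₁, rfl⟩))
    rwa [pow_one] at h4
  -- normal subgroups of X properly in P are central
  have hcentral : ∀ N : Subgroup X, N.Normal → N ≤ P → N ≠ P → N ≤ Subgroup.center X := by
    intro N hN hNP hne n hn
    have hyN := hRtop N hNP hne (fun x hx => hN.conj_mem x hx y)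
    have hDc : D ≤ Subgroup.centralizer {n} := by
      rw [Subgroup.closure_le]
      rintro _ ⟨x, hx, rfl⟩
      rw [SetLike.mem_coe, Subgroup.mem_centralizer_singleton_iff]
      have h3 := hyN _ (hN.conj_mem n hn x)
      have h4 := hyN n hn
      have h5 : y⁻¹ * n = n * y⁻¹ := by
        rw [inv_mul_eq_iff_eq_mul, ← mul_assoc, h4, mul_inv_cancel_right]
      calc x⁻¹ * (y * x * y⁻¹) * n = x⁻¹ * (y * x * (y⁻¹ * n)) := by group
        _ = x⁻¹ * (y * (x * n * x⁻¹)) * x * y⁻¹ := by rw [h5]; group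
        _ = x⁻¹ * ((x * n * x⁻¹) * y) * x * y⁻¹ := by rw [h3]
        _ = n * (x⁻¹ * (y * x * y⁻¹)) := by group
    rw [Subgroup.mem_center_iff]
    intro g
    have hg : g ∈ P ⊔ Subgroup.zpowers y := by rw [htop]; trivial
    have hle : P ⊔ Subgroup.zpowers y ≤ Subgroup.centralizer {n} := by
      refine sup_le (hDP ▸ hDc) ?_
      rw [Subgroup.zpowers_le, Subgroup.mem_centralizer_singleton_iff]
      exact hyN n hn
    have := hle hg
    rw [Subgroup.mem_centralizer_singleton_iff] at this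
    exact this
  -- maximal N
  let S : Set (Subgroup X) := {N | N.Normal ∧ N ≤ P ∧ N ≠ P}
  have hPbot : P ≠ ⊥ := by
    rintro rfl
    rw [Subgroup.mem_bot] at hx₁
    apply hyx₁
    rw [hx₁]; simp
  have hSne : S.Nonempty := ⟨⊥, Subgroup.normal_bot, bot_le, hPbot.symm⟩
  obtain ⟨N, hNmax⟩ := (Set.toFinite S).exists_maximal hSne
  obtain ⟨hNn, hNP, hNne⟩ : N.Normal ∧ N ≤ P ∧ N ≠ P := hNmax.1
  haveI := hNn
  have hNc := hcentral N hNn hNP hNne
  have hnotcent : ¬ (∀ x ∈ P, y * x = x * y) := fun h => hyx₁ (h x₁ hx₁)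
  -- P' ≤ N
  have hPnil : Group.IsNilpotent P := hPp.isNilpotent
  have hP' : ⁅P, P⁆ ≤ N := by
    have hcn : (⁅P, P⁆).Normal := inferInstance
    have hcle : ⁅P, P⁆ ≤ P := Subgroup.commutator_le_left P P
    have hcne : ⁅P, P⁆ ≠ P := by
      intro h
      haveI : Nontrivial P := (Subgroup.nontrivial_iff_ne_bot P).mpr hPbot
      have hlt : commutator P < ⊤ := IsSolvable.commutator_lt_top_of_nontrivial P
      apply hlt.ne
      have h3 : (commutator P).map P.subtype = ⁅P, P⁆ := by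
        rw [commutator_def, Subgroup.map_commutator, ← MonoidHom.range_eq_map, Subgroup.range_subtype]
      rw [h] at h3
      rw [eq_top_iff]
      intro x _
      have : (x : X) ∈ (commutator P).map P.subtype := by rw [h3]; exact x.2
      obtain ⟨z, hz, hzx⟩ := this
      have : z = x := Subtype.ext hzx
      rw [← this]; exact hz
    have hcc := hcentral _ hcn hcle hcne
    by_contra hnle
    have hsup : N ⊔ ⁅P, P⁆ ∈ S ∨ N ⊔ ⁅P, P⁆ = P := by
      by_cases h : N ⊔ ⁅P, P⁆ = P
      · exact Or.inr h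
      · exact Or.inl ⟨inferInstance, sup_le hNP hcle, h⟩
    rcases hsup with h | h
    · exact hnle (le_sup_right.trans (hNmax.2 h le_sup_left))
    · apply hnotcent
      intro x hx
      have : x ∈ Subgroup.center X := (sup_le hNc hcc) (by rw [h]; exact hx)
      exact Subgroup.mem_center_iff.mp this y
  -- invariant subgroups between N and P
  have hbetween : ∀ R : Subgroup X, N ≤ R → R ≤ P → (∀ x ∈ R, y * x * y⁻¹ ∈ R) → R = N ∨ R = P := by
    intro R hNR hRP hRy
    by_cases h : R = P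
    · exact Or.inr h
    · left
      have hRn : R.Normal := by
        rw [← Subgroup.normalizer_eq_top_iff, eq_top_iff, ← htop]
        refine sup_le ?_ (hinvN R hRy)
        intro x hx
        have hxR : ∀ z ∈ R, x * z * x⁻¹ ∈ R := by
          intro z hz
          have h3 : x * z * x⁻¹ * z⁻¹ ∈ R := hNR (hP' (Subgroup.commutator_mem_commutator hx (hRP hz)))
          have := R.mul_mem h3 hz
          simpa using this
        have hxR' : ∀ z ∈ R, x⁻¹ * z * x ∈ R := by
          intro z hz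
          have h3 : x⁻¹ * z * x⁻¹⁻¹ * z⁻¹ ∈ R :=
            hNR (hP' (Subgroup.commutator_mem_commutator (P.inv_mem hx) (hRP hz)))
          have := R.mul_mem h3 hz
          simpa using this
        rw [Subgroup.mem_normalizer_iff]
        intro z
        refine ⟨hxR z, fun hz => ?_⟩
        have := hxR' _ hz
        have e : x⁻¹ * (x * z * x⁻¹) * x = z := by group
        rwa [e] at this
      exact le_antisymm (hNmax.2 (show R ∈ S from ⟨hRn, hRP, h⟩) hNR) hNR
  -- the quotient
  let N' : Subgroup P := N.subgroupOf P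
  haveI hN'n : N'.Normal := inferInstance
  have hcommQ : ∀ a b : P ⧸ N', a * b = b * a := by
    intro a b
    induction a using QuotientGroup.induction_on with | H a => ?_
    induction b using QuotientGroup.induction_on with | H b => ?_
    rw [← QuotientGroup.mk_mul, ← QuotientGroup.mk_mul, QuotientGroup.eq, Subgroup.mem_subgroupOf]
    have h3 : ((b : X)⁻¹ * (a : X)⁻¹ * (b : X)⁻¹⁻¹ * (a : X)⁻¹⁻¹) ∈ N :=
      hP' (Subgroup.commutator_mem_commutator (P.inv_mem b.2) (P.inv_mem a.2))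
    have e : (((a * b)⁻¹ * (b * a) : P) : X) = ((b : X)⁻¹ * (a : X)⁻¹ * (b : X)⁻¹⁻¹ * (a : X)⁻¹⁻¹) := by
      push_cast; group
    rw [e]; exact h3
  letI : CommGroup (P ⧸ N') := { (inferInstance : Group (P ⧸ N')) with mul_comm := hcommQ }
  have hyconj : ∀ x : P, y * x * y⁻¹ ∈ P := fun x => hPn.conj_mem x x.2 y
  let cy : P →* P :=
    { toFun := fun x => ⟨y * x * y⁻¹, hyconj x⟩
      map_one' := Subtype.ext (by simp)
      map_mul' := fun a b => Subtype.ext (by simp) }
  have hcyv : ∀ x : P, ((cy x : P) : X) = y * x * y⁻¹ := fun x => rfl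
  have hcyN : N' ≤ N'.comap cy := by
    intro x hx
    rw [Subgroup.mem_comap, Subgroup.mem_subgroupOf, hcyv]
    exact hNn.conj_mem _ hx y
  let cb : P ⧸ N' →* P ⧸ N' := QuotientGroup.map N' N' cy hcyN
  have hcb : ∀ x : P, cb (x : P ⧸ N') = ((cy x : P) : P ⧸ N') := fun x => rfl
  let c : AddMonoid.End (Additive (P ⧸ N')) := MonoidHom.toAdditive cb
  have hcadd : ∀ x : P ⧸ N', c (Additive.ofMul x) = Additive.ofMul (cb x) := fun x => rfl
  have hcpow : ∀ (n : ℕ) (x : P), (c ^ n) (Additive.ofMul (x : P ⧸ N')) =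
      Additive.ofMul (((⟨y ^ n * x * (y ^ n)⁻¹, hPn.conj_mem x x.2 (y ^ n)⟩ : P)) : P ⧸ N') := by
    intro n
    induction n with
    | zero =>
      intro x
      rw [pow_zero]
      change Additive.ofMul (x : P ⧸ N') = _
      congr 2
      apply Subtype.ext
      simp
    | succ n ih =>
      intro x
      rw [pow_succ]
      change (c ^ n) (c (Additive.ofMul (x : P ⧸ N'))) = _
      rw [hcadd, hcb, ih]
      congr 2
      apply Subtype.ext
      simp only [hcyv]
      rw [pow_succ]; group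
  haveI hntr : Nontrivial (Additive (P ⧸ N')) := by
    obtain ⟨x, hx, hxN⟩ := SetLike.exists_of_lt (lt_of_le_of_ne hNP hNne)
    refine ⟨⟨Additive.ofMul ((⟨x, hx⟩ : P) : P ⧸ N'), 0, fun h => hxN ?_⟩⟩
    have h3 : (((⟨x, hx⟩ : P) : P ⧸ N')) = 1 := h
    rw [QuotientGroup.eq_one_iff] at h3
    exact h3
  have hAcard : ∃ n, Nat.card (Additive (P ⧸ N')) = p ^ n := by
    have := IsPGroup.iff_card.mp (hPp.to_quotient N')
    exact this
  have hcq : c ^ q = 1 := by
    apply DFunLike.ext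
    intro x
    obtain ⟨x, rfl⟩ := QuotientGroup.mk_surjective x.toMul
    change (c ^ q) (Additive.ofMul (x : P ⧸ N')) = Additive.ofMul (x : P ⧸ N')
    rw [hcpow]
    congr 2
    apply Subtype.ext
    simp only
    rw [hyq x x.2, mul_inv_cancel_right]
  have hc1 : c ≠ 1 := by
    intro hc
    apply hnotcent
    intro x hx
    have h3 := DFunLike.congr_fun hc (Additive.ofMul ((⟨x, hx⟩ : P) : P ⧸ N'))
    rw [hcadd, hcb] at h3
    have h4 : ((cy ⟨x, hx⟩ : P) : P ⧸ N') = ((⟨x, hx⟩ : P) : P ⧸ N') := h3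
    have h5 := QuotientGroup.eq.mp h4.symm
    rw [Subgroup.mem_subgroupOf] at h5
    have h6 : x⁻¹ * (y * x * y⁻¹) ∈ N := h5
    have h7 := comm_of_comm (q := q) (r := r) hPp hPn hy hpq 1 hx (by
      rw [pow_one]
      exact Subgroup.mem_center_iff.mp (hNc h6) y)
    rwa [pow_one] at h7
  have hirr : ∀ U : AddSubgroup (Additive (P ⧸ N')), (∀ u ∈ U, c u ∈ U) → U = ⊥ ∨ U = ⊤ := by
    intro U hU
    let R' : Subgroup P :=
      { carrier := {x | Additive.ofMul (x : P ⧸ N') ∈ U}
        mul_mem' := fun {a b} ha hb => U.add_mem ha hb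
        one_mem' := U.zero_mem
        inv_mem' := fun {a} ha => U.neg_mem ha }
    have hR'N : ∀ x : P, (x : X) ∈ N → x ∈ R' := by
      intro x hx
      change Additive.ofMul (x : P ⧸ N') ∈ U
      have h3 : (x : P ⧸ N') = 1 := (QuotientGroup.eq_one_iff x).mpr hx
      rw [h3]; exact U.zero_mem
    have hle : R'.map P.subtype ≤ P := by
      rintro _ ⟨x, -, rfl⟩; exact x.2
    rcases hbetween (R'.map P.subtype) (fun n hn => ⟨⟨n, hNP hn⟩, hR'N _ hn, rfl⟩) hle (by
        rintro _ ⟨x, hx, rfl⟩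
        refine ⟨cy x, ?_, rfl⟩
        have := hU _ hx
        exact this) with h | h
    · left
      rw [AddSubgroup.eq_bot_iff_forall]
      intro x hx
      obtain ⟨x, rfl⟩ := QuotientGroup.mk_surjective x.toMul
      have hx' : (x : X) ∈ N := by rw [← h]; exact ⟨x, hx, rfl⟩
      exact (QuotientGroup.eq_one_iff x).mpr hx'
    · right
      rw [eq_top_iff]
      intro x _
      obtain ⟨x, rfl⟩ := QuotientGroup.mk_surjective x.toMul
      have : (x : X) ∈ R'.map P.subtype := by rw [h]; exact x.2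
      obtain ⟨z, hz, hzx⟩ := this
      have e : z = x := Subtype.ext hzx
      rw [e] at hz
      exact hz
  obtain ⟨k, κ₀, hkq, hκ₀⟩ := exists_field_equiv (K := K) (p := p) (q := q) (a := a) hAcard c hcq hc1 hirr hcard ha ζ hζ
  let κ : P →* Multiplicative K :=
    { toFun := fun x => ofAdd (κ₀ (Additive.ofMul (x : P ⧸ N')))
      map_one' := by
        have : Additive.ofMul (((1 : P)) : P ⧸ N') = 0 := rfl
        rw [this, map_zero]; rfl
      map_mul' := fun a b => by
        have : Additive.ofMul ((a * b : P) : P ⧸ N') = Additive.ofMul (a : P ⧸ N') + Additive.ofMul (b : P ⧸ N') := rfl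
        rw [this, map_add]; rfl }
  have hκ : ∀ x : P, toAdd (κ x) = κ₀ (Additive.ofMul (x : P ⧸ N')) := fun x => rfl
  have hκker : ∀ x : P, κ x = 1 → (x : X) ∈ N := by
    intro x hx
    have h3 : κ₀ (Additive.ofMul (x : P ⧸ N')) = 0 := hx
    rw [AddEquiv.map_eq_zero_iff] at h3
    exact (QuotientGroup.eq_one_iff x).mp h3
  have hcopk : k.Coprime (orderOf y) := by
    rw [hy]; exact hkq.pow_right r
  have hzk : Subgroup.zpowers (y ^ k) = Subgroup.zpowers y := by
    apply le_antisymm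
    · rw [Subgroup.zpowers_le]; exact Subgroup.npow_mem_zpowers y k
    · rw [Subgroup.zpowers_le]
      have := exists_pow_eq_self_of_coprime hcopk
      obtain ⟨m, hm⟩ := this
      exact ⟨m, by simp only [zpow_natCast]; exact hm⟩
  refine ⟨P, y ^ k, κ, hPn, hPp, ?_, ?_, ?_, ?_, ?_, ?_⟩
  · rw [← Nat.card_zpowers, hzk, Nat.card_zpowers, hy]
  · rw [hzk, htop]
  · intro u
    obtain ⟨x, hx⟩ := κ₀.surjective (toAdd u)
    obtain ⟨x', hx'⟩ := QuotientGroup.mk_surjective x.toMul
    refine ⟨x', ?_⟩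
    apply toAdd.injective
    rw [hκ, ← hx]
    congr 1
  · intro x x' hxx'
    rw [hκ, hκ, ← hκ₀, hcpow]
    congr 3
    exact Subtype.ext hxx'
  · intro x hx
    exact hNc (hκker x hx)
  · intro R hRP hRy hRs
    by_contra hne
    -- R is y-invariant
    have hn : y ^ k ∈ Subgroup.normalizer (R : Set X) := by
      have h3 : R.map (MulAut.conj (y ^ k)).toMonoidHom = R := by
        have hle : R.map (MulAut.conj (y ^ k)).toMonoidHom ≤ R := by
          rintro _ ⟨x, hx, rfl⟩
          exact hRy x hx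
        apply Subgroup.eq_of_le_of_card_ge hle
        rw [Nat.card_congr (R.equivMapOfInjective (MulAut.conj (y ^ k)).toMonoidHom (MulAut.conj (y ^ k)).injective).toEquiv]
      rw [Subgroup.mem_normalizer_iff]
      intro x
      constructor
      · exact hRy x
      · intro hx
        have hx' : (y ^ k) * x * (y ^ k)⁻¹ ∈ R.map (MulAut.conj (y ^ k)).toMonoidHom := by rw [h3]; exact hx
        obtain ⟨z, hz, hzx⟩ := hx'
        have : z = x := (MulAut.conj (y ^ k)).injective hzx
        rw [← this]; exact hz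
    have hyn : y ∈ Subgroup.normalizer (R : Set X) := by
      have h3 : Subgroup.zpowers (y ^ k) ≤ Subgroup.normalizer (R : Set X) := by
        rw [Subgroup.zpowers_le]; exact hn
      rw [hzk] at h3
      exact h3 (Subgroup.mem_zpowers y)
    have hRc := hRtop R hRP hne (fun x hx => (Subgroup.mem_normalizer_iff.mp hyn x).mp hx)
    apply hnotcent
    intro x hx
    obtain ⟨x', hx'R, hx'κ⟩ := hRs (κ ⟨x, hx⟩)
    have h3 : κ (x'⁻¹ * ⟨x, hx⟩) = 1 := by rw [map_mul, map_inv, hx'κ, inv_mul_cancel]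
    have h4 := hNc (hκker _ h3)
    have h5 : x = (x' : X) * ((x'⁻¹ * ⟨x, hx⟩ : P) : X) := by push_cast; group
    have h6 := Subgroup.mem_center_iff.mp h4 y
    have h7 := hRc _ hx'R
    rw [h5, ← mul_assoc, h7, mul_assoc, h6, mul_assoc]

end Cfsg.Agent.H62.Sch
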