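import Cfsg.Agent.H62.SchA

/-! The Sylow subgroup of the maximal Schmidt group. -/

set_option autoImplicit false
set_option linter.unusedSectionVars false
set_option linter.style.haveILetI false

namespace Cfsg.Agent.H62.Sch

open Multiplicative

universe u

/-- Heisenberg type group attached to an involutory ring endomorphism. -/
@[ext] structure Hs {K : Type u} [Field K] (σ : K →+* K) : Type u where
  x : K
  z : K
  h : z + σ z = x * σ x

namespace Hs

variable {K : Type u} [Field K] {σ : K →+* K} (hσ : ∀ x, σ (σ x) = x)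

/-- group structure -/
@[reducible] def grp (hσ : ∀ x, σ (σ x) = x) : Group (Hs σ) :=
  { mul := fun a b => ⟨a.x + b.x, a.z + b.z + a.x * σ b.x, by
      have h1 := a.h
      have h2 := b.h
      simp only [map_add, map_mul, hσ]
      linear_combination h1 + h2⟩
    inv := fun a => ⟨-a.x, -a.z + a.x * σ a.x, by
      have h1 := a.h
      simp only [map_add, map_mul, map_neg, hσ]
      linear_combination -h1⟩
    one := ⟨0, 0, by simp⟩
    mul_assoc := by
      intro a b c
      apply Hs.ext
      · change a.x + b.x + c.x = a.x + (b.x + c.x)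
        ring
      · change a.z + b.z + a.x * σ b.x + c.z + (a.x + b.x) * σ c.x = a.z + (b.z + c.z + b.x * σ c.x) + a.x * σ (b.x + c.x)
        rw [map_add]; ring
    one_mul := by
      intro a
      apply Hs.ext
      · change 0 + a.x = a.x
        ring
      · change 0 + a.z + 0 * σ a.x = a.z
        ring
    mul_one := by
      intro a
      apply Hs.ext
      · change a.x + 0 = a.x
        ring
      · change a.z + 0 + a.x * σ 0 = a.z
        rw [map_zero]; ring
    inv_mul_cancel := by
      intro a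
      apply Hs.ext
      · change -a.x + a.x = 0
        ring
      · change -a.z + a.x * σ a.x + a.z + -a.x * σ a.x = 0
        ring }

end Hs

/-- interface -/
structure PData (p q : ℕ) {K : Type u} [Field K] (ζ : Kˣ) (n : ℕ) (P : Type u) [Group P] (α : MulAut P)
    (κ : P →* Multiplicative K) : Prop where
  surj : Function.Surjective κ
  act : ∀ x, toAdd (κ (α x)) = ζ * toAdd (κ x)
  cent : ∀ x, κ x = 1 → x ∈ Subgroup.center P
  fix : ∀ x, κ x = 1 → α x = x
  frat : ∀ R : Subgroup P, (∀ x ∈ R, α x ∈ R) → (∀ c, ∃ x ∈ R, κ x = c) → R = ⊤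
  card : Nat.card P = p ^ n
  pow : α ^ q = 1

variable {K : Type u} [Field K] [Finite K] {p q a : ℕ} [Fact p.Prime] [Fact q.Prime]

theorem exists_odd (hcard : Nat.card K = p ^ a) {ζ : Kˣ} (hζ : orderOf ζ = q) :
    ∃ (P : Type u) (_ : Group P) (_ : Finite P) (α : MulAut P) (κ : P →* Multiplicative K), PData p q ζ a P α κ := by
  let α : MulAut (Multiplicative K) :=
    { toFun := fun x => ofAdd ((ζ : K) * toAdd x)
      invFun := fun x => ofAdd (((ζ⁻¹ : Kˣ) : K) * toAdd x)
      left_inv := fun x => by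
        apply toAdd.injective
        rw [toAdd_ofAdd, toAdd_ofAdd, ← mul_assoc, ← Units.val_mul, inv_mul_cancel, Units.val_one, one_mul]
      right_inv := fun x => by
        apply toAdd.injective
        rw [toAdd_ofAdd, toAdd_ofAdd, ← mul_assoc, ← Units.val_mul, mul_inv_cancel, Units.val_one, one_mul]
      map_mul' := fun x y => by
        apply toAdd.injective
        rw [toAdd_ofAdd, toAdd_mul, toAdd_mul, toAdd_ofAdd, toAdd_ofAdd, mul_add] }
  have hα : ∀ x, α x = ofAdd ((ζ : K) * toAdd x) := fun x => rfl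
  have hαn : ∀ (n : ℕ) x, (α ^ n) x = ofAdd ((ζ : K) ^ n * toAdd x) := by
    intro n
    induction n with
    | zero => intro x; rw [pow_zero, pow_zero, one_mul]; rfl
    | succ n ih =>
      intro x
      rw [pow_succ, MulAut.mul_apply, ih, hα, toAdd_ofAdd, pow_succ, mul_assoc]
  refine ⟨Multiplicative K, inferInstance, inferInstance, α, MonoidHom.id _, fun x => ⟨x, rfl⟩, ?_, ?_, ?_, ?_, ?_, ?_⟩
  · intro x; rfl
  · intro x hx
    rw [show x = 1 from hx]; exact Subgroup.one_mem _
  · intro x hx
    rw [show x = 1 from hx, map_one]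
  · intro R _ hR
    rw [eq_top_iff]
    intro x _
    obtain ⟨y, hy, hyx⟩ := hR x
    rw [← show y = x from hyx]; exact hy
  · rw [← hcard]; rfl
  · apply MulEquiv.ext
    intro x
    rw [hαn]
    have : (ζ : K) ^ q = 1 := by rw [← Units.val_pow_eq_pow_val, ← hζ, pow_orderOf_eq_one, Units.val_one]
    rw [this, one_mul]; rfl

theorem exists_even (hcard : Nat.card K = p ^ a) {ζ : Kˣ} (hζ : orderOf ζ = q)
    (σ : K →+* K) (hσ : ∀ x, σ (σ x) = x) (hζσ : (ζ : K) * σ ζ = 1) (hne : σ (ζ : K) ≠ ζ) (ha2 : a % 2 = 0) :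
    ∃ (P : Type u) (_ : Group P) (_ : Finite P) (α : MulAut P) (κ : P →* Multiplicative K),
      PData p q ζ (3 * a / 2) P α κ := by
  letI : Group (Hs σ) := Hs.grp hσ
  have hfin : Finite (Hs σ) := Finite.of_injective (fun a : Hs σ => (a.x, a.z)) (by
    intro a b h
    exact Hs.ext (congrArg Prod.fst h) (congrArg Prod.snd h))
  have hmx : ∀ a b : Hs σ, (a * b).x = a.x + b.x := fun a b => rfl
  have hmz : ∀ a b : Hs σ, (a * b).z = a.z + b.z + a.x * σ b.x := fun a b => rfl
  have hox : (1 : Hs σ).x = 0 := rfl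
  have hoz : (1 : Hs σ).z = 0 := rfl
  have hix : ∀ a : Hs σ, (a⁻¹).x = -a.x := fun a => rfl
  have hiz : ∀ a : Hs σ, (a⁻¹).z = -a.z + a.x * σ a.x := fun a => rfl
  have hζσ' : ((ζ⁻¹ : Kˣ) : K) * σ ((ζ⁻¹ : Kˣ) : K) = 1 := by
    have h1 : σ (ζ : K) = ((ζ⁻¹ : Kˣ) : K) := by
      rw [Units.val_inv_eq_inv_val]
      exact eq_inv_of_mul_eq_one_right hζσ
    rw [← h1, hσ, mul_comm]; exact hζσ
  let α : MulAut (Hs σ) :=
    { toFun := fun a => ⟨(ζ : K) * a.x, a.z, by
        rw [a.h, map_mul]
        linear_combination (-(a.x * σ a.x)) * hζσ⟩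
      invFun := fun a => ⟨((ζ⁻¹ : Kˣ) : K) * a.x, a.z, by
        rw [a.h, map_mul]
        linear_combination (-(a.x * σ a.x)) * hζσ'⟩
      left_inv := fun a => by
        apply Hs.ext
        · simp only
          rw [← mul_assoc, ← Units.val_mul, inv_mul_cancel, Units.val_one, one_mul]
        · rfl
      right_inv := fun a => by
        apply Hs.ext
        · simp only
          rw [← mul_assoc, ← Units.val_mul, mul_inv_cancel, Units.val_one, one_mul]
        · rfl
      map_mul' := fun a b => by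
        apply Hs.ext
        · simp only [hmx]; ring
        · simp only [hmz, map_mul]
          linear_combination (-(a.x * σ b.x)) * hζσ }
  have hαx : ∀ a, (α a).x = ζ * a.x := fun a => rfl
  have hαz : ∀ a, (α a).z = a.z := fun a => rfl
  have hαn : ∀ (n : ℕ) a, ((α ^ n) a).x = (ζ : K) ^ n * a.x ∧ ((α ^ n) a).z = a.z := by
    intro n
    induction n with
    | zero => intro a; rw [pow_zero, pow_zero, one_mul]; exact ⟨rfl, rfl⟩
    | succ n ih =>
      intro a
      rw [pow_succ, MulAut.mul_apply, (ih _).1, (ih _).2, hαx, hαz, pow_succ, mul_assoc]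
      exact ⟨rfl, rfl⟩
  let κ : Hs σ →* Multiplicative K :=
    { toFun := fun a => ofAdd a.x
      map_one' := rfl
      map_mul' := fun a b => rfl }
  have hκ : ∀ a, κ a = ofAdd a.x := fun a => rfl
  have hκ1 : ∀ a, κ a = 1 ↔ a.x = 0 := fun a => Iff.rfl
  -- an element with nonzero trace
  obtain ⟨z₀, hz₀⟩ : ∃ z : K, z + σ z ≠ 0 := by
    by_contra hcon
    push Not at hcon
    have h1 := hcon 1
    have h2 := hcon (ζ : K)
    rw [map_one] at h1
    apply hne
    have h3 : (2 : K) = 0 := by rw [← h1]; norm_num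
    linear_combination h2 - (ζ : K) * h3
  set t₀ := z₀ + σ z₀ with ht₀
  have ht₀σ : σ t₀ = t₀ := by rw [ht₀, map_add, hσ, add_comm]
  -- surjectivity of trace onto fixed points
  have htr : ∀ c : K, σ c = c → ∃ z, z + σ z = c := by
    intro c hc
    refine ⟨c * z₀ * t₀⁻¹, ?_⟩
    rw [map_mul, map_mul, map_inv₀, hc, ht₀σ]
    have : c * z₀ * t₀⁻¹ + c * σ z₀ * t₀⁻¹ = c * (z₀ + σ z₀) * t₀⁻¹ := by ring
    rw [this, ← ht₀, mul_assoc, mul_inv_cancel₀ hz₀, mul_one]
  have hκs : Function.Surjective κ := by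
    intro c
    obtain ⟨z, hz⟩ := htr (toAdd c * σ (toAdd c)) (by rw [map_mul, hσ, mul_comm])
    exact ⟨⟨toAdd c, z, hz⟩, rfl⟩
  -- additive Hilbert 90
  have h90 : ∀ w : K, w + σ w = 0 → ∃ x, x - σ x = w := by
    intro w hw
    have hσw : σ w = -w := by linear_combination hw
    refine ⟨w * z₀ * t₀⁻¹, ?_⟩
    rw [map_mul, map_mul, map_inv₀, hσw, ht₀σ]
    have : w * z₀ * t₀⁻¹ - -w * σ z₀ * t₀⁻¹ = w * (z₀ + σ z₀) * t₀⁻¹ := by ring
    rw [this, ← ht₀, mul_assoc, mul_inv_cancel₀ hz₀, mul_one]
  -- counting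
  let F : AddSubgroup K :=
    { carrier := {c | σ c = c}
      add_mem' := by
        intro x y hx hy
        change σ (x + y) = x + y
        rw [map_add, show σ x = x from hx, show σ y = y from hy]
      zero_mem' := map_zero σ
      neg_mem' := by
        intro x hx
        change σ (-x) = -x
        rw [map_neg, show σ x = x from hx] }
  let T : AddSubgroup K :=
    { carrier := {c | c + σ c = 0}
      add_mem' := by
        intro x y hx hy
        change x + y + σ (x + y) = 0
        have hx' : x + σ x = 0 := hx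
        have hy' : y + σ y = 0 := hy
        rw [map_add]
        linear_combination hx' + hy'
      zero_mem' := by change (0 : K) + σ 0 = 0; simp
      neg_mem' := by
        intro x hx
        change -x + σ (-x) = 0
        have hx' : x + σ x = 0 := hx
        rw [map_neg]
        linear_combination -hx' }
  let f : K →+ K := AddMonoidHom.id K - σ.toAddMonoidHom
  have hf : ∀ x, f x = x - σ x := fun x => rfl
  have hfker : f.ker = F := by
    ext x
    rw [AddMonoidHom.mem_ker, hf, sub_eq_zero]
    exact ⟨fun h => h.symm, fun h => (show σ x = x from h).symm⟩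
  have hfrange : f.range = T := by
    ext w
    constructor
    · rintro ⟨x, rfl⟩
      change f x + σ (f x) = 0
      rw [hf, map_sub, hσ]; ring
    · intro hw
      obtain ⟨x, hx⟩ := h90 w hw
      exact ⟨x, hx⟩
  have hFT : Nat.card F * Nat.card T = Nat.card K := by
    rw [← hfker, ← hfrange]
    have h1 := f.ker.card_mul_index
    rw [AddSubgroup.index_ker] at h1
    exact h1
  -- T = w₁ F
  have hTF : Nat.card T = Nat.card F := by
    set w₁ : K := (ζ : K) - σ ζ with hw₁
    have hw₁0 : w₁ ≠ 0 := fun h => hne (sub_eq_zero.mp h).symm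
    have hw₁T : w₁ + σ w₁ = 0 := by rw [hw₁, map_sub, hσ]; ring
    have hσw₁ : σ w₁ = -w₁ := by linear_combination hw₁T
    refine Nat.card_congr
      { toFun := fun t => ⟨t * w₁⁻¹, ?_⟩
        invFun := fun c => ⟨c * w₁, ?_⟩
        left_inv := fun t => Subtype.ext ?_
        right_inv := fun c => Subtype.ext ?_ }
    · change σ ((t : K) * w₁⁻¹) = t * w₁⁻¹
      have h0 : (t : K) + σ t = 0 := t.2
      have h1 : σ (t : K) = -t := by linear_combination h0
      rw [map_mul, map_inv₀, hσw₁, h1, inv_neg]; ring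
    · change (c : K) * w₁ + σ ((c : K) * w₁) = 0
      rw [map_mul, show σ (c : K) = c from c.2, hσw₁]; ring
    · simp only
      rw [mul_assoc, inv_mul_cancel₀ hw₁0, mul_one]
    · simp only
      rw [mul_assoc, mul_inv_cancel₀ hw₁0, mul_one]
  have hTcard : Nat.card T = p ^ (a / 2) := by
    rw [← hTF] at hFT
    rw [hcard] at hFT
    have h1 : p ^ a = p ^ (a / 2) * p ^ (a / 2) := by rw [← pow_add]; congr 1; omega
    rw [h1] at hFT
    exact Nat.mul_self_inj.mp hFT
  have hkerT : Nat.card κ.ker = Nat.card T := by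
    refine Nat.card_congr
      { toFun := fun g => ⟨(g : Hs σ).z, ?_⟩
        invFun := fun w => ⟨⟨0, w, ?_⟩, ?_⟩
        left_inv := fun g => Subtype.ext (Hs.ext ?_ rfl)
        right_inv := fun w => rfl }
    · have h1 : (g : Hs σ).x = 0 := g.2
      have h2 := (g : Hs σ).h
      rw [h1, zero_mul] at h2
      exact h2
    · rw [zero_mul]; exact w.2
    · rfl
    · exact (show (g : Hs σ).x = 0 from g.2).symm
  have hcardP : Nat.card (Hs σ) = p ^ (3 * a / 2) := by
    have h1 := κ.ker.card_mul_index
    rw [Subgroup.index_ker, MonoidHom.range_eq_top.mpr hκs, Subgroup.card_top] at h1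
    have h2 : Nat.card (Multiplicative K) = p ^ a := by rw [← hcard]; rfl
    rw [← h1, hkerT, hTcard, h2, ← pow_add]
    congr 1; omega
  have hcent : ∀ g, κ g = 1 → g ∈ Subgroup.center (Hs σ) := by
    intro g hg
    rw [hκ1] at hg
    rw [Subgroup.mem_center_iff]
    intro b
    apply Hs.ext
    · rw [hmx, hmx, add_comm]
    · rw [hmz, hmz, hg, map_zero]; ring
  refine ⟨Hs σ, inferInstance, hfin, α, κ, hκs, ?_, hcent, ?_, ?_, hcardP, ?_⟩
  · intro x; rfl
  · intro g hg
    rw [hκ1] at hg
    apply Hs.ext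
    · rw [hαx, hg, mul_zero]
    · rfl
  · intro R hRα hR
    have hT : ∀ g, κ g = 1 → g ∈ R := by
      intro g hg
      rw [hκ1] at hg
      have h1 := g.h
      rw [hg, zero_mul] at h1
      obtain ⟨x, hx⟩ := h90 _ h1
      obtain ⟨u, hu, hux⟩ := hR (ofAdd x)
      obtain ⟨v, hv, hvx⟩ := hR (ofAdd 1)
      have hux' : u.x = x := hux
      have hvx' : v.x = 1 := hvx
      have h2 : g * (v * u) = u * v := by
        apply Hs.ext
        · rw [hmx, hmx, hmx, hg]; ring
        · rw [hmz, hmz, hmz, hmx, hg, hux', hvx', map_one]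
          linear_combination -hx
      have h3 : g = u * v * (v * u)⁻¹ := by rw [← h2]; group
      rw [h3]
      exact R.mul_mem (R.mul_mem hu hv) (R.inv_mem (R.mul_mem hv hu))
    rw [eq_top_iff]
    intro g _
    obtain ⟨u, hu, hug⟩ := hR (κ g)
    have h1 : κ (u⁻¹ * g) = 1 := by rw [map_mul, map_inv, hug, inv_mul_cancel]
    have h2 := R.mul_mem hu (hT _ h1)
    rwa [mul_inv_cancel_left] at h2
  · apply MulEquiv.ext
    intro g
    apply Hs.ext
    · rw [(hαn q g).1]
      have : (ζ : K) ^ q = 1 := by rw [← Units.val_pow_eq_pow_val, ← hζ, pow_orderOf_eq_one, Units.val_one]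
      rw [this, one_mul]; rfl
    · rw [(hαn q g).2]; rfl

theorem exists_pdata (hcard : Nat.card K = p ^ a) (ha : a = orderOf (p : ZMod q)) {ζ : Kˣ} (hζ : orderOf ζ = q) {a₀ : ℕ}
    (ha₀ : a₀ = if a % 2 = 1 then a else 3 * a / 2) :
    ∃ (P : Type u) (_ : Group P) (_ : Finite P) (α : MulAut P) (κ : P →* Multiplicative K), PData p q ζ a₀ P α κ := by
  classical
  have hpp : p.Prime := Fact.out
  have hqp : q.Prime := Fact.out
  have : Fintype K := Fintype.ofFinite K
  by_cases h : a % 2 = 1
  · rw [if_pos h] at ha₀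
    rw [ha₀]; exact exists_odd hcard hζ
  · rw [if_neg h] at ha₀
    rw [ha₀]
    have hchar : CharP K p := by
      obtain ⟨r, hr⟩ := CharP.exists K
      have hrp : r.Prime := CharP.char_is_prime K r
      have hF : Fact r.Prime := ⟨hrp⟩
      obtain ⟨m, -, hm⟩ := FiniteField.card K r
      have : r ∣ p ^ a := by
        rw [← hcard, Nat.card_eq_fintype_card, hm]
        exact dvd_pow_self r m.2.ne'
      have : r = p := (Nat.prime_dvd_prime_iff_eq hrp hpp).mp (hrp.dvd_of_dvd_pow this)
      rw [← this]; exact hr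
    haveI : ExpChar K p := ExpChar.prime hpp
    have hK1 : 1 < Nat.card K := by
      rw [Nat.card_eq_fintype_card]; exact Fintype.one_lt_card
    have ha0 : 0 < a := by
      rcases Nat.eq_zero_or_pos a with rfl | h0
      · rw [hcard] at hK1; simp at hK1
      · exact h0
    set m := a / 2 with hm
    have ham : a = m + m := by omega
    have hm0 : 0 < m := by omega
    -- q ∣ p^m + 1
    have hq1 : ((p : ZMod q)) ^ m = -1 := by
      have h1 : (((p : ZMod q)) ^ m) ^ 2 = 1 := by
        rw [← pow_mul, mul_two, ← ham, ha, pow_orderOf_eq_one]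
      rcases sq_eq_one_iff.mp h1 with h2 | h2
      · exfalso
        have := orderOf_dvd_of_pow_eq_one h2
        rw [← ha] at this
        have := Nat.le_of_dvd hm0 this
        omega
      · exact h2
    have hqd : q ∣ p ^ m + 1 := by
      rw [← ZMod.natCast_eq_zero_iff]
      push_cast
      rw [hq1]; ring
    let σ : K →+* K := iterateFrobenius K p m
    have hσ1 : ∀ x, σ x = x ^ (p ^ m) := fun x => rfl
    have hσ : ∀ x, σ (σ x) = x := by
      intro x
      rw [hσ1, hσ1, ← pow_mul, ← pow_add, ← ham, ← hcard, Nat.card_eq_fintype_card]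
      exact FiniteField.pow_card x
    have hζq : (ζ : K) ^ q = 1 := by rw [← Units.val_pow_eq_pow_val, ← hζ, pow_orderOf_eq_one, Units.val_one]
    have hζσ : (ζ : K) * σ ζ = 1 := by
      rw [hσ1, ← pow_succ']
      obtain ⟨k, hk⟩ := hqd
      rw [hk, pow_mul, hζq, one_pow]
    apply exists_even hcard hζ σ hσ hζσ _ (by omega)
    intro hcon
    rw [hcon] at hζσ
    have h1 : ζ ^ 2 = 1 := by
      apply Units.ext
      rw [pow_two]; exact hζσ
    have h2 := orderOf_dvd_of_pow_eq_one h1
    rw [hζ] at h2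
    have h3 : q = 2 := (Nat.prime_dvd_prime_iff_eq hqp Nat.prime_two).mp h2
    subst h3
    have h4 : (p : ZMod 2) = 1 := by
      rw [ZMod.natCast_eq_one_iff_odd]
      by_contra hodd
      rw [Nat.not_odd_iff_even] at hodd
      have h5 : Even (p ^ m) := hodd.pow_of_ne_zero hm0.ne'
      have h6 : Even (p ^ m + 1) := even_iff_two_dvd.mpr hqd
      rw [Nat.even_add_one] at h6
      exact h6 h5
    rw [h4, orderOf_one] at ha
    omega

end Cfsg.Agent.H62.Sch
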