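import Cfsg.Agent.H62.SchC
import Cfsg.Agent.H62.SchF
import Cfsg.Agent.S0132

/-! The maximal Schmidt group. -/

set_option autoImplicit false
set_option linter.unusedSectionVars false
set_option linter.style.haveILetI false

namespace Cfsg.Agent.H62.Sch

open Multiplicative

universe u

/-- A finite nilpotent group has a normal `p`-complement. -/
theorem npc_of_nilpotent {G : Type*} [Group G] [Finite G] (p : ℕ) [Fact p.Prime] (h : Group.IsNilpotent G) :
    Cfsg.HasNormalPComplement p G := by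
  by_contra hcon
  -- Frobenius criterion
  let P : Sylow p G := default
  have h1 : ¬ ∀ Q : Subgroup G, Q ≤ (P : Subgroup G) → ∀ g ∈ Subgroup.normalizer (Q : Set G), Nat.Coprime (orderOf g) p →
      g ∈ Subgroup.centralizer (Q : Set G) := by
    rw [← Cfsg.Agent.S0071.result P]
    rintro ⟨N, hN, hc⟩
    exact hcon ⟨P, N, hN, hc⟩
  apply h1
  intro Q hQ g _ hg
  rw [Subgroup.mem_centralizer_iff]
  intro x hx
  obtain ⟨k, hk⟩ := (IsPGroup.iff_orderOf.mp P.isPGroup') ⟨x, hQ hx⟩
  rw [Subgroup.orderOf_mk] at hk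
  apply (Cfsg.Agent.S0132.commute_of_coprime _).eq
  rw [hk]
  exact (hg.pow_right k).symm

variable {K : Type*} [Field K] [Finite K] {p q a r : ℕ} [Fact p.Prime] [Fact q.Prime]

theorem Sys.minimal (hpq : p ≠ q) (hr : 1 ≤ r) (hcard : Nat.card K = p ^ a) (ha : a = orderOf (p : ZMod q)) {ζ : Kˣ}
    (hζ : orderOf ζ = q) {G : Type*} [Group G] [Finite G] {P : Subgroup G} {y : G} {κ : P →* Multiplicative K}
    (h : Sys p q r ζ G P y κ) :
    ¬ Cfsg.HasNormalPComplement p G ∧ ∀ L : Subgroup G, L ≠ ⊤ → Cfsg.HasNormalPComplement p L := by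
  classical
  haveI := h.normal
  have hpp : p.Prime := Fact.out
  have hqp : q.Prime := Fact.out
  have hζ' : orderOf (ζ : K) = q := by rw [orderOf_units]; exact hζ
  have hζ1 : (ζ : K) ≠ 1 := by
    intro h
    rw [h, orderOf_one] at hζ'
    exact hqp.one_lt.ne hζ'
  have hconj : ∀ (n : ℕ) (x : P), ∃ x' : P, (x' : G) = y ^ n * x * (y ^ n)⁻¹ ∧ toAdd (κ x') = (ζ : K) ^ n * toAdd (κ x) := by
    intro n
    induction n with
    | zero => intro x; exact ⟨x, by simp, by simp⟩
    | succ n ih =>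
      intro x
      obtain ⟨x', h1, h2⟩ := ih x
      refine ⟨⟨y * x' * y⁻¹, h.normal.conj_mem _ x'.2 y⟩, ?_, ?_⟩
      · simp only [h1]; rw [pow_succ']; group
      · rw [h.act x' _ rfl, h2, pow_succ']; ring
  have hζq : (ζ : K) ^ q = 1 := by rw [← hζ', pow_orderOf_eq_one]
  -- y ^ q centralizes P
  have hyq : ∀ x : P, y ^ q * x = x * y ^ q := by
    intro x
    obtain ⟨x', h1, h2⟩ := hconj q x
    rw [hζq, one_mul] at h2
    have h3 : κ (x⁻¹ * x') = 1 := by rw [map_mul, map_inv, toAdd.injective h2, inv_mul_cancel]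
    have h4 := h.cent _ h3
    set c : G := ((x⁻¹ * x' : P) : G) with hc
    have h5 : (y ^ q) * x * (y ^ q)⁻¹ = x * c := by rw [hc, ← h1]; push_cast; group
    have h6 : ∀ n : ℕ, (y ^ q) ^ n * x * ((y ^ q) ^ n)⁻¹ = x * c ^ n := by
      intro n
      induction n with
      | zero => simp
      | succ n ih =>
        have h7 : (y ^ q) ^ (n + 1) * x * ((y ^ q) ^ (n + 1))⁻¹ = (y ^ q) * ((y ^ q) ^ n * x * ((y ^ q) ^ n)⁻¹) * (y ^ q)⁻¹ := by
          rw [pow_succ']; group
        rw [h7, ih]
        have h8 : (y ^ q) * c ^ n = c ^ n * (y ^ q) := Subgroup.mem_center_iff.mp (Subgroup.pow_mem _ h4 n) _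
        calc (y ^ q) * (x * c ^ n) * (y ^ q)⁻¹ = ((y ^ q) * x * (y ^ q)⁻¹) * ((y ^ q) * c ^ n * (y ^ q)⁻¹) := by group
          _ = (x * c) * c ^ n := by rw [h5, h8, mul_inv_cancel_right]
          _ = x * c ^ (n + 1) := by rw [pow_succ']; group
    have h7 : (y ^ q) ^ (q ^ r) = 1 := by
      rw [← pow_mul, mul_comm, pow_mul, ← h.ord, pow_orderOf_eq_one, one_pow]
    have h8 := h6 (q ^ r)
    rw [h7] at h8
    have h9 : c ^ (q ^ r) = 1 := by
      have : (x : G) * 1 = x * c ^ (q ^ r) := by rw [← h8]; simp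
      exact (mul_left_cancel this).symm
    obtain ⟨k, hk⟩ := h.pgroup (x⁻¹ * x')
    have hk' : c ^ (p ^ k) = 1 := by
      have := congrArg Subtype.val hk
      simpa [hc] using this
    have hcop : Nat.Coprime (p ^ k) (q ^ r) := Nat.Coprime.pow _ _ ((Nat.coprime_primes Fact.out Fact.out).mpr hpq)
    have h10 : c = 1 := orderOf_eq_one_iff.mp (Nat.eq_one_of_dvd_coprimes hcop
      (orderOf_dvd_of_pow_eq_one hk') (orderOf_dvd_of_pow_eq_one h9))
    rw [h10, mul_one] at h5
    exact mul_inv_eq_iff_eq_mul.mp h5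
  have hyqc : y ^ q ∈ Subgroup.center G := by
    rw [Subgroup.mem_center_iff]
    intro g
    obtain ⟨x, i, rfl⟩ := h.exists_mul g
    have h1 : y ^ i * y ^ q = y ^ q * y ^ i := by
      rw [← zpow_natCast, ← zpow_add, ← zpow_add, add_comm]
    rw [mul_assoc, h1, ← mul_assoc, ← hyq x, mul_assoc]
  constructor
  · -- no normal p-complement
    rintro hN
    obtain ⟨N, hN, hNc, k, hk⟩ := Cfsg.Agent.S0132.npc_data hN
    haveI := hN
    have hyN : y ∈ N := by
      apply Cfsg.Agent.S0132.mem_of_coprime N hk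
      rw [h.ord]
      exact Nat.Coprime.pow_left _ ((Nat.coprime_primes hqp hpp).mpr hpq.symm)
    obtain ⟨x, hx⟩ := h.surj (ofAdd 1)
    obtain ⟨x', h1, h2⟩ := hconj 1 x
    rw [pow_one] at h1
    rw [pow_one, hx, toAdd_ofAdd, mul_one] at h2
    have h3 : ((x' * x⁻¹ : P) : G) ∈ N := by
      have h4 : ((x' * x⁻¹ : P) : G) = y * (x * y⁻¹ * (x : G)⁻¹) := by push_cast; rw [h1]; group
      rw [h4]
      exact N.mul_mem hyN (hN.conj_mem _ (N.inv_mem hyN) _)
    have h4 : ((x' * x⁻¹ : P) : G) = 1 := by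
      obtain ⟨k, hk⟩ := h.pgroup (x' * x⁻¹)
      have hk' : ((x' * x⁻¹ : P) : G) ^ (p ^ k) = 1 := by
        have := congrArg Subtype.val hk
        simpa using this
      exact orderOf_eq_one_iff.mp (Nat.eq_one_of_dvd_coprimes (hNc.pow_right k)
        (Subgroup.orderOf_dvd_natCard N h3) (orderOf_dvd_of_pow_eq_one hk'))
    have h5 : x' * x⁻¹ = 1 := Subtype.ext h4
    have h6 : x' = x := mul_inv_eq_one.mp h5
    rw [h6, hx, toAdd_ofAdd] at h2
    exact hζ1 h2.symm
  · intro L hL
    apply npc_of_nilpotent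
    by_cases hcase : ∃ g ∈ L, ∃ (x : P) (i : ℤ), g = x * y ^ i ∧ ¬ (q : ℤ) ∣ i
    · -- L is abelian
      obtain ⟨g, hgL, x, i, hg, hi⟩ := hcase
      -- a power of g of the form x' * y
      obtain ⟨j, hj⟩ : ∃ j : ℕ, y ^ (i * j) = y := by
        have h1 : IsCoprime i ((q ^ r : ℕ) : ℤ) := by
          push_cast
          apply IsCoprime.pow_right
          rw [isCoprime_comm]
          exact (Nat.prime_iff_prime_int.mp hqp).coprime_iff_not_dvd.mpr hi
        obtain ⟨u, v, huv⟩ := h1
        refine ⟨(u % (q ^ r : ℕ)).toNat, ?_⟩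
        have hpos : (0 : ℤ) < ((q ^ r : ℕ) : ℤ) := by exact_mod_cast pow_pos hqp.pos r
        rw [Int.toNat_of_nonneg (Int.emod_nonneg _ hpos.ne')]
        have h2 : (orderOf y : ℤ) ∣ i * (u % ((q ^ r : ℕ) : ℤ)) - 1 := by
          rw [h.ord]
          have h3 : i * (u % ((q ^ r : ℕ) : ℤ)) - 1 = ((q ^ r : ℕ) : ℤ) * (-(i * (u / ((q ^ r : ℕ) : ℤ))) - v) := by
            have h4 := Int.emod_add_mul_ediv u ((q ^ r : ℕ) : ℤ)
            linear_combination i * h4 + huv
          rw [h3]; exact dvd_mul_right _ _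
        have h3 := orderOf_dvd_iff_zpow_eq_one.mp h2
        rw [zpow_sub, zpow_one] at h3
        exact mul_inv_eq_one.mp h3
      have hpw : ∀ n : ℕ, ∃ x' : P, g ^ n = x' * y ^ (i * n) := by
        intro n
        induction n with
        | zero => exact ⟨1, by simp⟩
        | succ n ih =>
          obtain ⟨x', hx'⟩ := ih
          refine ⟨x' * ⟨y ^ (i * n) * x * (y ^ (i * n))⁻¹, h.normal.conj_mem _ x.2 _⟩, ?_⟩
          rw [pow_succ, hx', hg]
          have e : y ^ (i * ((n + 1 : ℕ) : ℤ)) = y ^ (i * n) * y ^ i := by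
            rw [← zpow_add]; congr 1; push_cast; ring
          rw [e]; push_cast; group
      obtain ⟨x', hx'⟩ := hpw j
      rw [hj] at hx'
      have hg'L : (x' : G) * y ∈ L := by rw [← hx']; exact L.pow_mem hgL j
      -- R = L ∩ P
      have hRinv : ∀ z ∈ L ⊓ P, (x' : G) * y * z * ((x' : G) * y)⁻¹ ∈ L ⊓ P := by
        rintro z ⟨hz, hz'⟩
        exact ⟨L.mul_mem (L.mul_mem hg'L hz) (L.inv_mem hg'L), h.normal.conj_mem _ hz' _⟩
      let U : AddSubgroup K :=
        { carrier := {c | ∃ z : P, (z : G) ∈ L ∧ κ z = ofAdd c}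
          add_mem' := by
            rintro c d ⟨u, hu, hu'⟩ ⟨v, hv, hv'⟩
            exact ⟨u * v, L.mul_mem hu hv, by rw [map_mul, hu', hv', ofAdd_add]⟩
          zero_mem' := ⟨1, L.one_mem, by rw [map_one, ofAdd_zero]⟩
          neg_mem' := by
            rintro c ⟨u, hu, hu'⟩
            exact ⟨u⁻¹, L.inv_mem hu, by rw [map_inv, hu', ofAdd_neg]⟩ }
      have hU : ∀ c ∈ U, (ζ : K) * c ∈ U := by
        rintro c ⟨z, hz, hzc⟩
        have h1 := hRinv z ⟨hz, z.2⟩
        let z₁ : P := ⟨y * z * y⁻¹, h.normal.conj_mem _ z.2 y⟩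
        have h2 : (((x' * z₁ * x'⁻¹ : P)) : G) = (x' : G) * y * z * ((x' : G) * y)⁻¹ := by
          change (x' : G) * (y * z * y⁻¹) * (x' : G)⁻¹ = _
          group
        refine ⟨x' * z₁ * x'⁻¹, by rw [h2]; exact h1.1, ?_⟩
        rw [map_mul, map_mul, map_inv, mul_comm (κ x'), mul_inv_cancel_right]
        apply toAdd.injective
        rw [h.act z z₁ rfl, hzc, toAdd_ofAdd, toAdd_ofAdd]
      rcases inv_trivial hcard ha hζ' U hU with h0 | h0
      · -- R central
        have hRc : ∀ z : P, (z : G) ∈ L → (z : G) ∈ Subgroup.center G := by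
          intro z hz
          apply h.cent
          have : toAdd (κ z) ∈ U := ⟨z, hz, rfl⟩
          rw [h0, AddSubgroup.mem_bot] at this
          exact this
        -- every element of L is central times power of x' y
        have hLe : ∀ l ∈ L, ∃ z ∈ Subgroup.center G, ∃ n : ℤ, l = z * ((x' : G) * y) ^ n := by
          intro l hl
          obtain ⟨u, n, hun⟩ := h.exists_mul l
          have h1 : ∀ n : ℤ, ∃ w : P, ((x' : G) * y) ^ n = w * y ^ n := by
            have hnn : ∀ n : ℕ, ∃ w : P, ((x' : G) * y) ^ n = w * y ^ n := by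
              intro n
              induction n with
              | zero => exact ⟨1, by simp⟩
              | succ n ih =>
                obtain ⟨w, hw⟩ := ih
                refine ⟨w * ⟨y ^ n * x' * (y ^ n)⁻¹, h.normal.conj_mem _ x'.2 _⟩, ?_⟩
                rw [pow_succ, hw, pow_succ]; push_cast; group
            intro n
            obtain ⟨n, rfl | rfl⟩ := n.eq_nat_or_neg
            · obtain ⟨w, hw⟩ := hnn n
              exact ⟨w, by rw [zpow_natCast, zpow_natCast, hw]⟩
            · obtain ⟨w, hw⟩ := hnn n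
              refine ⟨⟨(y ^ n)⁻¹ * (w : G)⁻¹ * (y ^ n)⁻¹⁻¹, h.normal.conj_mem _ (P.inv_mem w.2) _⟩, ?_⟩
              rw [zpow_neg, zpow_natCast, hw, zpow_neg, zpow_natCast]; group
          obtain ⟨w, hw⟩ := h1 n
          have h2 : l * (((x' : G) * y) ^ n)⁻¹ = ((u * w⁻¹ : P) : G) := by
            rw [hun, hw]; push_cast; group
          have h3 : ((u * w⁻¹ : P) : G) ∈ L := by
            rw [← h2]; exact L.mul_mem hl (L.inv_mem (L.zpow_mem hg'L n))
          refine ⟨_, hRc _ h3, n, ?_⟩
          rw [← h2]; group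
        have hcomm : ∀ u v : L, u * v = v * u := by
          rintro ⟨u, hu⟩ ⟨v, hv⟩
          obtain ⟨z, hz, n, rfl⟩ := hLe u hu
          obtain ⟨z', hz', n', rfl⟩ := hLe v hv
          apply Subtype.ext
          simp only [Subgroup.coe_mul]
          have h1 := Subgroup.mem_center_iff.mp hz
          have h2 := Subgroup.mem_center_iff.mp hz'
          calc z * ((x' : G) * y) ^ n * (z' * ((x' : G) * y) ^ n') = z * (((x' : G) * y) ^ n * z') * ((x' : G) * y) ^ n' := by group
            _ = z * (z' * ((x' : G) * y) ^ n) * ((x' : G) * y) ^ n' := by rw [h2]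
            _ = (z' * z) * (((x' : G) * y) ^ n * ((x' : G) * y) ^ n') := by rw [h1 z']; group
            _ = (z' * z) * (((x' : G) * y) ^ n' * ((x' : G) * y) ^ n) := by rw [← zpow_add, ← zpow_add, add_comm]
            _ = z' * (z * ((x' : G) * y) ^ n') * ((x' : G) * y) ^ n := by group
            _ = z' * (((x' : G) * y) ^ n' * z) * ((x' : G) * y) ^ n := by rw [← h1]
            _ = _ := by group
        letI : CommGroup L := { (inferInstance : Group L) with mul_comm := hcomm }
        exact CommGroup.isNilpotent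
      · exfalso
        -- R = P
        have hRs : ∀ c, ∃ z : P, (z : G) ∈ L ⊓ P ∧ κ z = c := by
          intro c
          have : toAdd c ∈ U := by rw [h0]; trivial
          obtain ⟨z, hz, hzc⟩ := this
          exact ⟨z, ⟨hz, z.2⟩, hzc⟩
        -- x' normalizes L ∩ P
        have hx'n : ∀ z ∈ L ⊓ P, (x' : G)⁻¹ * z * x' ∈ L ⊓ P := by
          obtain ⟨t, ht, htx⟩ := hRs (κ x')
          intro z hz
          have h1 : κ (t⁻¹ * x') = 1 := by rw [map_mul, map_inv, htx, inv_mul_cancel]
          have h2 := Subgroup.mem_center_iff.mp (h.cent _ h1)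
          have h3 : (x' : G) = t * ((t⁻¹ * x' : P) : G) := by push_cast; group
          have h4 : (x' : G)⁻¹ * z * x' = (t : G)⁻¹ * z * t := by
            set c : G := ((t⁻¹ * x' : P) : G) with hc
            rw [h3]
            have h5 := h2 (z * t)
            have h6 : c⁻¹ * ((t : G)⁻¹ * (z * t * c)) = (t : G)⁻¹ * (z * t) := by
              rw [h5, ← mul_assoc (t : G)⁻¹, h2, mul_assoc, inv_mul_cancel_left]
            calc ((t : G) * c)⁻¹ * z * (t * c) = c⁻¹ * ((t : G)⁻¹ * (z * t * c)) := by group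
              _ = (t : G)⁻¹ * (z * t) := h6
              _ = _ := by group
          rw [h4]
          exact (L ⊓ P).mul_mem ((L ⊓ P).mul_mem ((L ⊓ P).inv_mem ht) hz) ht
        have hRy : ∀ z ∈ L ⊓ P, y * z * y⁻¹ ∈ L ⊓ P := by
          intro z hz
          have h1 := hx'n _ (hRinv z hz)
          have h2 : (x' : G)⁻¹ * ((x' : G) * y * z * ((x' : G) * y)⁻¹) * x' = y * z * y⁻¹ := by group
          rwa [h2] at h1
        have hRP := h.frat (L ⊓ P) inf_le_right hRy hRs
        have hPL : P ≤ L := by rw [← hRP]; exact inf_le_left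
        apply hL
        rw [eq_top_iff, ← h.top]
        refine sup_le hPL ?_
        rw [Subgroup.zpowers_le]
        have := L.mul_mem (L.inv_mem (hPL x'.2)) hg'L
        rwa [inv_mul_cancel_left] at this
    · -- L ≤ P × ⟨y^q⟩
      push Not at hcase
      let C : Subgroup G := Subgroup.zpowers (y ^ q)
      have hCc : C ≤ Subgroup.center G := by rw [Subgroup.zpowers_le]; exact hyqc
      haveI hCn : C.Normal := ⟨fun c hc g => by
        have := Subgroup.mem_center_iff.mp (hCc hc) g
        rw [this]; simpa using hc⟩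
      let f : L →* G ⧸ C := (QuotientGroup.mk' C).comp L.subtype
      have hfm : ∀ l : L, f l ∈ P.map (QuotientGroup.mk' C) := by
        intro l
        obtain ⟨x, i, hxi⟩ := h.exists_mul l
        obtain ⟨j, hj⟩ := hcase l l.2 x i hxi
        refine ⟨x, x.2, ?_⟩
        change (((x : G) : G ⧸ C)) = ((l : G) : G ⧸ C)
        rw [QuotientGroup.eq, hxi, inv_mul_cancel_left, hj]
        exact ⟨j, by simp only [← zpow_natCast, ← zpow_mul]⟩
      let f' : L →* P.map (QuotientGroup.mk' C) := f.codRestrict _ hfm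
      haveI : Group.IsNilpotent (P.map (QuotientGroup.mk' C)) := (h.pgroup.map _).isNilpotent
      refine Subgroup.isNilpotent_of_ker_le_center f' ?_
      intro l hl
      have h1 : f l = 1 := congrArg Subtype.val hl
      have h2 : (l : G) ∈ C := (QuotientGroup.eq_one_iff (l : G)).mp h1
      have h3 := Subgroup.mem_center_iff.mp (hCc h2)
      rw [Subgroup.mem_center_iff]
      intro g
      exact Subtype.ext (h3 g)

end Cfsg.Agent.H62.Sch
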