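import Cfsg.Agent.H62.SchC
import Cfsg.Agent.H62.SchF

/-! The maximal Schmidt group, construction. -/

set_option autoImplicit false
set_option linter.unusedSectionVars false
set_option linter.style.haveILetI false

namespace Cfsg.Agent.H62.Sch

open Multiplicative

universe u

theorem exists_sys_of_pdata {K : Type u} [Field K] [Finite K] {p q r n : ℕ} [Fact p.Prime] [Fact q.Prime] (hr : 1 ≤ r) {ζ : Kˣ}
    {P₀ : Type u} [Group P₀] [Finite P₀] {α : MulAut P₀} {κ : P₀ →* Multiplicative K} (h : PData p q ζ n P₀ α κ) :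
    ∃ (G : Type u) (_ : Group G) (_ : Finite G) (P : Subgroup G) (y : G) (κ' : P →* Multiplicative K),
      Sys p q r ζ G P y κ' ∧ Nat.card P = p ^ n ∧ Nat.card G = p ^ n * q ^ r := by
  classical
  have hpp : p.Prime := Fact.out
  have hqp : q.Prime := Fact.out
  haveI : NeZero (q ^ r) := ⟨pow_ne_zero _ hqp.ne_zero⟩
  haveI : Finite (MulAut P₀) := Finite.of_injective (fun f : MulAut P₀ => (f : P₀ → P₀)) DFunLike.coe_injective
  let b₀ : MulAut P₀ × Multiplicative (ZMod (q ^ r)) := (α, ofAdd 1)
  let A : Subgroup (MulAut P₀ × Multiplicative (ZMod (q ^ r))) := Subgroup.zpowers b₀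
  let φ : A →* MulAut P₀ := (MonoidHom.fst _ _).comp A.subtype
  have hb₀ : orderOf b₀ = q ^ r := by
    have h1 : orderOf (ofAdd (1 : ZMod (q ^ r))) = q ^ r := by
      rw [orderOf_ofAdd_eq_addOrderOf]; exact ZMod.addOrderOf_one _
    rw [Prod.orderOf_mk, h1]
    apply Nat.lcm_eq_right
    exact (orderOf_dvd_of_pow_eq_one h.pow).trans (dvd_pow_self q (by omega))
  have hAc : Nat.card A = q ^ r := by rw [Nat.card_zpowers, hb₀]
  let G := P₀ ⋊[φ] A
  haveI : Finite G := Finite.of_injective (fun g : G => (g.left, g.right)) (by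
    intro a b hab
    exact SemidirectProduct.ext (congrArg Prod.fst hab) (congrArg Prod.snd hab))
  let y₀ : A := ⟨b₀, Subgroup.mem_zpowers b₀⟩
  let y : G := SemidirectProduct.inr y₀
  let P : Subgroup G := (SemidirectProduct.inl : P₀ →* G).range
  let e : P₀ ≃* P := MonoidHom.ofInjective SemidirectProduct.inl_injective
  have he : ∀ u : P₀, ((e u : P) : G) = SemidirectProduct.inl u := fun u => rfl
  let κ' : P →* Multiplicative K := κ.comp e.symm.toMonoidHom
  have hκ' : ∀ u : P₀, κ' (e u) = κ u := by
    intro u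
    change κ (e.symm (e u)) = κ u
    rw [e.symm_apply_apply]
  have hconj : ∀ u : P₀, y * SemidirectProduct.inl u * y⁻¹ = SemidirectProduct.inl (α u) := by
    intro u
    have := SemidirectProduct.inl_aut (φ := φ) y₀ u
    rw [show φ y₀ = α from rfl] at this
    rw [this, map_inv]
  have hPn : P.Normal := by
    have : P = (SemidirectProduct.rightHom : G →* A).ker := SemidirectProduct.range_inl_eq_ker_rightHom
    rw [this]; infer_instance
  have hPc : Nat.card P = p ^ n := by rw [← h.card]; exact (Nat.card_congr e.toEquiv).symm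
  refine ⟨G, inferInstance, inferInstance, P, y, κ', ⟨hPn, IsPGroup.of_card hPc, ?_, ?_, ?_, ?_, ?_, ?_⟩, hPc, ?_⟩
  · have h1 : orderOf y = orderOf y₀ := orderOf_injective (SemidirectProduct.inr : A →* G) SemidirectProduct.inr_injective y₀
    rw [h1, Subgroup.orderOf_mk, hb₀]
  · rw [eq_top_iff]
    intro g _
    rw [← SemidirectProduct.inl_left_mul_inr_right g]
    apply Subgroup.mul_mem_sup
    · exact ⟨g.left, rfl⟩
    · obtain ⟨i, hi⟩ := g.right.2
      refine ⟨i, ?_⟩
      change y ^ i = _
      have : g.right = y₀ ^ i := Subtype.ext (by rw [← hi]; rfl)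
      rw [this, map_zpow]
  · intro c
    obtain ⟨u, hu⟩ := h.surj c
    exact ⟨e u, by rw [hκ', hu]⟩
  · intro x x' hx
    obtain ⟨u, rfl⟩ := e.surjective x
    obtain ⟨u', rfl⟩ := e.surjective x'
    rw [he, he, hconj] at hx
    have : u' = α u := SemidirectProduct.inl_injective hx
    rw [hκ', hκ', this, h.act]
  · intro x hx
    obtain ⟨u, rfl⟩ := e.surjective x
    rw [hκ'] at hx
    have h1 := h.cent u hx
    have h2 := h.fix u hx
    have h3 : ∀ b : A, φ b u = u := by
      intro b
      obtain ⟨i, hi⟩ := b.2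
      have h4 : φ b = α ^ i := by
        change (b : MulAut P₀ × Multiplicative (ZMod (q ^ r))).1 = α ^ i
        rw [← hi]; rfl
      rw [h4]
      have h5 : α ∈ MulAction.stabilizer (MulAut P₀) u := h2
      exact (MulAction.stabilizer (MulAut P₀) u).zpow_mem h5 i
    rw [Subgroup.mem_center_iff]
    intro g
    rw [he]
    rw [← SemidirectProduct.inl_left_mul_inr_right g]
    have h4 := SemidirectProduct.inl_aut (φ := φ) g.right u
    rw [h3] at h4
    have h5 : (SemidirectProduct.inr g.right : G) * SemidirectProduct.inl u = SemidirectProduct.inl u * SemidirectProduct.inr g.right := by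
      conv_rhs => rw [h4]
      rw [map_inv, inv_mul_cancel_right]
    have h6 : g.left * u = u * g.left := Subgroup.mem_center_iff.mp h1 g.left
    rw [mul_assoc, h5, ← mul_assoc, ← mul_assoc, ← map_mul, ← map_mul, h6]
  · intro R hRP hRy hRs
    have h1 : R.comap (SemidirectProduct.inl : P₀ →* G) = ⊤ := by
      apply h.frat
      · intro u hu
        rw [Subgroup.mem_comap] at hu ⊢
        rw [← hconj]
        exact hRy _ hu
      · intro c
        obtain ⟨x, hx, hxc⟩ := hRs c
        obtain ⟨u, rfl⟩ := e.surjective x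
        exact ⟨u, hx, by rw [← hxc, hκ']⟩
    apply le_antisymm hRP
    rintro _ ⟨u, rfl⟩
    have : u ∈ R.comap (SemidirectProduct.inl : P₀ →* G) := by rw [h1]; trivial
    exact this
  · rw [SemidirectProduct.card, h.card, hAc]

end Cfsg.Agent.H62.Sch
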