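import Cfsg.Agent.H62.TVE
import Cfsg.Agent.H68.HupG

/-!
Primitive modules: the field (owner: helper62)
-/

set_option autoImplicit false
set_option linter.unusedSectionVars false
set_option linter.style.haveILetI false

namespace Cfsg.Agent.H62.TV

open scoped Pointwise
open MulAction
open Cfsg.Agent.H68.Hup

universe u v w

/-- primitivity -/
def Prim (G : Type v) (V : Type u) [Group G] [AddCommGroup V] [DistribMulAction G V] : Prop :=
  ∀ W : AddSubgroup V, W ≠ ⊥ →
    iSupIndep (fun w : {U : AddSubgroup V // ∃ g : G, U = g • W} => (w : AddSubgroup V)) → W = ⊤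

section

variable {G : Type v} {V : Type u} [Group G] [AddCommGroup V] [DistribMulAction G V]

/-- the annihilated subgroup -/
def Tz (I : Set (AddMonoid.End V)) : AddSubgroup V where
  carrier := {v | ∀ r ∈ I, r v = 0}
  zero_mem' := fun r _ => map_zero r
  add_mem' := fun {a b} ha hb r hr => by rw [map_add, ha r hr, hb r hr, add_zero]
  neg_mem' := fun {a} ha r hr => by rw [map_neg, ha r hr, neg_zero]

theorem smul_Tz [Finite V] (g : G) (I : Set (AddMonoid.End V)) : g • Tz I = Tz (cj V g '' I) := by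
  ext v
  rw [AddSubgroup.mem_smul_pointwise_iff_exists]
  constructor
  · rintro ⟨w, hw, rfl⟩ _ ⟨r, hr, rfl⟩
    change T V g (r (T V g⁻¹ (g • w))) = 0
    rw [T_apply g⁻¹, inv_smul_smul, hw r hr, map_zero]
  · intro hv
    refine ⟨g⁻¹ • v, fun r hr => ?_, smul_inv_smul g v⟩
    have h1 := hv _ ⟨r, hr, rfl⟩
    change g • (r (g⁻¹ • v)) = 0 at h1
    rwa [smul_eq_zero_iff_eq] at h1

theorem eq_zero_prim [Finite V] [Nontrivial V] (hprim : Prim G V) (R : Subring (AddMonoid.End V))
    (hR : ∀ (g : G), ∀ r ∈ R, cj V g r ∈ R) (hc : ∀ r ∈ R, ∀ s ∈ R, r * s = s * r)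
    {r : AddMonoid.End V} (hr : r ∈ R) {v : V} (hv : v ≠ 0) (hrv : r v = 0) : r = 0 := by
  classical
  have := finite_End (V := V)
  obtain ⟨I, ⟨hIR, hIne⟩, hmin⟩ := Set.Finite.exists_minimalFor
    (fun I : Set (AddMonoid.End V) => Nat.card (Tz I))
    {I | I ⊆ (R : Set (AddMonoid.End V)) ∧ Tz I ≠ ⊥} (Set.toFinite _)
    ⟨∅, Set.empty_subset _, by
      intro h
      obtain ⟨x, hx⟩ := exists_ne (0 : V)
      have h1 : x ∈ Tz (∅ : Set (AddMonoid.End V)) := fun r hr => absurd hr (Set.notMem_empty r)
      rw [h, AddSubgroup.mem_bot] at h1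
      exact hx h1⟩
  have hmin' : ∀ J : Set (AddMonoid.End V), J ⊆ (R : Set (AddMonoid.End V)) → Tz J ≠ ⊥ →
      Nat.card (Tz I) ≤ Nat.card (Tz J) := by
    intro J hJ hJ'
    by_contra h
    push Not at h
    exact absurd (hmin (j := J) ⟨hJ, hJ'⟩ h.le) (not_le.mpr h)
  have hcardg : ∀ g : G, Nat.card (g • Tz I : AddSubgroup V) = Nat.card (Tz I) := by
    intro g
    have h1 : ((g • Tz I : AddSubgroup V) : Set V) = g • ((Tz I : AddSubgroup V) : Set V) := rfl
    change Nat.card ((g • Tz I : AddSubgroup V) : Set V) = Nat.card ((Tz I : AddSubgroup V) : Set V)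
    rw [Nat.card_coe_set_eq, Nat.card_coe_set_eq, h1, Set.ncard_smul_set]
  have hsub : ∀ g : G, cj V g '' I ⊆ (R : Set (AddMonoid.End V)) := by
    rintro g _ ⟨r, hr, rfl⟩
    exact hR g r (hIR hr)
  -- dichotomy
  have hdich : ∀ (g : G), ∀ r ∈ R, (∀ x ∈ (g • Tz I : AddSubgroup V), r x = 0) ∨
      (∀ x ∈ (g • Tz I : AddSubgroup V), r x = 0 → x = 0) := by
    intro g r hr
    by_cases h : Tz (cj V g '' I ∪ {r}) = ⊥
    · right
      intro x hx hx0
      rw [smul_Tz] at hx
      have h1 : x ∈ Tz (cj V g '' I ∪ {r}) := by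
        rintro s (hs | hs)
        · exact hx s hs
        · rw [Set.mem_singleton_iff.mp hs]; exact hx0
      rw [h, AddSubgroup.mem_bot] at h1
      exact h1
    · left
      have h1 := hmin' _ (Set.union_subset (hsub g) (Set.singleton_subset_iff.mpr hr)) h
      have h2 : Tz (cj V g '' I ∪ {r}) ≤ (g • Tz I : AddSubgroup V) := by
        rw [smul_Tz]
        intro x hx s hs
        exact hx s (Or.inl hs)
      have h3 : Tz (cj V g '' I ∪ {r}) = (g • Tz I : AddSubgroup V) :=
        AddSubgroup.eq_of_le_of_card_ge h2 (by rw [hcardg]; exact h1)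
      intro x hx
      rw [← h3] at hx
      exact hx r (Or.inr rfl)
  have hstable : ∀ (g : G), ∀ e ∈ R, ∀ x ∈ (g • Tz I : AddSubgroup V),
      e x ∈ (g • Tz I : AddSubgroup V) := by
    intro g e he x hx
    rw [smul_Tz] at hx ⊢
    intro s hs
    have h1 : (s * e) x = (e * s) x := by rw [hc s (hsub g hs) e he]
    change s (e x) = e (s x) at h1
    rw [h1, hx s hs, map_zero]
  have hindep : iSupIndep (fun w : {U : AddSubgroup V // ∃ g : G, U = g • Tz I} =>
      (w : AddSubgroup V)) := by
    rintro ⟨U, g, rfl⟩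
    -- a killing element
    have hkill : ∀ S : Finset (AddSubgroup V),
        (∀ U' ∈ S, (∃ g' : G, U' = g' • Tz I) ∧ U' ≠ g • Tz I) →
        ∃ e ∈ R, (∀ U' ∈ S, ∀ x ∈ U', e x = 0) ∧
          ∀ x ∈ (g • Tz I : AddSubgroup V), e x = 0 → x = 0 := by
      intro S
      induction S using Finset.induction_on with
      | empty =>
        intro _
        refine ⟨1, one_mem _, fun U' hU' => absurd hU' (Finset.notMem_empty _), ?_⟩
        intro x _ h
        exact h
      | insert U' S hU'S ih =>
        intro hS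
        obtain ⟨e, he, h1, h2⟩ := ih (fun U'' h => hS U'' (Finset.mem_insert_of_mem h))
        obtain ⟨⟨g', rfl⟩, hne⟩ := hS U' (Finset.mem_insert_self _ _)
        have h3 : ¬ (g • Tz I : AddSubgroup V) ≤ g' • Tz I := by
          intro hle
          apply hne
          exact (AddSubgroup.eq_of_le_of_card_ge hle (by rw [hcardg, hcardg])).symm
        obtain ⟨x, hx, hx'⟩ := SetLike.not_le_iff_exists.mp h3
        rw [smul_Tz g'] at hx'
        have h4 : ∃ s ∈ cj V g' '' I, s x ≠ 0 := by
          by_contra h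
          push Not at h
          exact hx' h
        obtain ⟨s, hs, hsx⟩ := h4
        have hsR : s ∈ R := hsub g' hs
        have hinj : ∀ x ∈ (g • Tz I : AddSubgroup V), s x = 0 → x = 0 := by
          rcases hdich g s hsR with h | h
          · exact absurd (h x hx) hsx
          · exact h
        refine ⟨s * e, mul_mem hsR he, ?_, ?_⟩
        · intro U'' hU'' y hy
          rcases Finset.mem_insert.mp hU'' with rfl | h
          · have h5 : (s * e) y = (e * s) y := by rw [hc s hsR e he]
            rw [h5]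
            change e (s y) = 0
            rw [smul_Tz] at hy
            rw [hy s hs, map_zero]
          · change s (e y) = 0
            rw [h1 U'' h y hy, map_zero]
        · intro y hy hy0
          change s (e y) = 0 at hy0
          exact h2 y hy (hinj _ (hstable g e he y hy) hy0)
    letI := Fintype.ofFinite (AddSubgroup V)
    obtain ⟨e, heR, h1, h2⟩ := hkill (Finset.univ.filter
      (fun U' => (∃ g' : G, U' = g' • Tz I) ∧ U' ≠ g • Tz I)) (by
        intro U' hU'
        exact (Finset.mem_filter.mp hU').2)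
    rw [AddSubgroup.disjoint_def]
    intro x hx hx'
    apply h2 x hx
    have h3 : (⨆ (j : {U : AddSubgroup V // ∃ g : G, U = g • Tz I})
        (_ : j ≠ ⟨g • Tz I, g, rfl⟩), (j : AddSubgroup V)) ≤ AddMonoidHom.ker e := by
      apply iSup₂_le
      rintro ⟨U', hU'⟩ hne y hy
      change e y = 0
      apply h1 U' _ y hy
      rw [Finset.mem_filter]
      exact ⟨Finset.mem_univ _, hU', fun h => hne (Subtype.ext h)⟩
    exact h3 hx'
  have htop := hprim (Tz I) hIne hindep
  have h1 := hdich 1 r hr
  rw [one_smul, htop] at h1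
  rcases h1 with h | h
  · exact AddMonoidHom.ext (fun x => h x trivial)
  · exact absurd (h v trivial hrv) hv

theorem isField_prim [Finite V] [Nontrivial V] (hprim : Prim G V) {A : Subgroup G} [hA : A.Normal]
    (hAc : ∀ a ∈ A, ∀ b ∈ A, a * b = b * a) : IsField (ring V A) := by
  have := finite_End (V := V)
  have hfin : Finite (ring V A) := inferInstance
  have h0 := fun (r : AddMonoid.End V) (hr : r ∈ ring V A) (v : V) (hv : v ≠ 0) (hrv : r v = 0) =>
    eq_zero_prim hprim (ring V A) (fun g r hr => cj_mem_ring g hr)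
      (fun r hr s hs => ring_comm hAc hr hs) hr hv hrv
  refine ⟨?_, ?_, ?_⟩
  · refine ⟨0, 1, fun h => ?_⟩
    have h1 : (0 : AddMonoid.End V) = 1 := congrArg Subtype.val h
    obtain ⟨v, hv⟩ := exists_ne (0 : V)
    apply hv
    have h2 : (0 : AddMonoid.End V) v = (1 : AddMonoid.End V) v := by rw [h1]
    exact h2.symm
  · intro r s
    exact Subtype.ext (ring_comm hAc r.2 s.2)
  · intro r hr
    have hinj : Function.Injective (fun s : ring V A => r * s) := by
      intro s t hst
      have h1 : (r : AddMonoid.End V) * ((s : AddMonoid.End V) - t) = 0 := by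
        rw [mul_sub, sub_eq_zero]
        exact congrArg Subtype.val hst
      apply Subtype.ext
      rw [← sub_eq_zero]
      by_contra hne
      obtain ⟨w, hw⟩ : ∃ w, ((s : AddMonoid.End V) - t) w ≠ 0 := by
        by_contra h
        push Not at h
        exact hne (AddMonoidHom.ext h)
      have h2 : (r : AddMonoid.End V) (((s : AddMonoid.End V) - t) w) = 0 := by
        have : ((r : AddMonoid.End V) * ((s : AddMonoid.End V) - t)) w = 0 := by rw [h1]; rfl
        exact this
      exact hr (Subtype.ext (h0 _ r.2 _ hw h2))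
    obtain ⟨s, hs⟩ := (Finite.injective_iff_surjective.mp hinj) 1
    exact ⟨s, hs⟩

theorem exists_field_prim [Finite V] [Nontrivial V] (hprim : Prim G V) {A : Subgroup G}
    [hA : A.Normal] (hAc : ∀ a ∈ A, ∀ b ∈ A, a * b = b * a) :
    ∃ (F : Type u) (_ : Field F) (_ : Finite F) (_ : Module F V),
      (∀ a ∈ A, ∃ c : F, ∀ v : V, a • v = c • v) ∧
      (∀ g : G, ∃ σ : F ≃+* F, ∀ (c : F) (v : V), g • (c • v) = σ c • (g • v)) ∧
      (∀ S : Subring F, (∀ a ∈ A, ∀ c : F, (∀ v : V, a • v = c • v) → c ∈ S) → S = ⊤) := by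
  have hE := finite_End (V := V)
  have hf := isField_prim (V := V) hprim hAc
  let m : Module (ring V A) V := inferInstance
  refine ⟨ring V A, hf.toField, inferInstance, m, ?_, ?_, ?_⟩
  · intro a ha
    exact ⟨⟨T V a, T_mem_ring ha⟩, fun v => rfl⟩
  · intro g
    let σ : ring V A ≃+* ring V A :=
      { toFun := fun r => ⟨cj V g r, cj_mem_ring g r.2⟩
        invFun := fun r => ⟨cj V g⁻¹ r, cj_mem_ring g⁻¹ r.2⟩
        left_inv := fun r => by
          apply Subtype.ext
          change T V g⁻¹ * (T V g * r * T V g⁻¹) * T V g⁻¹⁻¹ = r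
          rw [inv_inv]
          exact (cj V g).left_inv r
        right_inv := fun r => by
          apply Subtype.ext
          change T V g * (T V g⁻¹ * r * T V g⁻¹⁻¹) * T V g⁻¹ = r
          rw [inv_inv]
          exact (cj V g).right_inv r
        map_mul' := fun r s => Subtype.ext (map_mul (cj V g) _ _)
        map_add' := fun r s => Subtype.ext (map_add (cj V g) _ _) }
    refine ⟨σ, fun c v => ?_⟩
    change g • ((c : AddMonoid.End V) v) = T V g ((c : AddMonoid.End V) (T V g⁻¹ (g • v)))
    rw [T_apply g⁻¹, inv_smul_smul]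
    rfl
  · intro S hS
    let S' : Subring (ring V A) := S
    have hS' : ∀ a (ha : a ∈ A), (⟨T V a, T_mem_ring ha⟩ : ring V A) ∈ S' :=
      fun a ha => hS a ha _ (fun v => rfl)
    have h1 : ring V A ≤ S'.map (ring V A).subtype := by
      change Subring.closure _ ≤ _
      rw [Subring.closure_le]
      rintro _ ⟨a, ha, rfl⟩
      exact ⟨⟨T V a, T_mem_ring ha⟩, hS' a ha, rfl⟩
    have h2 : S' = ⊤ := by
      rw [eq_top_iff]
      intro x _
      obtain ⟨y, hy, hyx⟩ := h1 x.2
      have : y = x := Subtype.ext hyx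
      rwa [this] at hy
    exact h2

theorem exists_FD_prim [Finite V] [Nontrivial V] (hprim : Prim G V) {A : Subgroup G}
    [hA : A.Normal] (hAc : ∀ a ∈ A, ∀ b ∈ A, a * b = b * a) :
    ∃ (F : Type u) (_ : Field F) (_ : Finite F) (_ : Module F V), FD A F V := by
  obtain ⟨F, i1, i2, i3, h1, h2, h3⟩ := exists_field_prim (V := V) hprim hAc
  exact ⟨F, i1, i2, i3, ⟨h1, h2, h3⟩⟩

end

end Cfsg.Agent.H62.TV
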