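import Cfsg.Agent.H62.TVF

/-!
Primitive modules: self-centralizing abelian normal subgroups, small modules (owner: helper62)
-/

set_option autoImplicit false
set_option linter.unusedSectionVars false
set_option linter.style.haveILetI false

namespace Cfsg.Agent.H62.TV

open scoped Pointwise
open MulAction
open Cfsg.Agent.H68.Hup

universe u v w

section

variable {G : Type v} [Group G] [Finite G] {V : Type u} [AddCommGroup V] [Finite V]
  [DistribMulAction G V] [Nontrivial V] {F : Type w} [Field F] [Finite F] [Module F V]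
  {A : Subgroup G}

theorem fix_A (h : FD A F V) (hf : FaithV G V) {a : G} (ha : a ∈ A) (ha1 : a ≠ 1) :
    fixG V a = ⊥ := by
  obtain ⟨c, hc⟩ := h.scal a ha
  rw [eq_bot_iff]
  intro v hv
  rw [AddSubgroup.mem_bot]
  have h1 : a • v = v := hv
  rw [hc] at h1
  have h2 : (c - 1) • v = 0 := by rw [sub_smul, h1, one_smul, sub_self]
  rcases smul_eq_zero.mp h2 with h3 | h3
  · exfalso
    apply ha1
    apply hf
    intro w
    rw [hc, sub_eq_zero.mp h3, one_smul]
  · exact h3

theorem card_G_le (h : FD A F V) (hf : FaithV G V) {p m : ℕ} [Fact p.Prime]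
    (hm : Nat.card F = p ^ m) :
    Nat.card G ≤ m * Nat.card (Subgroup.centralizer (A : Set G)) := by
  have h1 : h.sg.ker = Subgroup.centralizer (A : Set G) := by
    ext g
    rw [h.mem_ker hf, Subgroup.mem_centralizer_iff]
    rfl
  have h2 : Nat.card G = Nat.card h.sg.ker * Nat.card h.sg.range := by
    rw [← Subgroup.index_ker, Subgroup.card_mul_index]
  have hfin : Finite (F ≃+* F) := Finite.of_injective (fun f : F ≃+* F => (f : F → F))
    DFunLike.coe_injective
  have h3 : Nat.card h.sg.range ≤ m :=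
    (Nat.card_le_card_of_injective _ h.sg.range.subtype_injective).trans (card_ringAut_le hm)
  rw [h2, h1, mul_comm]
  exact Nat.mul_le_mul_right _ h3

theorem fix_notC (h : FD A F V) (hf : FaithV G V) [hA : A.Normal] {g : G}
    (hg : g ∉ Subgroup.centralizer (A : Set G)) : Nat.card (fixG V g) ^ 2 ≤ Nat.card V := by
  rw [Subgroup.mem_centralizer_iff] at hg
  push Not at hg
  obtain ⟨a, ha, hag⟩ := hg
  have h1 := fix_comm (V := V) g a
  have h2 : a * g * a⁻¹ * g⁻¹ ∈ A := by
    have e : a * g * a⁻¹ * g⁻¹ = a * (g * a⁻¹ * g⁻¹) := by group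
    rw [e]
    exact mul_mem ha (hA.conj_mem _ (inv_mem ha) g)
  have h3 : a * g * a⁻¹ * g⁻¹ ≠ 1 := by
    intro h4
    exact hag (mul_inv_eq_iff_eq_mul.mp (mul_inv_eq_one.mp h4))
  rw [fix_A h hf h2 h3, AddSubgroup.card_bot, mul_one] at h1
  exact h1

theorem exists_pm (F : Type w) [Field F] [Finite F] :
    ∃ p m : ℕ, p.Prime ∧ m ≠ 0 ∧ Nat.card F = p ^ m := by
  letI := Fintype.ofFinite F
  obtain ⟨p, hp⟩ := CharP.exists F
  obtain ⟨n, hp1, hn⟩ := FiniteField.card F p
  exact ⟨p, n, hp1, n.2.ne', by rw [Nat.card_eq_fintype_card, hn]⟩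

theorem fixed_card {σ : F ≃+* F} (h : 3 ≤ orderOf σ) :
    Nat.card {c : F // σ c = c} ^ 3 ≤ Nat.card F := by
  classical
  letI := Fintype.ofFinite F
  have hfin : Finite (F ≃+* F) := Finite.of_injective (fun f : F ≃+* F => (f : F → F))
    DFunLike.coe_injective
  letI := Fintype.ofFinite (Subgroup.zpowers σ)
  have h1 := FixedPoints.finrank_eq_card (Subgroup.zpowers σ) F
  rw [← Nat.card_eq_fintype_card, Nat.card_zpowers] at h1
  have h2 : Nat.card F = Nat.card (FixedPoints.subfield (Subgroup.zpowers σ) F) ^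
      (Module.finrank (FixedPoints.subfield (Subgroup.zpowers σ) F) F) :=
    Module.natCard_eq_pow_finrank
  have h3 : Nat.card {c : F // σ c = c} ≤
      Nat.card (FixedPoints.subfield (Subgroup.zpowers σ) F) := by
    apply Nat.card_le_card_of_injective (fun c : {c : F // σ c = c} =>
      (⟨(c : F), by
        rintro ⟨τ, n, rfl⟩
        change (σ ^ n) (c : F) = c
        have hc : σ • (c : F) = c := c.2
        have : σ ^ n ∈ stabilizer (F ≃+* F) (c : F) := Subgroup.zpow_mem _ hc n
        exact this⟩ : FixedPoints.subfield (Subgroup.zpowers σ) F))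
    intro c d hcd
    exact Subtype.ext (congrArg
      (fun z : FixedPoints.subfield (Subgroup.zpowers σ) F => (z : F)) hcd)
  have hpos : 0 < Nat.card (FixedPoints.subfield (Subgroup.zpowers σ) F) := Nat.card_pos
  rw [h2, h1]
  calc Nat.card {c : F // σ c = c} ^ 3
      ≤ Nat.card (FixedPoints.subfield (Subgroup.zpowers σ) F) ^ 3 := by gcongr
    _ ≤ _ := Nat.pow_le_pow_right hpos h

theorem fix_one (h : FD A F V) (hf : FaithV G V) (hodd : Odd (Nat.card G))
    (h1 : Module.finrank F V = 1) {g : G}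
    (hg : g ∉ Subgroup.centralizer (A : Set G)) : Nat.card (fixG V g) ^ 3 ≤ Nat.card V := by
  have hV : Nat.card V = Nat.card F := by rw [card_V_eq (F := F) (V := V), h1, pow_one]
  by_cases hfix : fixG V g = ⊥
  · rw [hfix, AddSubgroup.card_bot, one_pow]
    exact Nat.card_pos
  obtain ⟨⟨v0, hv0⟩, hv1⟩ := (AddSubgroup.ne_bot_iff_exists_ne_zero).mp hfix
  have hv2 : v0 ≠ 0 := fun h => hv1 (Subtype.ext h)
  have hv0' : g • v0 = v0 := hv0
  have hord : 3 ≤ orderOf (h.sg g) := by
    have hfin : Finite (F ≃+* F) := Finite.of_injective (fun f : F ≃+* F => (f : F → F))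
      DFunLike.coe_injective
    have e1 : orderOf (h.sg g) ∣ Nat.card G :=
      (orderOf_map_dvd h.sg g).trans (orderOf_dvd_natCard g)
    have e2 := odd_of_dvd' e1 hodd
    have e3 : orderOf (h.sg g) ≠ 1 := by
      intro h4
      rw [orderOf_eq_one_iff] at h4
      apply hg
      rw [Subgroup.mem_centralizer_iff]
      exact (h.mem_ker hf g).mp h4
    obtain ⟨c, hc⟩ := e2
    omega
  have h3 := fixed_card hord
  rw [hV]
  refine le_trans ?_ h3
  gcongr
  have hspan : ∀ v : V, ∃ c : F, c • v0 = v := (finrank_eq_one_iff_of_nonzero' v0 hv2).mp h1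
  apply Nat.card_le_card_of_injective (fun x : fixG V g =>
    (⟨(hspan (x : V)).choose, by
      have e1 := (hspan (x : V)).choose_spec
      have e2 : g • (x : V) = x := x.2
      rw [← e1, h.sg_spec, hv0'] at e2
      have e3 : (h.sg g (hspan (x : V)).choose - (hspan (x : V)).choose) • v0 = 0 := by
        rw [sub_smul, e2, sub_self]
      rcases smul_eq_zero.mp e3 with e4 | e4
      · exact sub_eq_zero.mp e4
      · exact absurd e4 hv2⟩ : {c : F // h.sg g c = c}))
  intro x y hxy
  have e1 := congrArg (fun z : {c : F // h.sg g c = c} => (z : F)) hxy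
  apply Subtype.ext
  rw [← (hspan (x : V)).choose_spec, ← (hspan (y : V)).choose_spec]
  exact congrArg (fun c : F => c • v0) e1

end

theorem num_aux : ∀ n : ℕ, (n + 6) ^ 3 + 2 * (n + 7) + 1 ≤ 2 ^ (n + 8) := by
  intro n
  induction n with
  | zero => norm_num
  | succ n ih =>
    have e : 2 ^ (n + 1 + 8) = 2 * 2 ^ (n + 8) := by rw [pow_succ]; ring
    rw [e]
    refine le_trans ?_ (Nat.mul_le_mul_left 2 ih)
    nlinarith [sq_nonneg (n : ℤ)]

theorem num0 {i c v : ℕ} (hi : 1 ≤ i) (hv : 2 ^ i ≤ v) (hc : c ^ 3 ≤ v) :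
    (i - 1) * c ^ 2 + 2 * i + 1 ≤ 2 * v := by
  obtain ⟨j, rfl⟩ : ∃ j, i = j + 1 := ⟨i - 1, by omega⟩
  rw [Nat.add_sub_cancel]
  rcases Nat.lt_or_ge j 6 with hj | hj
  · interval_cases j
    · omega
    · -- i = 2
      norm_num at hv ⊢
      rcases Nat.lt_or_ge c 2 with h | h
      · interval_cases c <;> omega
      · nlinarith
    · norm_num at hv ⊢
      rcases Nat.lt_or_ge c 3 with h | h
      · interval_cases c <;> omega
      · nlinarith
    · norm_num at hv ⊢
      rcases Nat.lt_or_ge c 3 with h | h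
      · interval_cases c <;> omega
      · nlinarith
    · norm_num at hv ⊢
      rcases Nat.lt_or_ge c 4 with h | h
      · interval_cases c <;> omega
      · nlinarith
    · norm_num at hv ⊢
      rcases Nat.lt_or_ge c 5 with h | h
      · interval_cases c <;> omega
      · nlinarith
  · rcases Nat.lt_or_ge j c with h | h
    · -- c > j
      nlinarith [Nat.mul_le_mul_right (c ^ 2) h.le, sq_nonneg c, Nat.mul_le_mul h.le h.le]
    · have h1 : j * c ^ 2 ≤ j ^ 3 := by
        calc j * c ^ 2 ≤ j * j ^ 2 := by gcongr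
          _ = j ^ 3 := by ring
      obtain ⟨n, rfl⟩ : ∃ n, j = n + 6 := ⟨j - 6, by omega⟩
      have h2 := num_aux n
      have h3 : 2 ^ (n + 8) = 2 * 2 ^ (n + 6 + 1) := by rw [pow_succ 2 (n + 7)]; ring
      omega

end Cfsg.Agent.H62.TV
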