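import Cfsg.Agent.H62.TVG

/-!
Primitive modules: self-centralizing abelian normal subgroups, small modules, II (owner: helper62)
-/

set_option autoImplicit false
set_option linter.unusedSectionVars false
set_option linter.style.haveILetI false

namespace Cfsg.Agent.H62.TV

open scoped Pointwise
open MulAction
open Cfsg.Agent.H68.Hup

universe u v w

section

variable {G : Type v} [Group G] [Finite G] {V : Type u} [AddCommGroup V] [Finite V]
  [DistribMulAction G V] [Nontrivial V] {F : Type w} [Field F] [Finite F] [Module F V]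
  {A : Subgroup G}

/-- the self-centralizing case -/
theorem case_CA (h : FD A F V) (hf : FaithV G V) (hodd : Odd (Nat.card G)) [hA : A.Normal]
    (hCA : Subgroup.centralizer (A : Set G) = A) : P2 G V := by
  obtain ⟨p, m, hp, hm0, hm⟩ := exists_pm F
  haveI : Fact p.Prime := ⟨hp⟩
  have h1 := card_G_le h hf hm
  rw [hCA] at h1
  have hk1 : 1 < Nat.card F := Finite.one_lt_card
  have hAk : Nat.card A ≤ Nat.card F - 1 :=
    Nat.le_of_dvd (by omega) (h.card_dvd hf)
  have hA0 : 0 < Nat.card A := Nat.card_pos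
  have hmk : 2 ^ m ≤ Nat.card F := by
    rw [hm]; exact Nat.pow_le_pow_left hp.two_le m
  have hfixA : ∀ g ∈ A, g ≠ 1 → Nat.card (fixG V g) = 1 := by
    intro g hg hg1
    rw [fix_A h hf hg hg1, AddSubgroup.card_bot]
  obtain ⟨i, hi⟩ := A.card_subgroup_dvd_card
  have hi0 : 1 ≤ i := by
    rcases Nat.eq_zero_or_pos i with h0 | h0
    · rw [h0, mul_zero] at hi
      exact absurd hi Nat.card_pos.ne'
    · exact h0
  have him : i ≤ m := by
    rw [hi, mul_comm] at h1
    exact Nat.le_of_mul_le_mul_right h1 hA0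
  have hik : 2 ^ i ≤ Nat.card F := (Nat.pow_le_pow_right (by norm_num) him).trans hmk
  have hy : Nat.card G = Nat.card A + (i - 1) * Nat.card A := by
    rw [hi]
    obtain ⟨j, rfl⟩ : ∃ j, i = j + 1 := ⟨i - 1, by omega⟩
    rw [Nat.add_sub_cancel]; ring
  set k := Nat.card F with hk
  set α := Nat.card A with hα
  set v := Nat.card V with hv
  by_cases hd : Module.finrank F V = 1
  · have hvk : v = k := by rw [hv, card_V_eq (F := F) (V := V), hd, pow_one]
    let c := Nat.findGreatest (fun c => c ^ 3 ≤ v) v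
    have hc3 : c ^ 3 ≤ v := by
      have := Nat.findGreatest_spec (P := fun c => c ^ 3 ≤ v) (m := 0) (n := v) (by omega)
        (by norm_num)
      exact this
    have hcm : ∀ d : ℕ, d ^ 3 ≤ v → d ≤ c := by
      intro d hd3
      exact Nat.le_findGreatest (P := fun c => c ^ 3 ≤ v) ((Nat.le_self_pow (by norm_num) d).trans
        hd3) hd3
    apply count' hodd A A le_rfl 0 (c ^ 2) 0 ((i - 1) * α) (by omega) hy hfixA
      (fun g h1 h2 => absurd h1 h2)
    · intro g hg
      have h2 := fix_one h hf hodd hd (g := g) (by rw [hCA]; exact hg)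
      exact Nat.pow_le_pow_left (hcm _ h2) 2
    · have h2 := num0 hi0 (v := v) (c := c) (by rw [hvk]; exact hik) hc3
      have h3 : α + 0 * 0 + (i - 1) * α * c ^ 2 + 2 * Nat.card G =
          α * ((i - 1) * c ^ 2 + 2 * i + 1) := by
        rw [hi]; ring
      rw [h3]
      have h4 : α < v := by omega
      calc α * ((i - 1) * c ^ 2 + 2 * i + 1) ≤ α * (2 * v) := Nat.mul_le_mul_left _ h2
        _ < v * (2 * v) := Nat.mul_lt_mul_of_pos_right h4 (by omega)
        _ = 2 * v ^ 2 := by ring
  · have hd2 : 2 ≤ Module.finrank F V := by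
      have := finrank_pos' (F := F) (V := V)
      omega
    have hvk : k ^ 2 ≤ v := by
      rw [hv, card_V_eq (F := F) (V := V)]
      exact Nat.pow_le_pow_right (by omega) hd2
    have hik' : i ≤ k - 1 := by
      have : i < 2 ^ i := Nat.lt_two_pow_self
      omega
    apply count' hodd A A le_rfl 0 v 0 ((i - 1) * α) (by omega) hy hfixA
      (fun g h1 h2 => absurd h1 h2)
    · intro g hg
      exact fix_notC h hf (by rw [hCA]; exact hg)
    · rw [hi]
      obtain ⟨j, rfl⟩ : ∃ j, i = j + 1 := ⟨i - 1, by omega⟩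
      rw [Nat.add_sub_cancel]
      obtain ⟨l, hl⟩ : ∃ l, k = l + 2 := ⟨k - 2, by omega⟩
      have h3 : α ≤ l + 1 := by omega
      have h4 : j ≤ l := by omega
      have h5 : (l + 2) ^ 2 ≤ v := by rw [← hl]; exact hvk
      have h6 : j * α ≤ l * (l + 1) := Nat.mul_le_mul h4 h3
      have h7 : j * α + α ≤ (l + 1) * (l + 1) := by nlinarith
      nlinarith

end

theorem pp_eq {p m q t : ℕ} (hp : p.Prime) (hq : q.Prime) (h : p ^ m = q ^ t) (ht : t ≠ 0) :
    m = t := by
  have hm : m ≠ 0 := by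
    rintro rfl
    rw [pow_zero] at h
    exact (Nat.one_lt_pow ht hq.one_lt).ne h
  have h1 : p ∣ q ^ t := by rw [← h]; exact dvd_pow_self p hm
  have h2 := (Nat.prime_dvd_prime_iff_eq hp hq).mp (hp.dvd_of_dvd_pow h1)
  subst h2
  exact Nat.pow_right_injective hp.two_le h

theorem odd_dvd_le {a : ℕ} (ha : Odd a) :
    (a ∣ 2 → a = 1) ∧ (a ∣ 4 → a = 1) ∧ (a ∣ 8 → a = 1) ∧ (a ∣ 6 → a ≤ 3) ∧
    (a ∣ 24 → a ≤ 3) ∧ (a ∣ 48 → a ≤ 3) ∧ (a ∣ 80 → a ≤ 5) := by
  have key : ∀ n t : ℕ, a ∣ 2 ^ t * n → a ∣ n := by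
    intro n t h
    have h1 : Nat.Coprime a (2 ^ t) := Nat.Coprime.pow_right t ha.coprime_two_right
    exact h1.dvd_of_dvd_mul_left h
  refine ⟨fun h => ?_, fun h => ?_, fun h => ?_, fun h => ?_, fun h => ?_, fun h => ?_,
    fun h => ?_⟩
  · exact Nat.dvd_one.mp (key 1 1 h)
  · exact Nat.dvd_one.mp (key 1 2 h)
  · exact Nat.dvd_one.mp (key 1 3 h)
  · exact Nat.le_of_dvd (by norm_num) (key 3 1 h)
  · exact Nat.le_of_dvd (by norm_num) (key 3 3 h)
  · exact Nat.le_of_dvd (by norm_num) (key 3 4 h)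
  · exact Nat.le_of_dvd (by norm_num) (key 5 4 h)

theorem small {G : Type v} [Group G] [Finite G] {V : Type u} [AddCommGroup V] [Finite V]
    [DistribMulAction G V] [Nontrivial V] (hsol : Group.IsSolvable G) (hodd : Odd (Nat.card G))
    (hf : FaithV G V) (hirr : Irr G V) :
    Nat.card V ≠ 9 ∧ (Nat.card V = 25 → Nat.card G ≤ 6) ∧ (Nat.card V = 49 → Nat.card G ≤ 6) ∧
      (Nat.card V = 81 → Nat.card G ≤ 20) := by
  by_cases hcase : Nat.card V = 9 ∨ Nat.card V = 25 ∨ Nat.card V = 49 ∨ Nat.card V = 81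
  swap
  · push Not at hcase
    exact ⟨hcase.1, fun h => absurd h hcase.2.1, fun h => absurd h hcase.2.2.1,
      fun h => absurd h hcase.2.2.2⟩
  have hV81 : Nat.card V ≤ 81 := by omega
  -- primitivity
  have hprim : Prim G V := by
    intro W hW hind
    by_contra hne
    obtain ⟨n, hn, hn1, hn2⟩ := card_pow hodd hirr hW hne hind
    have hw2 : 2 ≤ Nat.card W := by
      have : Nontrivial W := (AddSubgroup.nontrivial_iff_ne_bot W).mpr hW
      exact Finite.one_lt_card
    set w := Nat.card W with hw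
    have hn6 : n ≤ 6 := by
      by_contra h
      push Not at h
      have h1 : 2 ^ 7 ≤ w ^ n := (Nat.pow_le_pow_right (by norm_num) h).trans
        (Nat.pow_le_pow_left hw2 n)
      omega
    have hn35 : n = 3 ∨ n = 5 := by
      obtain ⟨j, hj⟩ := hn
      omega
    have hw4 : w ≤ 4 := by
      by_contra h
      push Not at h
      rcases hn35 with rfl | rfl
      · have : 5 ^ 3 ≤ w ^ 3 := Nat.pow_le_pow_left h 3
        omega
      · have : 5 ^ 5 ≤ w ^ 5 := Nat.pow_le_pow_left h 5
        omega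
    rcases hn35 with rfl | rfl <;> interval_cases w <;> omega
  obtain ⟨A, hA⟩ := exists_maxAb G
  haveI := hA.normal
  obtain ⟨F, i1, i2, i3, h⟩ := exists_FD_prim (V := V) hprim hA.comm
  obtain ⟨p, m, hp, hm0, hm⟩ := exists_pm F
  haveI : Fact p.Prime := ⟨hp⟩
  have hcyc := h.isCyclic hf
  have hAodd : Odd (Nat.card A) := odd_subgroup A hodd
  have hAdvd := h.card_dvd hf
  have hk1 : 1 < Nat.card F := Finite.one_lt_card
  have hvk := card_V_eq (F := F) (V := V)
  have hdpos := finrank_pos' (F := F) (V := V)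
  obtain ⟨o2, o4, o8, o6, o24, o48, o80⟩ := odd_dvd_le hAodd
  set k := Nat.card F with hk
  set δ := Module.finrank F V with hδ
  -- the centralizer
  have hCA : Subgroup.centralizer (A : Set G) = A := by
    apply le_antisymm
    · by_contra hC
      obtain ⟨B, r, hr, hBn, hB, hBA⟩ := hA.exists_BD hsol hC
      haveI : Fact r.Prime := ⟨hr⟩
      have hrA := hB.r_dvd hBA
      have hr3 : 3 ≤ r := by
        have h1 := odd_of_dvd' hrA hAodd
        have h2 := hr.two_le
        obtain ⟨j, hj⟩ := h1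
        omega
      obtain ⟨j, hj⟩ := hB.exists_card
      have hj0 : 1 ≤ j := by
        rcases Nat.eq_zero_or_pos j with h0 | h0
        · exfalso
          rw [h0, mul_zero, pow_zero, one_mul] at hj
          exact hBA (Subgroup.eq_of_le_of_card_ge hB.le hj.le).ge
        · exact h0
      have h1 := h.card_le_sq hf hB
      rw [hj] at h1
      have h2 : r ^ (2 * j) ≤ δ ^ 2 := Nat.le_of_mul_le_mul_right h1 Nat.card_pos
      have h3 : 3 ^ 2 ≤ r ^ (2 * j) := (Nat.pow_le_pow_left hr3 2).trans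
        (Nat.pow_le_pow_right (by omega) (by omega))
      have h4 : 3 ≤ δ := by nlinarith
      have hk4 : k ≤ 4 := by
        by_contra hcon
        push Not at hcon
        have h5 : 5 ^ 3 ≤ k ^ δ := (Nat.pow_le_pow_left hcon 3).trans
          (Nat.pow_le_pow_right (by omega) h4)
        omega
      have hδ6 : δ ≤ 6 := by
        by_contra hcon
        push Not at hcon
        have h5 : 2 ^ 7 ≤ k ^ δ := (Nat.pow_le_pow_right (by norm_num) hcon).trans
          (Nat.pow_le_pow_left hk1 δ)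
        omega
      have hk3 : k = 3 := by
        clear_value k δ
        interval_cases k <;> interval_cases δ <;> omega
      rw [hk3] at hAdvd
      rw [o2 hAdvd] at hrA
      exact hr.one_lt.ne' (Nat.dvd_one.mp hrA)
    · intro a ha
      rw [Subgroup.mem_centralizer_iff]
      intro b hb
      exact hA.comm b hb a ha
  have hGle := card_G_le h hf hm
  rw [hCA] at hGle
  have hδ6 : δ ≤ 6 := by
    by_contra hcon
    push Not at hcon
    have h5 : 2 ^ 7 ≤ k ^ δ := (Nat.pow_le_pow_right (by norm_num) hcon).trans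
      (Nat.pow_le_pow_left hk1 δ)
    omega
  -- trivial group
  have htriv : Nat.card A = 1 → Nat.card V ≠ 9 := by
    intro hA1 hV9
    have hAbot : A = ⊥ := Subgroup.card_eq_one.mp hA1
    have hG1 : ∀ g : G, g = 1 := by
      intro g
      have h1 : g ∈ Subgroup.centralizer (A : Set G) := by
        rw [hAbot, Subgroup.mem_centralizer_iff]
        intro b hb
        rw [Subgroup.coe_bot, Set.mem_singleton_iff] at hb
        rw [hb, one_mul, mul_one]
      rw [hCA, hAbot, Subgroup.mem_bot] at h1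
      exact h1
    haveI : Fact (Nat.Prime 3) := ⟨Nat.prime_three⟩
    obtain ⟨x, hx⟩ := exists_prime_addOrderOf_dvd_card' (G := V) 3 (by rw [hV9]; norm_num)
    rcases hirr (AddSubgroup.zmultiples x) (fun g y hy => by rw [hG1 g, one_smul]; exact hy) with
      h1 | h1
    · rw [AddSubgroup.zmultiples_eq_bot] at h1
      rw [h1, addOrderOf_zero] at hx
      omega
    · have h2 := Nat.card_zmultiples x
      rw [h1, AddSubgroup.card_top, hx, hV9] at h2
      omega
  have hcases : (Nat.card V = 9 → Nat.card A = 1) ∧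
      (Nat.card V = 25 → Nat.card A ≤ 3 ∧ m ≤ 2) ∧ (Nat.card V = 49 → Nat.card A ≤ 3 ∧ m ≤ 2) ∧
      (Nat.card V = 81 → Nat.card A ≤ 5 ∧ m ≤ 4) := by
    have key : ∀ q t : ℕ, q.Prime → Nat.card V = q ^ t → t ≠ 0 → k = q ^ m ∧ m ∣ t := by
      intro q t hq hV ht
      have h1 : p ^ (m * δ) = q ^ t := by rw [pow_mul, ← hm, ← hvk, hV]
      have h2 := pp_eq hp hq h1 ht
      have h3 : p ∣ q ^ t := by
        rw [← h1]
        exact dvd_pow_self p (by rw [h2]; exact ht)
      have h4 := (Nat.prime_dvd_prime_iff_eq hp hq).mp (hp.dvd_of_dvd_pow h3)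
      exact ⟨by rw [hm, h4], ⟨δ, h2.symm⟩⟩
    refine ⟨fun hV => ?_, fun hV => ?_, fun hV => ?_, fun hV => ?_⟩
    · obtain ⟨h1, h2⟩ := key 3 2 Nat.prime_three (by rw [hV]; norm_num) (by norm_num)
      have h3 : m ≤ 2 := Nat.le_of_dvd (by norm_num) h2
      rw [h1] at hAdvd
      interval_cases m
      · exact absurd rfl hm0
      · exact o2 hAdvd
      · exact o8 hAdvd
    · obtain ⟨h1, h2⟩ := key 5 2 Nat.prime_five (by rw [hV]; norm_num) (by norm_num)
      have h3 : m ≤ 2 := Nat.le_of_dvd (by norm_num) h2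
      refine ⟨?_, h3⟩
      rw [h1] at hAdvd
      interval_cases m
      · exact absurd rfl hm0
      · rw [o4 hAdvd]; norm_num
      · exact o24 hAdvd
    · obtain ⟨h1, h2⟩ := key 7 2 (by norm_num) (by rw [hV]; norm_num) (by norm_num)
      have h3 : m ≤ 2 := Nat.le_of_dvd (by norm_num) h2
      refine ⟨?_, h3⟩
      rw [h1] at hAdvd
      interval_cases m
      · exact absurd rfl hm0
      · exact o6 hAdvd
      · exact o48 hAdvd
    · obtain ⟨h1, h2⟩ := key 3 4 Nat.prime_three (by rw [hV]; norm_num) (by norm_num)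
      have h3 : m ≤ 4 := Nat.le_of_dvd (by norm_num) h2
      refine ⟨?_, h3⟩
      rw [h1] at hAdvd
      interval_cases m
      · exact absurd rfl hm0
      · rw [o2 hAdvd]; norm_num
      · rw [o8 hAdvd]; norm_num
      · exact absurd h2 (by norm_num)
      · exact o80 hAdvd
  obtain ⟨c9, c25, c49, c81⟩ := hcases
  refine ⟨fun hV => htriv (c9 hV) hV, fun hV => ?_, fun hV => ?_, fun hV => ?_⟩
  · obtain ⟨h1, h2⟩ := c25 hV
    calc Nat.card G ≤ m * Nat.card A := hGle
      _ ≤ 2 * 3 := Nat.mul_le_mul h2 h1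
  · obtain ⟨h1, h2⟩ := c49 hV
    calc Nat.card G ≤ m * Nat.card A := hGle
      _ ≤ 2 * 3 := Nat.mul_le_mul h2 h1
  · obtain ⟨h1, h2⟩ := c81 hV
    calc Nat.card G ≤ m * Nat.card A := hGle
      _ ≤ 4 * 5 := Nat.mul_le_mul h2 h1

end Cfsg.Agent.H62.TV
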