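import Cfsg.Agent.H62.TVH

/-!
Primitive modules: socle and action on chief factors; numerical lemmas (owner: helper62)
-/

set_option autoImplicit false
set_option linter.unusedSectionVars false
set_option linter.style.haveILetI false

namespace Cfsg.Agent.H62.TV

open scoped Pointwise
open MulAction
open Cfsg.Agent.H68.Hup

universe u v w

/-! ### numbers -/

theorem mono_k {k k0 δ : ℕ} (hk0 : 2 ≤ k0) (hk : k0 ≤ k) (hδ : 3 ≤ δ) :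
    (k - 1) ^ 3 * k0 ^ (2 * δ) ≤ (k0 - 1) ^ 3 * k ^ (2 * δ) := by
  have h1 : (k - 1) * k0 ^ 2 ≤ (k0 - 1) * k ^ 2 := by
    obtain ⟨s, rfl⟩ : ∃ s, k0 = s + 2 := ⟨k0 - 2, by omega⟩
    obtain ⟨t, rfl⟩ : ∃ t, k = s + 2 + t := ⟨k - (s + 2), by omega⟩
    have e1 : s + 2 + t - 1 = s + 1 + t := by omega
    have e2 : s + 2 - 1 = s + 1 := by omega
    rw [e1, e2]
    have : (s + 1) * (s + 2 + t) ^ 2 = (s + 1 + t) * (s + 2) ^ 2 + (t * (s ^ 2 + 2 * s) +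
      (s + 1) * t ^ 2) := by ring
    rw [this]
    exact Nat.le_add_right _ _
  obtain ⟨e, rfl⟩ : ∃ e, δ = e + 3 := ⟨δ - 3, by omega⟩
  have h2 := Nat.pow_le_pow_left h1 3
  have h3 : k0 ^ (2 * e) ≤ k ^ (2 * e) := Nat.pow_le_pow_left hk _
  calc (k - 1) ^ 3 * k0 ^ (2 * (e + 3)) = ((k - 1) * k0 ^ 2) ^ 3 * k0 ^ (2 * e) := by ring
    _ ≤ ((k0 - 1) * k ^ 2) ^ 3 * k ^ (2 * e) := Nat.mul_le_mul h2 h3
    _ = _ := by ring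

theorem num_gen {K L a k0 d0 : ℕ} (hk0 : 2 ≤ k0) (hd0 : 3 ≤ d0)
    (hbase : K * (k0 - 1) ^ 3 * d0 ^ a ≤ L * k0 ^ (2 * d0))
    (hstep : (d0 + 1) ^ a ≤ k0 ^ 2 * d0 ^ a) {k d : ℕ} (hk : k0 ≤ k) (hd : d0 ≤ d) :
    K * (k - 1) ^ 3 * d ^ a ≤ L * k ^ (2 * d) := by
  have h1 : ∀ e : ℕ, K * (k0 - 1) ^ 3 * (d0 + e) ^ a ≤ L * k0 ^ (2 * (d0 + e)) := by
    intro e
    induction e with
    | zero => exact hbase
    | succ e ih =>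
      have h2 : (d0 + e + 1) ^ a ≤ k0 ^ 2 * (d0 + e) ^ a := by
        have h3 : (d0 + e + 1) * d0 ≤ (d0 + 1) * (d0 + e) := by nlinarith
        have h4 := Nat.pow_le_pow_left h3 a
        rw [mul_pow, mul_pow] at h4
        have h5 : (d0 + 1) ^ a * (d0 + e) ^ a ≤ k0 ^ 2 * d0 ^ a * (d0 + e) ^ a :=
          Nat.mul_le_mul_right _ hstep
        have h6 : (d0 + e + 1) ^ a * d0 ^ a ≤ (k0 ^ 2 * (d0 + e) ^ a) * d0 ^ a := by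
          calc (d0 + e + 1) ^ a * d0 ^ a ≤ _ := h4
            _ ≤ _ := h5
            _ = _ := by ring
        exact Nat.le_of_mul_le_mul_right h6 (Nat.pow_pos (by omega))
      calc K * (k0 - 1) ^ 3 * (d0 + (e + 1)) ^ a = K * (k0 - 1) ^ 3 * (d0 + e + 1) ^ a := by
            rw [add_assoc]
        _ ≤ K * (k0 - 1) ^ 3 * (k0 ^ 2 * (d0 + e) ^ a) := Nat.mul_le_mul_left _ h2
        _ = (K * (k0 - 1) ^ 3 * (d0 + e) ^ a) * k0 ^ 2 := by ring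
        _ ≤ (L * k0 ^ (2 * (d0 + e))) * k0 ^ 2 := Nat.mul_le_mul_right _ ih
        _ = _ := by rw [show 2 * (d0 + (e + 1)) = 2 * (d0 + e) + 2 by ring, pow_add]; ring
  obtain ⟨e, rfl⟩ : ∃ e, d = d0 + e := ⟨d - d0, by omega⟩
  have h2 := h1 e
  have h3 := mono_k (δ := d0 + e) hk0 hk (by omega)
  have h4 : (K * (k - 1) ^ 3 * (d0 + e) ^ a) * k0 ^ (2 * (d0 + e)) ≤
      (L * k ^ (2 * (d0 + e))) * k0 ^ (2 * (d0 + e)) := by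
    calc (K * (k - 1) ^ 3 * (d0 + e) ^ a) * k0 ^ (2 * (d0 + e))
        = K * (d0 + e) ^ a * ((k - 1) ^ 3 * k0 ^ (2 * (d0 + e))) := by ring
      _ ≤ K * (d0 + e) ^ a * ((k0 - 1) ^ 3 * k ^ (2 * (d0 + e))) := Nat.mul_le_mul_left _ h3
      _ = (K * (k0 - 1) ^ 3 * (d0 + e) ^ a) * k ^ (2 * (d0 + e)) := by ring
      _ ≤ (L * k0 ^ (2 * (d0 + e))) * k ^ (2 * (d0 + e)) := Nat.mul_le_mul_right _ h2
      _ = _ := by ring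
  exact Nat.le_of_mul_le_mul_right h4 (Nat.pow_pos (by omega))

theorem numT1 {k d : ℕ} (hk : 8 ≤ k) (hd : 5 ≤ d) : 64 * (k - 1) ^ 3 * d ^ 6 ≤ 1 * k ^ (2 * d) :=
  num_gen (k0 := 8) (d0 := 5) (by norm_num) (by norm_num) (by norm_num) (by norm_num) hk hd

theorem numT2 {k d : ℕ} (hk : 4 ≤ k) (hd : 9 ≤ d) :
    64000 * (k - 1) ^ 3 * d ^ 6 ≤ 27 * k ^ (2 * d) :=
  num_gen (k0 := 4) (d0 := 9) (by norm_num) (by norm_num) (by norm_num) (by norm_num) hk hd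

theorem numT3 {k d : ℕ} (hk : 8 ≤ k) (hd : 11 ≤ d) :
    1 * (k - 1) ^ 3 * d ^ 18 ≤ 27 * k ^ (2 * d) :=
  num_gen (k0 := 8) (d0 := 11) (by norm_num) (by norm_num) (by norm_num) (by norm_num) hk hd

theorem numT4 {k d : ℕ} (hk : 4 ≤ k) (hd : 27 ≤ d) :
    1 * (k - 1) ^ 3 * d ^ 18 ≤ 27 * k ^ (2 * d) :=
  num_gen (k0 := 4) (d0 := 27) (by norm_num) (by norm_num) (by norm_num) (by norm_num) hk hd

/-- the trichotomy on `(y, k, d)` gives the basic inequality for `X`. -/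
theorem numX {X y q k d : ℕ} (hX : X ≤ y * d ^ 2 * (k - 1)) (hqd : q ≤ d ^ 2)
    (h : (y ≤ 6 ∧ 8 ≤ k ∧ 5 ≤ d) ∨ (y ≤ 20 ∧ 4 ≤ k ∧ 9 ≤ d) ∨
      (2 * y ≤ q ^ 2 ∧ ((8 ≤ k ∧ 11 ≤ d) ∨ (4 ≤ k ∧ 27 ≤ d)))) :
    8 * X ^ 3 ≤ 27 * (k ^ d) ^ 2 := by
  have e : (k ^ d) ^ 2 = k ^ (2 * d) := by rw [← pow_mul, mul_comm]
  rw [e]
  have hX3 : 8 * X ^ 3 ≤ (2 * y) ^ 3 * d ^ 6 * (k - 1) ^ 3 := by
    calc 8 * X ^ 3 ≤ 8 * (y * d ^ 2 * (k - 1)) ^ 3 := by gcongr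
      _ = _ := by ring
  rcases h with ⟨h1, h2, h3⟩ | ⟨h1, h2, h3⟩ | ⟨h1, h2⟩
  · have h4 := numT1 h2 h3
    calc 8 * X ^ 3 ≤ (2 * y) ^ 3 * d ^ 6 * (k - 1) ^ 3 := hX3
      _ ≤ (2 * 6) ^ 3 * d ^ 6 * (k - 1) ^ 3 := by gcongr
      _ = 27 * (64 * (k - 1) ^ 3 * d ^ 6) := by ring
      _ ≤ 27 * (1 * k ^ (2 * d)) := Nat.mul_le_mul_left _ h4
      _ = _ := by ring
  · have h4 := numT2 h2 h3
    calc 8 * X ^ 3 ≤ (2 * y) ^ 3 * d ^ 6 * (k - 1) ^ 3 := hX3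
      _ ≤ (2 * 20) ^ 3 * d ^ 6 * (k - 1) ^ 3 := by gcongr
      _ = 64000 * (k - 1) ^ 3 * d ^ 6 := by ring
      _ ≤ _ := h4
  · have h3 : 2 * y ≤ d ^ 4 := by
      calc 2 * y ≤ q ^ 2 := h1
        _ ≤ (d ^ 2) ^ 2 := Nat.pow_le_pow_left hqd 2
        _ = d ^ 4 := by ring
    have h4 : 8 * X ^ 3 ≤ 1 * (k - 1) ^ 3 * d ^ 18 := by
      calc 8 * X ^ 3 ≤ (2 * y) ^ 3 * d ^ 6 * (k - 1) ^ 3 := hX3
        _ ≤ (d ^ 4) ^ 3 * d ^ 6 * (k - 1) ^ 3 := by gcongr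
        _ = _ := by ring
    rcases h2 with ⟨h5, h6⟩ | ⟨h5, h6⟩
    · exact h4.trans (numT3 h5 h6)
    · exact h4.trans (numT4 h5 h6)

theorem num_m {m v : ℕ} (h1 : 1024 ≤ v) (h2 : 32 ^ m ≤ v) : 54 * m ^ 3 < v := by
  rcases Nat.lt_or_ge m 3 with h | h
  · interval_cases m <;> omega
  · have h3 : m ^ 3 ≤ 8 ^ m := by
      have : m ≤ 2 ^ m := Nat.lt_two_pow_self.le
      calc m ^ 3 ≤ (2 ^ m) ^ 3 := Nat.pow_le_pow_left this 3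
        _ = 8 ^ m := by rw [← pow_mul, mul_comm, pow_mul]; norm_num
    have h4 : 64 ≤ 4 ^ m := by
      calc 64 = 4 ^ 3 := by norm_num
        _ ≤ 4 ^ m := Nat.pow_le_pow_right (by norm_num) h
    have h5 : 0 < 8 ^ m := Nat.pow_pos (by norm_num)
    calc 54 * m ^ 3 ≤ 54 * 8 ^ m := Nat.mul_le_mul_left _ h3
      _ < 64 * 8 ^ m := by omega
      _ ≤ 4 ^ m * 8 ^ m := Nat.mul_le_mul_right _ h4
      _ = 32 ^ m := by rw [← mul_pow]; norm_num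
      _ ≤ v := h2

/-- final inequality -/
theorem num_final {X Gc m v c α x y : ℕ} (hX : 8 * X ^ 3 ≤ 27 * v ^ 2) (hG : Gc ≤ m * X)
    (hm : 54 * m ^ 3 < v) (hv : 1024 ≤ v) (hc : c ^ 3 ≤ v ^ 2) (hc1 : 1 ≤ c)
    (hx : X = α + x) (hy : Gc = X + y) :
    α + x * c ^ 2 + y * v + 2 * Gc < 2 * v ^ 2 := by
  have h1 : 2 * (X * c ^ 2) ≤ 3 * v ^ 2 := by
    have h2 : (2 * (X * c ^ 2)) ^ 3 ≤ (3 * v ^ 2) ^ 3 := by
      calc (2 * (X * c ^ 2)) ^ 3 = (8 * X ^ 3) * (c ^ 3) ^ 2 := by ring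
        _ ≤ (27 * v ^ 2) * (v ^ 2) ^ 2 := Nat.mul_le_mul hX (Nat.pow_le_pow_left hc 2)
        _ = _ := by ring
    exact (Nat.pow_le_pow_iff_left (by norm_num)).mp h2
  have h3 : 2 * (m * X * (v + 2)) < v ^ 2 := by
    have h4 : (2 * (m * X * (v + 2))) ^ 3 < (v ^ 2) ^ 3 := by
      have e1 : (v + 2) ^ 3 ≤ 2 * v ^ 3 := by
        obtain ⟨w, rfl⟩ : ∃ w, v = w + 8 := ⟨v - 8, by omega⟩
        nlinarith [sq_nonneg (w : ℤ), Nat.zero_le (w ^ 3), Nat.zero_le (w ^ 2)]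
      calc (2 * (m * X * (v + 2))) ^ 3 = (8 * X ^ 3) * m ^ 3 * (v + 2) ^ 3 := by ring
        _ ≤ (27 * v ^ 2) * m ^ 3 * (2 * v ^ 3) := by gcongr
        _ = (54 * m ^ 3) * v ^ 5 := by ring
        _ < v * v ^ 5 := Nat.mul_lt_mul_of_pos_right hm (Nat.pow_pos (by omega))
        _ = _ := by ring
    exact lt_of_pow_lt_pow_left₀ 3 (Nat.zero_le _) h4
  have h5 : Gc * (v + 2) ≤ m * X * (v + 2) := Nat.mul_le_mul_right _ hG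
  have h6 : α ≤ α * c ^ 2 := Nat.le_mul_of_pos_right _ (Nat.pow_pos hc1)
  have h7 : X * c ^ 2 = α * c ^ 2 + x * c ^ 2 := by rw [hx]; ring
  have h8 : y * v ≤ Gc * v := Nat.mul_le_mul_right _ (by omega)
  have h9 : Gc * (v + 2) = Gc * v + 2 * Gc := by ring
  omega

end Cfsg.Agent.H62.TV
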