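import Cfsg.Agent.H62.TVI

/-!
Primitive modules: socle and action on chief factors (owner: helper62)
-/

set_option autoImplicit false
set_option linter.unusedSectionVars false
set_option linter.style.haveILetI false

namespace Cfsg.Agent.H62.TV

open scoped Pointwise
open MulAction
open Cfsg.Agent.H68.Hup

universe u v w

/-- minimal normal subgroups -/
structure MinN {Q : Type u} [Group Q] (M : Subgroup Q) : Prop where
  normal : M.Normal
  ne_bot : M ≠ ⊥
  min : ∀ K : Subgroup Q, K.Normal → K ≤ M → K = ⊥ ∨ K = M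

theorem exists_MinN {Q : Type u} [Group Q] [Finite Q] (N : Subgroup Q) [hN : N.Normal]
    (h : N ≠ ⊥) : ∃ M : Subgroup Q, MinN M ∧ M ≤ N := by
  obtain ⟨M, h1, h2, h3, h4⟩ := Solv.exists_minimal_normal N hN h
  exact ⟨M, ⟨h1, h3, h4⟩, h2⟩

theorem MinN.comm {Q : Type u} [Group Q] [Finite Q] (hsol : Group.IsSolvable Q) {M : Subgroup Q}
    (hM : MinN M) : ∀ a ∈ M, ∀ b ∈ M, a * b = b * a := by
  haveI := hM.normal
  have hsM : Group.IsSolvable M := inferInstance
  obtain ⟨h1, -⟩ := Solv.minimal_normal_of_solvable M hsM hM.ne_bot hM.min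
  intro a ha b hb
  exact Solv.comm_of_isMulCommutative h1 ha hb

theorem exists_soc {Q : Type u} [Group Q] [Finite Q] (hsol : Group.IsSolvable Q)
    (N : Subgroup Q) : ∃ S : Subgroup Q, S.Normal ∧ S ≤ N ∧
      (∀ a ∈ S, ∀ b ∈ S, a * b = b * a) ∧
      (∀ U : Subgroup Q, U.Normal → U ≤ S →
        ∃ W : Subgroup Q, W.Normal ∧ W ≤ S ∧ U ⊓ W = ⊥ ∧ U ⊔ W = S) ∧
      (∀ M : Subgroup Q, MinN M → M ≤ N → M ≤ S) := by
  set S : Subgroup Q := sSup {M | MinN M ∧ M ≤ N} with hS
  have hSn : S.Normal := Subgroup.sSup_normal _ (fun M hM => hM.1.normal)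
  have hSN : S ≤ N := sSup_le (fun M hM => hM.2)
  have hMS : ∀ M : Subgroup Q, MinN M → M ≤ N → M ≤ S := fun M h1 h2 => le_sSup ⟨h1, h2⟩
  refine ⟨S, hSn, hSN, ?_, ?_, hMS⟩
  · have hpair : ∀ M1 M2 : Subgroup Q, MinN M1 → MinN M2 → ∀ a ∈ M1, ∀ b ∈ M2, a * b = b * a := by
      intro M1 M2 h1 h2 a ha b hb
      by_cases h : M1 = M2
      · subst h
        exact h1.comm hsol a ha b hb
      · have hd : M1 ⊓ M2 = ⊥ := by
          haveI := h1.normal
          haveI := h2.normal
          have hn : (M1 ⊓ M2).Normal := inferInstance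
          rcases h1.min _ hn inf_le_left with h3 | h3
          · exact h3
          · exfalso
            have h4 : M1 ≤ M2 := inf_eq_left.mp h3
            rcases h2.min _ h1.normal h4 with h5 | h5
            · exact h1.ne_bot h5
            · exact h h5
        exact Subgroup.commute_of_normal_of_disjoint M1 M2 h1.normal h2.normal
          (disjoint_iff.mpr hd) a b ha hb
    have h1 : S ≤ Subgroup.centralizer (S : Set Q) := by
      apply sSup_le
      rintro M ⟨hM, -⟩ a ha
      rw [Subgroup.mem_centralizer_iff]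
      have h2 : S ≤ Subgroup.centralizer ({a} : Set Q) := by
        apply sSup_le
        rintro M' ⟨hM', -⟩ b hb
        rw [Subgroup.mem_centralizer_iff]
        rintro c hc
        rw [Set.mem_singleton_iff.mp hc]
        exact hpair M M' hM hM' a ha b hb
      intro b hb
      have h3 := (Subgroup.mem_centralizer_iff.mp (h2 hb)) a rfl
      exact h3.symm
    intro a ha b hb
    exact Subgroup.mem_centralizer_iff.mp (h1 hb) a ha
  · intro U hU hUS
    obtain ⟨W, hW⟩ := (Set.toFinite {W : Subgroup Q | W.Normal ∧ W ≤ S ∧ U ⊓ W = ⊥}).exists_maximal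
      ⟨⊥, inferInstance, bot_le, by simp⟩
    obtain ⟨hWn, hWS, hUW⟩ := hW.prop
    refine ⟨W, hWn, hWS, hUW, le_antisymm (sup_le hUS hWS) ?_⟩
    by_contra hne
    have h1 : ∃ M : Subgroup Q, MinN M ∧ M ≤ N ∧ ¬ M ≤ U ⊔ W := by
      by_contra h
      push Not at h
      exact hne (sSup_le (fun M hM => h M hM.1 hM.2))
    obtain ⟨M, hM, hMN, hMUW⟩ := h1
    haveI := hM.normal
    have hUWn : (U ⊔ W).Normal := inferInstance
    have hd : M ⊓ (U ⊔ W) = ⊥ := by
      have hn : (M ⊓ (U ⊔ W)).Normal := inferInstance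
      rcases hM.min _ hn inf_le_left with h3 | h3
      · exact h3
      · exact absurd (inf_eq_left.mp h3) hMUW
    have hn2 : (W ⊔ M).Normal := inferInstance
    have h2 : U ⊓ (W ⊔ M) = ⊥ := by
      rw [eq_bot_iff]
      rintro x ⟨hx1, hx2⟩
      have hx3 : x ∈ W ⊔ M := hx2
      rw [Subgroup.mem_sup_of_normal_right] at hx3
      obtain ⟨w, hw, m, hm, hwm⟩ := hx3
      have h3 : m ∈ M ⊓ (U ⊔ W) := by
        refine ⟨hm, ?_⟩
        have : m = w⁻¹ * x := by rw [← hwm]; group
        rw [this]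
        exact (U ⊔ W).mul_mem ((U ⊔ W).inv_mem (Subgroup.mem_sup_right hw))
          (Subgroup.mem_sup_left hx1)
      rw [hd, Subgroup.mem_bot] at h3
      rw [h3, mul_one] at hwm
      have h4 : x ∈ U ⊓ W := ⟨hx1, hwm ▸ hw⟩
      rw [hUW] at h4
      exact h4
    have h3 := hW.le_of_ge ⟨hn2, sup_le hWS (hMS M hM hMN), h2⟩ le_sup_left
    exact hMUW ((le_sup_right.trans h3).trans le_sup_right)

section cj

variable {G : Type v} [Group G] {Q : Type u} [Group Q] (π : G →* Q) (M : Subgroup Q)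

/-- the commutative group structure -/
@[reducible] def cgM (hM : ∀ a ∈ M, ∀ b ∈ M, a * b = b * a) : CommGroup M :=
  { (inferInstance : Group M) with mul_comm := fun a b => Subtype.ext (hM _ a.2 _ b.2) }

/-- the conjugation action -/
@[reducible] def cjAct (hMn : M.Normal) (hM : ∀ a ∈ M, ∀ b ∈ M, a * b = b * a) :
    letI := cgM M hM
    DistribMulAction G (Additive M) :=
  letI := cgM M hM
  { smul := fun g t => Additive.ofMul (⟨π g * (Additive.toMul t : M) * (π g)⁻¹,
      hMn.conj_mem _ (Additive.toMul t).2 (π g)⟩ : M)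
    one_smul := fun t => Subtype.ext (by
      change π 1 * ((Additive.toMul t : M) : Q) * (π 1)⁻¹ = ((Additive.toMul t : M) : Q)
      rw [map_one]; group)
    mul_smul := fun a b t => Subtype.ext (by
      change π (a * b) * ((Additive.toMul t : M) : Q) * (π (a * b))⁻¹ =
        π a * (π b * ((Additive.toMul t : M) : Q) * (π b)⁻¹) * (π a)⁻¹
      rw [map_mul]; group)
    smul_zero := fun a => Subtype.ext (by
      change π a * 1 * (π a)⁻¹ = 1
      group)
    smul_add := fun a s t => Subtype.ext (by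
      change π a * (((Additive.toMul s : M) : Q) * ((Additive.toMul t : M) : Q)) * (π a)⁻¹ =
        (π a * ((Additive.toMul s : M) : Q) * (π a)⁻¹) *
          (π a * ((Additive.toMul t : M) : Q) * (π a)⁻¹)
      group) }

/-- the kernel of the action -/
def KM : Subgroup G := (Subgroup.centralizer (M : Set Q)).comap π

theorem mem_KM {g : G} : g ∈ KM π M ↔ ∀ s ∈ M, π g * s * (π g)⁻¹ = s := by
  change π g ∈ Subgroup.centralizer (M : Set Q) ↔ _
  rw [Subgroup.mem_centralizer_iff]
  constructor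
  · intro h s hs
    rw [← h s hs]; group
  · intro h s hs
    have := h s hs
    rw [mul_inv_eq_iff_eq_mul] at this
    exact this.symm

theorem chief_small [Finite G] [Finite Q] (hπ : Function.Surjective π)
    (hsol : Group.IsSolvable G) (hodd : Odd (Nat.card G)) (hMin : MinN M) :
    Nat.card M ≠ 9 ∧ (Nat.card M = 25 → (KM π M).index ≤ 6) ∧
      (Nat.card M = 49 → (KM π M).index ≤ 6) ∧ (Nat.card M = 81 → (KM π M).index ≤ 20) := by
  have hMn := hMin.normal
  have hsolQ : Group.IsSolvable Q := Group.isSolvable_of_surjective hπ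
  have hM := hMin.comm hsolQ
  letI cg := cgM M hM
  letI act := cjAct π M hMn hM
  haveI : Nontrivial M := (Subgroup.nontrivial_iff_ne_bot M).mpr hMin.ne_bot
  haveI : Nontrivial (Additive M) := this
  have hsm : ∀ (g : G) (x : Additive M), (((Additive.toMul (g • x) : M) : Q)) =
      π g * ((Additive.toMul x : M) : Q) * (π g)⁻¹ := fun _ _ => rfl
  have hirr : Irr G (Additive M) := by
    intro U hU
    let U' : Subgroup Q :=
      { carrier := {q | ∃ h : q ∈ M, Additive.ofMul (⟨q, h⟩ : M) ∈ U}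
        one_mem' := ⟨one_mem M, U.zero_mem⟩
        mul_mem' := by
          rintro a b ⟨ha, ha'⟩ ⟨hb, hb'⟩
          exact ⟨mul_mem ha hb, U.add_mem ha' hb'⟩
        inv_mem' := by
          rintro a ⟨ha, ha'⟩
          exact ⟨inv_mem ha, U.neg_mem ha'⟩ }
    have hU'n : U'.Normal := by
      constructor
      rintro a ⟨ha, ha'⟩ q
      obtain ⟨g, rfl⟩ := hπ q
      exact ⟨hMn.conj_mem _ ha _, hU g _ ha'⟩
    have hU'M : U' ≤ M := by
      rintro a ⟨ha, -⟩
      exact ha
    rcases hMin.min U' hU'n hU'M with h | h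
    · left
      rw [eq_bot_iff]
      intro x hx
      have h1 : ((Additive.toMul x : M) : Q) ∈ U' := ⟨(Additive.toMul x : M).2, hx⟩
      rw [h, Subgroup.mem_bot] at h1
      rw [AddSubgroup.mem_bot]
      exact Subtype.ext h1
    · right
      rw [eq_top_iff]
      intro x _
      have h1 : ((Additive.toMul x : M) : Q) ∈ U' := by rw [h]; exact (Additive.toMul x : M).2
      obtain ⟨_, h2⟩ := h1
      exact h2
  let φ : G →* (AddMonoid.End (Additive M))ˣ :=
    (DistribMulAction.toAddMonoidEnd G (Additive M)).toHomUnits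
  have hφ : ∀ (g : G) (x : Additive M), (⟨φ g, ⟨g, rfl⟩⟩ : φ.range) • x = g • x := fun _ _ => rfl
  have hker : φ.ker = KM π M := by
    ext g
    rw [MonoidHom.mem_ker, mem_KM]
    constructor
    · intro h s hs
      have h1 : φ g • (Additive.ofMul (⟨s, hs⟩ : M)) = Additive.ofMul (⟨s, hs⟩ : M) := by
        rw [h, one_smul]
      exact congrArg (fun y : Additive M => ((Additive.toMul y : M) : Q)) h1
    · intro h
      apply Units.ext
      apply AddMonoidHom.ext
      intro x
      exact Subtype.ext (h _ (Additive.toMul x : M).2)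
  have hidx : (KM π M).index = Nat.card φ.range := by rw [← hker, Subgroup.index_ker]
  have hirr' : Irr φ.range (Additive M) := by
    intro U hU
    exact hirr U (fun g x hx => hU ⟨φ g, ⟨g, rfl⟩⟩ x hx)
  have hodd' : Odd (Nat.card φ.range) :=
    odd_of_dvd' (Subgroup.card_dvd_of_surjective φ.rangeRestrict φ.rangeRestrict_surjective) hodd
  have hsol' : Group.IsSolvable φ.range := Group.isSolvable_of_surjective φ.rangeRestrict_surjective
  have hf : FaithV φ.range (Additive M) := by
    rintro ⟨_, ⟨g, rfl⟩⟩ h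
    apply Subtype.ext
    apply Units.ext
    apply AddMonoidHom.ext
    intro x
    exact h x
  haveI : Finite φ.range := Finite.of_surjective φ.rangeRestrict φ.rangeRestrict_surjective
  have h1 := small hsol' hodd' hf hirr'
  rw [hidx]
  exact h1

theorem p2_card {V : Type u} [AddCommGroup V] [Finite V] [DistribMulAction G V] [Finite G]
    (h : P2 G V) (K : Subgroup G) (hK : ∀ g : G, (∀ v : V, g • v = v) → g ∈ K) :
    2 * K.index ≤ Nat.card V ^ 2 := by
  obtain ⟨p, q, hp, hq, hpq⟩ := h
  have h1 : ∀ p : V × V, Fx G V p → K.index ≤ (orbit G p).ncard := by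
    intro p hp
    have h2 : stabilizer G p ≤ K := fun g hg => hK g (hp g hg)
    have h3 : K.index ≤ (stabilizer G p).index :=
      Nat.le_of_dvd (Nat.pos_of_ne_zero Subgroup.index_ne_zero_of_finite)
        (Subgroup.index_dvd_of_le h2)
    rwa [index_stabilizer] at h3
  have hdisj : Disjoint (orbit G p) (orbit G q) := by
    rw [Set.disjoint_left]
    rintro _ ⟨g, rfl⟩ ⟨h, hh⟩
    apply hpq (h⁻¹ * g)
    change h • q = g • p at hh
    rw [mul_smul, ← hh, inv_smul_smul]
  have h2 := Set.ncard_union_eq hdisj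
  have h3 : (orbit G p ∪ orbit G q).ncard ≤ Nat.card V ^ 2 := by
    rw [pow_two, ← Nat.card_prod, ← Set.ncard_univ]
    exact Set.ncard_le_ncard (Set.subset_univ _)
  have h4 := h1 p hp
  have h5 := h1 q hq
  omega

theorem soc_bound [Finite G] [Finite Q] (hπ : Function.Surjective π)
    (hodd : Odd (Nat.card G)) (hMn : M.Normal) (hM : ∀ a ∈ M, ∀ b ∈ M, a * b = b * a)
    (hM1 : M ≠ ⊥)
    (hcomp : ∀ U : Subgroup Q, U.Normal → U ≤ M →
        ∃ W : Subgroup Q, W.Normal ∧ W ≤ M ∧ U ⊓ W = ⊥ ∧ U ⊔ W = M) {n : ℕ}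
    (hIH : ∀ (V' : Type u) [AddCommGroup V'] [Finite V'] [Nontrivial V'],
      Nat.card V' < n → PV V') (hlt : Nat.card M < n) :
    2 * (KM π M).index ≤ Nat.card M ^ 2 := by
  letI cg := cgM M hM
  letI act := cjAct π M hMn hM
  haveI : Nontrivial M := (Subgroup.nontrivial_iff_ne_bot M).mpr hM1
  haveI : Nontrivial (Additive M) := this
  have hcr : CR G (Additive M) := by
    intro U hU
    let U' : Subgroup Q :=
      { carrier := {q | ∃ h : q ∈ M, Additive.ofMul (⟨q, h⟩ : M) ∈ U}
        one_mem' := ⟨one_mem M, U.zero_mem⟩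
        mul_mem' := by
          rintro a b ⟨ha, ha'⟩ ⟨hb, hb'⟩
          exact ⟨mul_mem ha hb, U.add_mem ha' hb'⟩
        inv_mem' := by
          rintro a ⟨ha, ha'⟩
          exact ⟨inv_mem ha, U.neg_mem ha'⟩ }
    have hU'n : U'.Normal := by
      constructor
      rintro a ⟨ha, ha'⟩ q
      obtain ⟨g, rfl⟩ := hπ q
      exact ⟨hMn.conj_mem _ ha _, hU g _ ha'⟩
    have hU'M : U' ≤ M := by
      rintro a ⟨ha, -⟩
      exact ha
    obtain ⟨W, hWn, hWM, h1, h2⟩ := hcomp U' hU'n hU'M
    let W' : AddSubgroup (Additive M) :=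
      { carrier := {x | ((Additive.toMul x : M) : Q) ∈ W}
        zero_mem' := one_mem W
        add_mem' := fun {a b} ha hb => W.mul_mem ha hb
        neg_mem' := fun {a} ha => W.inv_mem ha }
    refine ⟨W', fun g x hx => hWn.conj_mem _ hx (π g), ?_, ?_⟩
    · rw [eq_bot_iff]
      rintro x ⟨hx1, hx2⟩
      have h3 : ((Additive.toMul x : M) : Q) ∈ U' ⊓ W :=
        ⟨⟨(Additive.toMul x : M).2, hx1⟩, hx2⟩
      rw [h1, Subgroup.mem_bot] at h3
      rw [AddSubgroup.mem_bot]
      exact Subtype.ext h3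
    · rw [eq_top_iff]
      intro x _
      have h3 : ((Additive.toMul x : M) : Q) ∈ U' ⊔ W := by
        rw [h2]; exact (Additive.toMul x : M).2
      rw [Subgroup.mem_sup_of_normal_right] at h3
      obtain ⟨a, ⟨haM, ha⟩, b, hb, hab⟩ := h3
      rw [AddSubgroup.mem_sup]
      exact ⟨_, ha, Additive.ofMul (⟨b, hWM hb⟩ : M), hb, Subtype.ext hab⟩
  have h1 := p2_of_PV (hIH (Additive M) hlt) G hodd hcr
  apply p2_card (V := Additive M) h1
  intro g hg
  rw [mem_KM]
  intro s hs
  exact congrArg (fun y : Additive M => ((Additive.toMul y : M) : Q))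
    (hg (Additive.ofMul (⟨s, hs⟩ : M)))

end cj

end Cfsg.Agent.H62.TV
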