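import Cfsg.Agent.H62.TVJ

/-!
Primitive modules: the general case (owner: helper62)
-/

set_option autoImplicit false
set_option linter.unusedSectionVars false
set_option linter.style.haveILetI false

namespace Cfsg.Agent.H62.TV

open scoped Pointwise commutatorElement
open MulAction
open Cfsg.Agent.H68.Hup

universe u v w

theorem card_comap_mk {G : Type u} [Group G] [Finite G] (A : Subgroup G) [A.Normal]
    (M : Subgroup (G ⧸ A)) :
    Nat.card (M.comap (QuotientGroup.mk' A)) = Nat.card A * Nat.card M := by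
  have h1 := Subgroup.index_comap_of_surjective M (QuotientGroup.mk'_surjective A)
  have h2 := Subgroup.card_mul_index (M.comap (QuotientGroup.mk' A))
  have h3 := Subgroup.card_mul_index M
  have h4 := Subgroup.card_eq_card_quotient_mul_card_subgroup A
  rw [h1, h4, ← h3] at h2
  have h5 : M.index ≠ 0 := Subgroup.index_ne_zero_of_finite
  have h6 : Nat.card (M.comap (QuotientGroup.mk' A)) * M.index =
      (Nat.card A * Nat.card M) * M.index := by rw [h2]; ring
  exact Nat.eq_of_mul_eq_mul_right (Nat.pos_of_ne_zero h5) h6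

/-- arithmetic of a chief factor inside the centralizer -/
theorem chief_arith {G : Type u} [Group G] [Finite G] {V : Type u} [AddCommGroup V] [Finite V]
    [DistribMulAction G V] [Nontrivial V] {F : Type w} [Field F] [Finite F] [Module F V]
    {A : Subgroup G} (h : FD A F V) (hf : FaithV G V) (hodd : Odd (Nat.card G))
    (hsol : Group.IsSolvable G) (hA : MaxAb A) [A.Normal] {M : Subgroup (G ⧸ A)} (hM : MinN M)
    (hMC : M ≤ (Subgroup.centralizer (A : Set G)).map (QuotientGroup.mk' A)) :
    ∃ r j : ℕ, r.Prime ∧ 3 ≤ r ∧ r ∣ Nat.card F - 1 ∧ 1 ≤ j ∧ Nat.card M = r ^ (2 * j) ∧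
      25 ≤ Nat.card M := by
  set π := QuotientGroup.mk' A with hπdef
  have hπ : Function.Surjective π := QuotientGroup.mk'_surjective A
  have hker : π.ker = A := QuotientGroup.ker_mk' A
  have hsolQ : Group.IsSolvable (G ⧸ A) := Group.isSolvable_of_surjective hπ
  haveI := hM.normal
  have hsM : Group.IsSolvable M := inferInstance
  obtain ⟨hMc, r, hr, hMr⟩ := Solv.minimal_normal_of_solvable M hsM hM.ne_bot hM.min
  set C := Subgroup.centralizer (A : Set G) with hCdef
  have hAC : A ≤ C := by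
    intro a ha
    rw [hCdef, Subgroup.mem_centralizer_iff]
    intro b hb
    exact hA.comm b hb a ha
  set B := M.comap π with hB
  have hBC : B ≤ C := by
    intro b hb
    obtain ⟨c, hc, hcb⟩ := hMC hb
    have h4 : c⁻¹ * b ∈ A := by
      rw [← hker, MonoidHom.mem_ker, map_mul, map_inv, hcb, inv_mul_cancel]
    have h5 : b = c * (c⁻¹ * b) := by group
    rw [h5]
    exact C.mul_mem hc (hAC h4)
  have hAB : A ≤ B := by
    intro a ha
    rw [hB, Subgroup.mem_comap]
    have : π a = 1 := by rw [← MonoidHom.mem_ker, hker]; exact ha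
    rw [this]; exact M.one_mem
  have hcen : ∀ a ∈ A, ∀ b ∈ B, a * b = b * a := by
    intro a ha b hb
    exact Subgroup.mem_centralizer_iff.mp (hBC hb) a ha
  have hBn : B.Normal := hM.normal.comap π
  have hBD : BD A B r := by
    refine ⟨hAB, hcen, ?_, ?_, ?_⟩
    · intro b hb
      rw [← hker, MonoidHom.mem_ker, map_pow]
      exact hMr _ hb
    · intro b hb c hc
      rw [← hker, MonoidHom.mem_ker, map_commutatorElement, commutatorElement_eq_one_iff_mul_comm]
      exact Solv.comm_of_isMulCommutative hMc hb hc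
    · intro b hb hbc
      have h3 : (B ⊓ Subgroup.centralizer (B : Set G)).Normal := inferInstance
      apply hA.max _ h3
      · intro x hx y hy
        exact (Subgroup.mem_centralizer_iff.mp hx.2 y hy.1).symm
      · intro a ha
        refine ⟨hAB ha, ?_⟩
        change a ∈ Subgroup.centralizer _
        rw [Subgroup.mem_centralizer_iff]
        intro x hx
        exact (hcen a ha x hx).symm
      · refine ⟨hb, ?_⟩
        change b ∈ Subgroup.centralizer _
        rw [Subgroup.mem_centralizer_iff]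
        intro x hx
        exact (hbc x hx).symm
  have hBA : ¬ B ≤ A := by
    intro hle
    apply hM.ne_bot
    rw [eq_bot_iff]
    intro y hy
    obtain ⟨b, rfl⟩ := hπ y
    have h3 : b ∈ A := hle hy
    rw [Subgroup.mem_bot, ← MonoidHom.mem_ker, hker]
    exact h3
  haveI : Fact r.Prime := ⟨hr⟩
  have hcyc := h.isCyclic hf
  have hrA := hBD.r_dvd hBA
  have hr3 : 3 ≤ r := by
    have h1 := odd_of_dvd' (hrA.trans A.card_subgroup_dvd_card) hodd
    have h2 := hr.two_le
    obtain ⟨j, hj⟩ := h1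
    omega
  obtain ⟨j, hj⟩ := hBD.exists_card
  have hcardB : Nat.card B = Nat.card M * Nat.card A := by
    rw [hB, card_comap_mk, mul_comm]
  have hMj : Nat.card M = r ^ (2 * j) := by
    rw [hcardB] at hj
    exact Nat.eq_of_mul_eq_mul_right Nat.card_pos hj
  have hj0 : 1 ≤ j := by
    rcases Nat.eq_zero_or_pos j with h0 | h0
    · exfalso
      rw [h0, mul_zero, pow_zero] at hMj
      exact hM.ne_bot (Subgroup.card_eq_one.mp hMj)
    · exact h0
  refine ⟨r, j, hr, hr3, hrA.trans (h.card_dvd hf), hj0, hMj, ?_⟩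
  have hs := (chief_small π M hπ hsol hodd hM).1
  rw [hMj] at hs ⊢
  rcases Nat.lt_or_ge r 5 with h5 | h5
  · have hr3' : r = 3 := by
      interval_cases r
      · rfl
      · exact absurd hr (by norm_num)
    subst hr3'
    have hj2 : 2 ≤ j := by
      by_contra hcon
      have : j = 1 := by omega
      subst this
      exact hs (by norm_num)
    calc 25 ≤ 3 ^ 4 := by norm_num
      _ ≤ 3 ^ (2 * j) := Nat.pow_le_pow_right (by norm_num) (by omega)
  · calc 25 = 5 ^ 2 := by norm_num
      _ ≤ r ^ 2 := Nat.pow_le_pow_left h5 2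
      _ ≤ r ^ (2 * j) := Nat.pow_le_pow_right (by omega) (by omega)

theorem k_ge {r k : ℕ} (hr : r.Prime) (hr3 : 3 ≤ r) (hrk : r ∣ k - 1) (hk1 : 1 < k)
    (hk : ∃ p m : ℕ, p.Prime ∧ k = p ^ m) : 4 ≤ k ∧ (5 ≤ r → 8 ≤ k) := by
  have h1 : r ≤ k - 1 := Nat.le_of_dvd (by omega) hrk
  refine ⟨by omega, fun h5 => ?_⟩
  by_contra hcon
  push Not at hcon
  have hk6 : k = 6 ∨ k = 7 := by omega
  rcases hk6 with rfl | rfl
  · obtain ⟨p, m, hp, hpm⟩ := hk
    have h2 : p ∣ 6 := by
      rw [hpm]
      apply dvd_pow_self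
      rintro rfl
      norm_num at hpm
    have h3 : p ∣ 2 * 3 := by norm_num; exact h2
    have e2 : 2 ∣ p ^ m := by rw [← hpm]; norm_num
    have e3 : 3 ∣ p ^ m := by rw [← hpm]; norm_num
    have f2 := (Nat.prime_dvd_prime_iff_eq Nat.prime_two hp).mp (Nat.prime_two.dvd_of_dvd_pow e2)
    have f3 := (Nat.prime_dvd_prime_iff_eq Nat.prime_three hp).mp
      (Nat.prime_three.dvd_of_dvd_pow e3)
    omega
  · have h2 : r ∣ 6 := hrk
    have h3 : r ≤ 6 := by omega
    interval_cases r
    · exact absurd h2 (by norm_num)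
    · exact absurd hr (by norm_num)

theorem sq_ge {a b d : ℕ} (h : a ^ 2 ≤ b) (h' : b ≤ d ^ 2) : a ≤ d := by
  have := h.trans h'
  exact (Nat.pow_le_pow_iff_left (by norm_num)).mp this

theorem case_gen {G V : Type u} [Group G] [Finite G] [AddCommGroup V] [Finite V]
    [DistribMulAction G V] [Nontrivial V] {F : Type w} [Field F] [Finite F] [Module F V]
    {A : Subgroup G} (h : FD A F V) (hf : FaithV G V) (hodd : Odd (Nat.card G))
    (hsol : Group.IsSolvable G) (hA : MaxAb A)
    (hCA : ¬ Subgroup.centralizer (A : Set G) ≤ A)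
    (hIH : ∀ (V' : Type u) [AddCommGroup V'] [Finite V'] [Nontrivial V'],
      Nat.card V' < Nat.card V → PV V') : P2 G V := by
  classical
  haveI := hA.normal
  set π := QuotientGroup.mk' A with hπdef
  have hπ : Function.Surjective π := QuotientGroup.mk'_surjective A
  have hker : π.ker = A := QuotientGroup.ker_mk' A
  have hsolQ : Group.IsSolvable (G ⧸ A) := Group.isSolvable_of_surjective hπ
  set C := Subgroup.centralizer (A : Set G) with hCdef
  have hCn : C.Normal := inferInstance
  have hAC : A ≤ C := by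
    intro a ha
    rw [hCdef, Subgroup.mem_centralizer_iff]
    intro b hb
    exact hA.comm b hb a ha
  have hNn : (C.map π).Normal := hCn.map π hπ
  obtain ⟨S, hSn, hSN, hSc, hScomp, hSmin⟩ := exists_soc hsolQ (C.map π)
  have hNne : C.map π ≠ ⊥ := by
    intro h0
    apply hCA
    rw [Subgroup.map_eq_bot_iff, hker] at h0
    exact h0
  have hS1 : S ≠ ⊥ := by
    obtain ⟨M, hM, hMN⟩ := exists_MinN (C.map π) hNne
    intro h0
    have h1 := hSmin M hM hMN
    rw [h0, le_bot_iff] at h1
    exact hM.ne_bot h1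
  have hlift : ∀ Z : Subgroup G, A ≤ Z → ∀ b : G, π b ∈ Z.map π → b ∈ Z := by
    intro Z hZ b hb
    obtain ⟨c, hc, hcb⟩ := hb
    have h4 : c⁻¹ * b ∈ A := by
      rw [← hker, MonoidHom.mem_ker, map_mul, map_inv, hcb, inv_mul_cancel]
    have h5 : b = c * (c⁻¹ * b) := by group
    rw [h5]
    exact Z.mul_mem hc (hZ h4)
  set E := S.comap π with hE
  have hEn : E.Normal := hSn.comap π
  have hAcomap : ∀ M : Subgroup (G ⧸ A), A ≤ M.comap π := by
    intro M a ha
    rw [Subgroup.mem_comap]
    have : π a = 1 := by rw [← MonoidHom.mem_ker, hker]; exact ha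
    rw [this]; exact M.one_mem
  have hAE : A ≤ E := hAcomap S
  have hEC : E ≤ C := fun b hb => hlift C hAC b (hSN hb)
  have hcenC : ∀ a ∈ A, ∀ b ∈ C, a * b = b * a := fun a ha b hb =>
    Subgroup.mem_centralizer_iff.mp hb a ha
  -- the centralizer of `E`
  have hcE : Subgroup.centralizer (E : Set G) ≤ A := by
    by_contra hcon
    set Z := Subgroup.centralizer (E : Set G) with hZ
    have hZn : Z.Normal := inferInstance
    have hAZ : A ≤ Z := by
      intro a ha
      rw [hZ, Subgroup.mem_centralizer_iff]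
      intro e he
      exact (hcenC a ha e (hEC he)).symm
    have hZC : Z ≤ C := by
      intro z hz
      rw [hCdef, Subgroup.mem_centralizer_iff]
      intro a ha
      exact Subgroup.mem_centralizer_iff.mp hz a (hAE ha)
    have hZmn : (Z.map π).Normal := hZn.map π hπ
    have hZne : Z.map π ≠ ⊥ := by
      intro h0
      apply hcon
      rw [Subgroup.map_eq_bot_iff, hker] at h0
      exact h0
    obtain ⟨M, hM, hMZ⟩ := exists_MinN (Z.map π) hZne
    have hMS : M ≤ S := hSmin M hM (hMZ.trans (Subgroup.map_mono hZC))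
    have hBZ : M.comap π ≤ Z := fun b hb => hlift Z hAZ b (hMZ hb)
    have hBE : M.comap π ≤ E := Subgroup.comap_mono hMS
    have hBn : (M.comap π).Normal := hM.normal.comap π
    have hBA := hA.max (M.comap π) hBn (fun x hx y hy =>
      (Subgroup.mem_centralizer_iff.mp (hBZ hx) y (hBE hy)).symm) (hAcomap M)
    apply hM.ne_bot
    rw [eq_bot_iff]
    intro y hy
    obtain ⟨b, rfl⟩ := hπ y
    have h3 : b ∈ A := hBA hy
    rw [Subgroup.mem_bot, ← MonoidHom.mem_ker, hker]
    exact h3
  set n := Nat.card G with hn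
  have hpw : ∀ b : G, b ^ n ∈ A := by
    intro b
    rw [hn, pow_card_eq_one']
    exact A.one_mem
  have hEab : ∀ b ∈ E, ∀ c ∈ E, ⁅b, c⁆ ∈ A := by
    intro b hb c hc
    rw [← hker, MonoidHom.mem_ker, map_commutatorElement, commutatorElement_eq_one_iff_mul_comm]
    exact hSc _ hb _ hc
  have hBDE : BD A E n := by
    refine ⟨hAE, fun a ha b hb => hcenC a ha b (hEC hb), fun b _ => hpw b, hEab, ?_⟩
    intro b hb hbc
    apply hcE
    rw [Subgroup.mem_centralizer_iff]
    intro c hc
    exact (hbc c hc).symm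
  set K := KM π S with hK
  have hKn : K.Normal := by
    have : (Subgroup.centralizer (S : Set (G ⧸ A))).Normal := inferInstance
    exact this.comap π
  have hKE : ∀ g : G, g ∈ K ↔ ∀ e ∈ E, ⁅g, e⁆ ∈ A := by
    intro g
    rw [hK, mem_KM]
    constructor
    · intro h1 e he
      rw [← hker, MonoidHom.mem_ker, map_commutatorElement, commutatorElement_def, h1 _ he,
        mul_inv_cancel]
    · intro h1 s hs
      obtain ⟨e, rfl⟩ := hπ s
      have h2 := h1 e hs
      rw [← hker, MonoidHom.mem_ker, map_commutatorElement, commutatorElement_def,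
        mul_inv_eq_one] at h2
      exact h2
  set D := C ⊓ K with hD
  have hED : E ≤ D := by
    intro e he
    exact ⟨hEC he, (hKE e).mpr (fun e' he' => hEab e he e' he')⟩
  have hDE : ⁅⁅D, E⁆, D⁆ = ⊥ := by
    have h1 : ⁅D, E⁆ ≤ A := by
      rw [Subgroup.commutator_le]
      intro d hd e he
      exact (hKE d).mp hd.2 e he
    have h2 : ⁅⁅D, E⁆, D⁆ ≤ ⁅A, D⁆ := Subgroup.commutator_mono h1 le_rfl
    have h3 : ⁅A, D⁆ = ⊥ := by
      rw [eq_bot_iff, Subgroup.commutator_le]
      intro a ha d hd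
      rw [Subgroup.mem_bot, commutatorElement_eq_one_iff_mul_comm]
      exact hcenC a ha d hd.1
    rw [eq_bot_iff, ← h3]
    exact h2
  have hDDE : ⁅⁅D, D⁆, E⁆ = ⊥ := by
    apply Subgroup.commutator_commutator_eq_bot_of_rotate
    · exact hDE
    · rw [Subgroup.commutator_comm E D]
      exact hDE
  have hBDD : BD A D n := by
    refine ⟨hAE.trans hED, fun a ha b hb => hcenC a ha b hb.1, fun b _ => hpw b, ?_, ?_⟩
    · intro b hb c hc
      apply hcE
      have h1 : ⁅D, D⁆ ≤ Subgroup.centralizer (E : Set G) :=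
        Subgroup.commutator_eq_bot_iff_le_centralizer.mp hDDE
      exact h1 (Subgroup.commutator_mem_commutator hb hc)
    · intro b hb hbc
      apply hcE
      rw [Subgroup.mem_centralizer_iff]
      intro c hc
      exact (hbc c (hED hc)).symm
  -- numbers
  obtain ⟨p, m, hp, hm0, hm⟩ := exists_pm F
  haveI : Fact p.Prime := ⟨hp⟩
  have hk1 : 1 < Nat.card F := Finite.one_lt_card
  have hvk := card_V_eq (F := F) (V := V)
  have hGle := card_G_le h hf hm
  have hD2 := h.card_le_sq hf hBDD
  have hE2 := h.card_le_sq hf hBDE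
  have hAk : Nat.card A ≤ Nat.card F - 1 := Nat.le_of_dvd (by omega) (h.card_dvd hf)
  have hmk : 2 ^ m ≤ Nat.card F := by
    rw [hm]; exact Nat.pow_le_pow_left hp.two_le m
  set k := Nat.card F with hk
  set δ := Module.finrank F V with hδ
  have hq : Nat.card S ≤ δ ^ 2 := by
    rw [hE, card_comap_mk, mul_comm] at hE2
    exact Nat.le_of_mul_le_mul_right hE2 Nat.card_pos
  have hkpm : ∃ p m : ℕ, p.Prime ∧ k = p ^ m := ⟨p, m, hp, hm⟩
  obtain ⟨M, hM, hMS⟩ := exists_MinN S hS1
  obtain ⟨r, j, hr, hr3, hrk, hj1, hMcard, hM25⟩ :=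
    chief_arith h hf hodd hsol hA hM (hMS.trans hSN)
  obtain ⟨hk4, hk8⟩ := k_ge hr hr3 hrk hk1 hkpm
  have hδV : δ ^ 2 < Nat.card V := by
    rw [hvk]
    calc δ ^ 2 < (2 ^ δ) ^ 2 := Nat.pow_lt_pow_left Nat.lt_two_pow_self (by norm_num)
      _ = 4 ^ δ := by rw [← pow_mul, mul_comm, pow_mul]; norm_num
      _ ≤ k ^ δ := Nat.pow_le_pow_left hk4 δ
  have hyq := soc_bound π S hπ hodd hSn hSc hS1 hScomp hIH (lt_of_le_of_lt hq hδV)
  rw [← hK] at hyq
  set y := K.index with hy
  set q := Nat.card S with hqdef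
  have htri : 5 ≤ δ ∧ ((y ≤ 6 ∧ 8 ≤ k ∧ 5 ≤ δ) ∨ (y ≤ 20 ∧ 4 ≤ k ∧ 9 ≤ δ) ∨
      (2 * y ≤ q ^ 2 ∧ ((8 ≤ k ∧ 11 ≤ δ) ∨ (4 ≤ k ∧ 27 ≤ δ)))) := by
    by_cases hSM : M = S
    · have hqM : q = r ^ (2 * j) := by rw [hqdef, ← hSM, hMcard]
      have hsm := chief_small π S hπ hsol hodd (hSM ▸ hM)
      rw [← hK, ← hy, ← hqdef] at hsm
      have hq25 : 25 ≤ q := by rw [hqdef, ← hSM]; exact hM25
      have hδ5 : 5 ≤ δ := sq_ge (a := 5) (by omega) hq
      refine ⟨hδ5, ?_⟩
      rcases Nat.lt_or_ge r 5 with h5 | h5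
      · have hr3' : r = 3 := by
          interval_cases r
          · rfl
          · exact absurd hr (by norm_num)
        rw [hr3'] at hqM
        rcases Nat.lt_or_ge j 2 with hj | hj
        · exfalso
          have : j = 1 := by omega
          rw [this] at hqM
          omega
        rcases Nat.lt_or_ge j 3 with hj' | hj'
        · have : j = 2 := by omega
          rw [this] at hqM
          have hq81 : q = 81 := by rw [hqM]; norm_num
          right; left
          exact ⟨hsm.2.2.2 hq81, hk4, sq_ge (a := 9) (by rw [hq81]; norm_num) hq⟩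
        · have hq729 : 27 ^ 2 ≤ q := by
            rw [hqM]
            calc 27 ^ 2 = 3 ^ (2 * 3) := by norm_num
              _ ≤ 3 ^ (2 * j) := Nat.pow_le_pow_right (by norm_num) (by omega)
          right; right
          exact ⟨hyq, Or.inr ⟨hk4, sq_ge hq729 hq⟩⟩
      · have hk8' := hk8 h5
        rcases Nat.lt_or_ge j 2 with hj | hj
        · have hj1' : j = 1 := by omega
          rw [hj1', mul_one] at hqM
          rcases Nat.lt_or_ge r 11 with h11 | h11
          · have hr57 : r = 5 ∨ r = 7 := by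
              interval_cases r
              · left; rfl
              · exact absurd hr (by norm_num)
              · right; rfl
              · exact absurd hr (by norm_num)
              · exact absurd hr (by norm_num)
              · exact absurd hr (by norm_num)
            left
            rcases hr57 with rfl | rfl
            · exact ⟨hsm.2.1 hqM, hk8', hδ5⟩
            · exact ⟨hsm.2.2.1 hqM, hk8', hδ5⟩
          · right; right
            refine ⟨hyq, Or.inl ⟨hk8', sq_ge (a := 11) ?_ hq⟩⟩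
            rw [hqM]
            exact Nat.pow_le_pow_left h11 2
        · right; right
          refine ⟨hyq, Or.inl ⟨hk8', sq_ge (a := 11) ?_ hq⟩⟩
          rw [hqM]
          calc 11 ^ 2 ≤ 5 ^ 4 := by norm_num
            _ ≤ r ^ 4 := Nat.pow_le_pow_left h5 4
            _ ≤ r ^ (2 * j) := Nat.pow_le_pow_right (by omega) (by omega)
    · obtain ⟨W, hWn, hWS, hMW, hMW'⟩ := hScomp M hM.normal hMS
      have hW1 : W ≠ ⊥ := by
        rintro rfl
        exact hSM (by simpa using hMW')
      obtain ⟨M', hM', hM'W⟩ := exists_MinN W hW1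
      obtain ⟨r', j', hr', hr3', hrk', hj1', hMcard', hM25'⟩ :=
        chief_arith h hf hodd hsol hA hM' ((hM'W.trans hWS).trans hSN)
      obtain ⟨-, hk8'⟩ := k_ge hr' hr3' hrk' hk1 hkpm
      have hprod : Nat.card M * Nat.card M' ≤ q := by
        rw [← Nat.card_prod]
        apply Nat.card_le_card_of_injective (fun x : M × M' =>
          (⟨(x.1 : G ⧸ A) * (x.2 : G ⧸ A), S.mul_mem (hMS x.1.2)
            (hWS (hM'W x.2.2))⟩ : S))
        rintro ⟨a, b⟩ ⟨c, d⟩ hx
        have h1 : (a : G ⧸ A) * (b : G ⧸ A) = (c : G ⧸ A) * (d : G ⧸ A) :=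
          congrArg (fun z : S => (z : G ⧸ A)) hx
        have h2 : (c : G ⧸ A)⁻¹ * a = (d : G ⧸ A) * (b : G ⧸ A)⁻¹ := by
          rw [inv_mul_eq_iff_eq_mul, ← mul_assoc, ← h1, mul_inv_cancel_right]
        have h3 : (c : G ⧸ A)⁻¹ * a ∈ M ⊓ W := by
          refine ⟨M.mul_mem (M.inv_mem c.2) a.2, ?_⟩
          change (c : G ⧸ A)⁻¹ * a ∈ W
          rw [h2]
          exact W.mul_mem (hM'W d.2) (W.inv_mem (hM'W b.2))
        rw [hMW, Subgroup.mem_bot] at h3
        have h4 : (a : G ⧸ A) = c := (inv_mul_eq_one.mp h3).symm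
        rw [h3] at h2
        have h5 : (d : G ⧸ A) = b := mul_inv_eq_one.mp h2.symm
        exact Prod.ext (Subtype.ext h4) (Subtype.ext h5.symm)
      have hq625 : 25 ^ 2 ≤ q := by
        calc 25 ^ 2 = 25 * 25 := by norm_num
          _ ≤ Nat.card M * Nat.card M' := Nat.mul_le_mul hM25 hM25'
          _ ≤ q := hprod
      have hδ25 : 25 ≤ δ := sq_ge hq625 hq
      refine ⟨by omega, Or.inr (Or.inr ⟨hyq, ?_⟩)⟩
      rcases Nat.lt_or_ge r 5 with h5 | h5
      · rcases Nat.lt_or_ge r' 5 with h5' | h5'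
        · right
          refine ⟨hk4, ?_⟩
          have e1 : r = 3 := by
            interval_cases r
            · rfl
            · exact absurd hr (by norm_num)
          have e2 : r' = 3 := by
            interval_cases r'
            · rfl
            · exact absurd hr' (by norm_num)
          have f : ∀ j : ℕ, 25 ≤ 3 ^ (2 * j) → 27 ≤ 3 ^ (2 * j) := by
            intro j hj
            rcases Nat.lt_or_ge j 2 with hj2 | hj2
            · interval_cases j <;> norm_num at hj
            · calc 27 ≤ 3 ^ 4 := by norm_num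
                _ ≤ 3 ^ (2 * j) := Nat.pow_le_pow_right (by norm_num) (by omega)
          have g1 : 27 ≤ Nat.card M := by
            rw [hMcard, e1] at hM25 ⊢
            exact f j hM25
          have g2 : 27 ≤ Nat.card M' := by
            rw [hMcard', e2] at hM25' ⊢
            exact f j' hM25'
          apply sq_ge (a := 27) _ hq
          calc 27 ^ 2 = 27 * 27 := by norm_num
            _ ≤ Nat.card M * Nat.card M' := Nat.mul_le_mul g1 g2
            _ ≤ q := hprod
        · left
          exact ⟨hk8' h5', by omega⟩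
      · left
        exact ⟨hk8 h5, by omega⟩
  obtain ⟨hδ5, htri⟩ := htri
  -- the order of `C`
  have hCle : Nat.card C ≤ y * Nat.card D := by
    have h1 := Subgroup.card_mul_index (K.subgroupOf C)
    have h2 : (K.subgroupOf C).index ≤ y :=
      Nat.le_of_dvd (Nat.pos_of_ne_zero Subgroup.index_ne_zero_of_finite)
        (Subgroup.relIndex_dvd_index_of_normal K C)
    have h3 : Nat.card (K.subgroupOf C) = Nat.card D := by
      have h4 : K.subgroupOf C = D.subgroupOf C := by
        ext x
        rw [Subgroup.mem_subgroupOf, Subgroup.mem_subgroupOf]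
        exact ⟨fun h => ⟨x.2, h⟩, fun h => h.2⟩
      rw [h4]
      exact Nat.card_congr (Subgroup.subgroupOfEquivOfLe inf_le_left).toEquiv
    rw [← h1, h3, mul_comm]
    exact Nat.mul_le_mul_right _ h2
  have hX : Nat.card C ≤ y * δ ^ 2 * (k - 1) := by
    calc Nat.card C ≤ y * Nat.card D := hCle
      _ ≤ y * (δ ^ 2 * Nat.card A) := Nat.mul_le_mul_left _ hD2
      _ ≤ y * (δ ^ 2 * (k - 1)) := by gcongr
      _ = _ := by ring
  have hXX := numX hX hq htri
  rw [← hvk] at hXX
  set v := Nat.card V with hv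
  have hv1024 : 1024 ≤ v := by
    rw [hvk]
    calc 1024 = 4 ^ 5 := by norm_num
      _ ≤ k ^ 5 := Nat.pow_le_pow_left hk4 5
      _ ≤ k ^ δ := Nat.pow_le_pow_right (by omega) hδ5
  have hv32 : 32 ^ m ≤ v := by
    rw [hvk]
    calc 32 ^ m = (2 ^ m) ^ 5 := by rw [← pow_mul, mul_comm, pow_mul]; norm_num
      _ ≤ k ^ 5 := Nat.pow_le_pow_left hmk 5
      _ ≤ k ^ δ := Nat.pow_le_pow_right (by omega) hδ5
  have hm54 := num_m hv1024 hv32
  -- fixed spaces
  let c := Nat.findGreatest (fun c => c ^ 3 ≤ v ^ 2) (v ^ 2)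
  have hc3 : c ^ 3 ≤ v ^ 2 := by
    have := Nat.findGreatest_spec (P := fun c => c ^ 3 ≤ v ^ 2) (m := 0) (n := v ^ 2)
      (Nat.zero_le _) (by norm_num)
    exact this
  have hcm : ∀ d : ℕ, d ^ 3 ≤ v ^ 2 → d ≤ c := by
    intro d hd3
    exact Nat.le_findGreatest (P := fun c => c ^ 3 ≤ v ^ 2)
      ((Nat.le_self_pow (by norm_num) d).trans hd3) hd3
  have hc1 : 1 ≤ c := hcm 1 (by rw [one_pow]; exact Nat.one_le_pow _ _ (by omega))
  have hfixA : ∀ g ∈ A, g ≠ 1 → Nat.card (fixG V g) = 1 := by
    intro g hg hg1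
    rw [fix_A h hf hg hg1, AddSubgroup.card_bot]
  have hfixE : ∀ g ∈ E, g ∉ A → Nat.card (fixG V g) ^ 3 ≤ v := by
    intro g hg hgA
    have h1 : ∃ x ∈ E, g * x ≠ x * g := by
      by_contra hcon
      push Not at hcon
      exact hgA (hBDE.nd g hg hcon)
    obtain ⟨x, hx, hgx⟩ := h1
    have hz : ⁅x, g⁆ ∈ A := hEab x hx g hg
    have hz1 : ⁅x, g⁆ ≠ 1 := by
      intro h0
      exact hgx (commutatorElement_eq_one_iff_mul_comm.mp h0).symm
    have hz2 : ⁅x, g⁆ * ⁅x, g⁆ ≠ 1 := by
      intro h0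
      exact inv_ne_self hodd hz1 (inv_eq_of_mul_eq_one_left h0)
    apply fix_three g x ⁅x, g⁆
    · simp only [commutatorElement_def]; group
    · exact hcenC _ hz x (hEC hx)
    · exact hcenC _ hz g (hEC hg)
    · exact fix_A h hf hz hz1
    · exact fix_A h hf (A.mul_mem hz hz) hz2
  obtain ⟨x, hx⟩ : ∃ x, Nat.card C = Nat.card A + x :=
    ⟨Nat.card C - Nat.card A, by
      have := Nat.card_le_card_of_injective _ (Subgroup.inclusion_injective hAC)
      omega⟩
  obtain ⟨z, hz⟩ : ∃ z, Nat.card G = Nat.card C + z :=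
    ⟨Nat.card G - Nat.card C, by
      have := Nat.card_le_card_of_injective _ C.subtype_injective
      omega⟩
  apply count' hodd A C hAC (c ^ 2) v x z hx hz hfixA
  · intro g hgC hgA
    apply Nat.pow_le_pow_left
    apply hcm
    have hpos : 0 < Nat.card (fixG V g) := Nat.card_pos
    by_cases hgK : g ∈ K
    · have h1 : ∃ e ∈ E, e * g ≠ g * e := by
        by_contra hcon
        push Not at hcon
        exact hgA (hcE (Subgroup.mem_centralizer_iff.mpr hcon))
      obtain ⟨e, he, heg⟩ := h1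
      have h2 := (hKE g).mp hgK e he
      have h3 : e * g * e⁻¹ * g⁻¹ ∈ A := by
        have : e * g * e⁻¹ * g⁻¹ = (⁅g, e⁆)⁻¹ := by simp only [commutatorElement_def]; group
        rw [this]; exact A.inv_mem h2
      have h4 : e * g * e⁻¹ * g⁻¹ ≠ 1 := by
        intro h0
        exact heg (mul_inv_eq_iff_eq_mul.mp (mul_inv_eq_one.mp h0))
      have h5 := fix_comm (V := V) g e
      rw [hfixA _ h3 h4, mul_one] at h5
      calc Nat.card (fixG V g) ^ 3 ≤ Nat.card (fixG V g) ^ 4 :=
            Nat.pow_le_pow_right hpos (by norm_num)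
        _ = (Nat.card (fixG V g) ^ 2) ^ 2 := by ring
        _ ≤ v ^ 2 := Nat.pow_le_pow_left h5 2
    · have h1 : ∃ e ∈ E, ⁅g, e⁆ ∉ A := by
        by_contra hcon
        push Not at hcon
        exact hgK ((hKE g).mpr hcon)
      obtain ⟨e, he, heg⟩ := h1
      have h3 : e * g * e⁻¹ * g⁻¹ ∉ A := by
        intro h0
        apply heg
        have : ⁅g, e⁆ = (e * g * e⁻¹ * g⁻¹)⁻¹ := by simp only [commutatorElement_def]; group
        rw [this]; exact A.inv_mem h0
      have h4 : e * g * e⁻¹ * g⁻¹ ∈ E := by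
        have : e * g * e⁻¹ * g⁻¹ = e * (g * e⁻¹ * g⁻¹) := by group
        rw [this]
        exact E.mul_mem he (hEn.conj_mem _ (E.inv_mem he) g)
      have h5 := fix_comm (V := V) g e
      have h6 := hfixE _ h4 h3
      have h7 : (Nat.card (fixG V g) ^ 3) ^ 2 ≤ (v ^ 2) ^ 2 := by
        calc (Nat.card (fixG V g) ^ 3) ^ 2 = (Nat.card (fixG V g) ^ 2) ^ 3 := by ring
          _ ≤ (v * Nat.card (fixG V (e * g * e⁻¹ * g⁻¹))) ^ 3 := Nat.pow_le_pow_left h5 3
          _ = v ^ 3 * Nat.card (fixG V (e * g * e⁻¹ * g⁻¹)) ^ 3 := by ring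
          _ ≤ v ^ 3 * v := Nat.mul_le_mul_left _ h6
          _ = _ := by ring
      exact (Nat.pow_le_pow_iff_left (by norm_num)).mp h7
  · intro g hg
    exact fix_notC h hf hg
  · exact num_final hXX hGle hm54 hv1024 hc3 hc1 hx hz

end Cfsg.Agent.H62.TV
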