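import Cfsg.Agent.H62.TVK

/-!
Groups of odd order: two vectors with trivial common stabilizer (owner: helper62)
-/

set_option autoImplicit false
set_option linter.unusedSectionVars false
set_option linter.style.haveILetI false

namespace Cfsg.Agent.H62.TV

open scoped Pointwise
open MulAction
open Cfsg.Agent.H68.Hup

universe u v w

theorem PV_all (hFT : FTH.{u}) : ∀ (n : ℕ) (V : Type u) [AddCommGroup V] [Finite V]
    [Nontrivial V], Nat.card V = n → PV V := by
  intro n
  induction n using Nat.strong_induction_on with
  | _ n ih =>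
  intro V _ _ _ hn G hodd hcr
  have hIH : ∀ (V' : Type u) [AddCommGroup V'] [Finite V'] [Nontrivial V'],
      Nat.card V' < Nat.card V → PV V' := by
    intro V' _ _ _ h
    rw [hn] at h
    exact ih _ h V' rfl
  haveI hE : Finite (AddMonoid.End V) := finite_End
  haveI : Finite (AddMonoid.End V)ˣ := Finite.of_injective (fun x => (x : AddMonoid.End V))
    (fun _ _ h => Units.ext h)
  haveI : Finite G := inferInstance
  have hsol : Group.IsSolvable G := hFT G hodd
  have hf : FaithV G V := by
    intro g h
    apply Subtype.ext
    apply Units.ext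
    apply AddMonoidHom.ext
    intro x
    exact h x
  by_cases hirr : Irr G V
  · by_cases hprim : Prim G V
    · obtain ⟨A, hA⟩ := exists_maxAb G
      haveI := hA.normal
      obtain ⟨F, i1, i2, i3, h⟩ := exists_FD_prim (V := V) hprim hA.comm
      by_cases hCA : Subgroup.centralizer (A : Set G) ≤ A
      · apply case_CA h hf hodd
        apply le_antisymm hCA
        intro a ha
        rw [Subgroup.mem_centralizer_iff]
        intro b hb
        exact hA.comm b hb a ha
      · exact case_gen h hf hodd hsol hA hCA hIH
    · unfold Prim at hprim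
      push Not at hprim
      obtain ⟨W, hW1, hind, hW2⟩ := hprim
      exact step_imp hFT hIH hodd hirr hW1 hW2 hind
  · unfold Irr at hirr
    push Not at hirr
    obtain ⟨U, hU, hU1, hU2⟩ := hirr
    exact step_red hIH hodd hcr U hU hU1 hU2

theorem two_vectors (hFT : FTH.{u}) {A : Type v} {V : Type u} [Group A] [Finite A]
    [AddCommGroup V] [Finite V] [DistribMulAction A V] [FaithfulSMul A V] (hA : Odd (Nat.card A))
    (hcr : CR A V) : ∃ v w : V, ∀ a : A, a • v = v → a • w = w → a = 1 := by
  rcases subsingleton_or_nontrivial V with hs | hs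
  · refine ⟨0, 0, fun a _ _ => ?_⟩
    apply eq_of_smul_eq_smul (α := V)
    intro x
    exact Subsingleton.elim _ _
  · obtain ⟨p, q, hp, -, -⟩ := p2_of_PV (PV_all hFT _ V rfl) A hA hcr
    refine ⟨p.1, p.2, fun a h1 h2 => ?_⟩
    have h3 := hp a (Prod.ext h1 h2)
    apply eq_of_smul_eq_smul (α := V)
    intro x
    rw [h3 x, one_smul]

end Cfsg.Agent.H62.TV
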